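import Mathlib
import Cfsg.Agent.Lib.Basic.Solv2
import Cfsg.Agent.Lib.Basic.Frattini

/-!
# Automorphisms of a `p`-group and the Frattini quotient
-/

set_option autoImplicit false
set_option linter.unusedSectionVars false
set_option linter.style.haveILetI false

namespace Cfsg.Agent.Lib.Struct

open scoped commutatorElement

/-- A free action gives divisibility of cardinalities. -/
theorem card_dvd_of_free {A X : Type*} [Group A] [MulAction A X] [Finite X]
    (h : ∀ x : X, MulAction.stabilizer A x = ⊥) : Nat.card A ∣ Nat.card X := by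
  rw [Nat.card_congr (MulAction.selfEquivOrbitsQuotientProd h), Nat.card_prod]
  exact dvd_mul_left _ _

/-- Additive automorphisms of a finite `F_p`-space. -/
theorem card_addAut_of_module {V : Type*} [AddCommGroup V] {p r : ℕ} [hp : Fact p.Prime]
    [Module (ZMod p) V] [Finite V] (hcard : Nat.card V = p ^ r) :
    Nat.card (V ≃+ V) = ∏ i ∈ Finset.range r, (p ^ r - p ^ i) := by
  haveI : Module.Finite (ZMod p) V := Module.Finite.of_finite
  have hfr : Module.finrank (ZMod p) V = r := by
    have h1 : Nat.card V = Nat.card (ZMod p) ^ Module.finrank (ZMod p) V :=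
      Module.natCard_eq_pow_finrank
    rw [hcard, Nat.card_zmod] at h1
    exact (Nat.pow_right_injective hp.out.two_le h1).symm
  let b : Module.Basis (Fin r) (ZMod p) V := Module.finBasisOfFinrankEq (ZMod p) V hfr
  let e1 : (V ≃+ V) ≃ (V ≃ₗ[ZMod p] V) :=
    { toFun := fun f => LinearEquiv.ofBijective (f.toAddMonoidHom.toZModLinearMap p) f.bijective
      invFun := fun f => f.toAddEquiv
      left_inv := fun f => by ext x; rfl
      right_inv := fun f => by ext x; rfl }
  have h2 : Nat.card (V ≃+ V) = Nat.card (V ≃ₗ[ZMod p] V) := Nat.card_congr e1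
  have h3 : Nat.card (V ≃ₗ[ZMod p] V) = Nat.card (GL (Fin r) (ZMod p)) :=
    Nat.card_congr ((Matrix.GeneralLinearGroup.toLin' b).toEquiv.trans
      (LinearMap.GeneralLinearGroup.generalLinearEquiv (ZMod p) V).toEquiv).symm
  rw [h2, h3, Matrix.card_GL_field, ZMod.card, Fin.prod_univ_eq_prod_range
    (fun i => p ^ r - p ^ i) r]

/-- The automorphism group of an elementary abelian group has the order of `GL_r(p)`. -/
theorem card_mulAut_elementary {Q : Type*} [Group Q] [Finite Q] {p r : ℕ} [hp : Fact p.Prime]
    (hcomm : ∀ a b : Q, a * b = b * a) (hc : Nat.card Q = p ^ r) (hexp : ∀ x : Q, x ^ p = 1) :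
    Nat.card (MulAut Q) = ∏ i ∈ Finset.range r, (p ^ r - p ^ i) := by
  letI : CommGroup Q := { ‹Group Q› with mul_comm := hcomm }
  have hcard : Nat.card (Additive Q) = p ^ r := by
    rw [← hc]; exact Nat.card_congr Additive.toMul
  have h1 : Nat.card (MulAut Q) = Nat.card (Additive Q ≃+ Additive Q) :=
    Nat.card_congr MulEquiv.toAdditive
  rw [h1]
  exact @card_addAut_of_module (Additive Q) _ p r hp (AddCommGroup.zmodModule (n := p) (fun x => by
    show Additive.ofMul ((Additive.toMul x) ^ p) = 0
    rw [hexp]; rfl)) _ hcard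

variable {P : Type*} [Group P] [Finite P] {p n r : ℕ} [hp : Fact p.Prime]

/-- Automorphisms trivial on the Frattini quotient. -/
theorem card_dvd_of_trivial_frattini (hP : Nat.card P = p ^ n) (hr : (frattini P).index = p ^ r)
    (A : Subgroup (MulAut P)) (hA : ∀ α ∈ A, ∀ x : P, α x * x⁻¹ ∈ frattini P) :
    Nat.card A ∣ p ^ (r * (n - r)) := by
  classical
  have hPp : IsPGroup p P := IsPGroup.of_card hP
  obtain ⟨T, -, hTc, hTg⟩ := (Cfsg.Agent.Lib.Basic.burnside_basis r hPp hr).1
    (Set.toFinite (Set.univ : Set P)).toFinset (by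
      rw [Set.Finite.coe_toFinset, Subgroup.closure_univ])
  -- `|Φ| = p^(n-r)`
  have hcard : Nat.card (frattini P) = p ^ (n - r) := by
    have h1 := Subgroup.card_mul_index (frattini P)
    rw [hr, hP] at h1
    have h2 : Nat.card (frattini P) ∣ p ^ n := ⟨_, h1.symm⟩
    obtain ⟨k, hk, hk2⟩ := (Nat.dvd_prime_pow hp.out).mp h2
    rw [hk2, ← pow_add] at h1
    have h3 : k + r = n := Nat.pow_right_injective hp.out.two_le h1
    rw [hk2]
    congr 1
    omega
  let X := {f : T → P // ∀ t : T, f t * (t : P)⁻¹ ∈ frattini P}
  have hΦ : ∀ α ∈ A, ∀ y ∈ frattini P, α y ∈ frattini P := by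
    intro α hα y hy
    have := (frattini P).mul_mem (hA α hα y) hy
    simpa using this
  letI : MulAction A X :=
    { smul := fun a f => ⟨fun t => (a : MulAut P) (f.1 t), fun t => by
        have h1 := hΦ a a.2 _ (f.2 t)
        have h2 := hA a a.2 t
        have h3 := (frattini P).mul_mem h1 h2
        have e : (a : MulAut P) (f.1 t * (t : P)⁻¹) * ((a : MulAut P) t * (t : P)⁻¹) =
            (a : MulAut P) (f.1 t) * (t : P)⁻¹ := by
          rw [map_mul, map_inv]; group
        rwa [e] at h3⟩
      one_smul := fun f => by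
        apply Subtype.ext
        rfl
      mul_smul := fun a b f => by
        apply Subtype.ext
        rfl }
  have hsm : ∀ (a : A) (f : X) (t : T), (a • f).1 t = (a : MulAut P) (f.1 t) := fun _ _ _ => rfl
  have hfree : ∀ f : X, MulAction.stabilizer A f = ⊥ := by
    intro f
    rw [eq_bot_iff]
    intro a ha
    rw [MulAction.mem_stabilizer_iff] at ha
    have hfix : ∀ t : T, (a : MulAut P) (f.1 t) = f.1 t := by
      intro t
      rw [← hsm, ha]
    -- the images generate
    have hgen : Subgroup.closure (Set.range f.1) = ⊤ := by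
      apply frattini_nongenerating
      rw [eq_top_iff, ← hTg, Subgroup.closure_le]
      intro t ht
      have e : t = (f.1 ⟨t, ht⟩ * t⁻¹)⁻¹ * f.1 ⟨t, ht⟩ := by group
      rw [e]
      refine Subgroup.mul_mem _ (Subgroup.inv_mem _ (Subgroup.mem_sup_right (f.2 ⟨t, ht⟩)))
        (Subgroup.mem_sup_left (Subgroup.subset_closure ⟨_, rfl⟩))
    have hall : ∀ y : P, (a : MulAut P) y = y := by
      intro y
      have hy : y ∈ Subgroup.closure (Set.range f.1) := by rw [hgen]; trivial
      have hle : Subgroup.closure (Set.range f.1) ≤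
          MonoidHom.eqLocus ((a : MulAut P).toMonoidHom) (MonoidHom.id P) := by
        rw [Subgroup.closure_le]
        rintro _ ⟨t, rfl⟩
        exact hfix t
      exact hle hy
    rw [Subgroup.mem_bot]
    apply Subtype.ext
    ext y
    exact hall y
  have hd : Nat.card A ∣ Nat.card X := card_dvd_of_free hfree
  have hX : Nat.card X = p ^ (r * (n - r)) := by
    let e : X ≃ (T → frattini P) :=
      { toFun := fun f t => ⟨f.1 t * (t : P)⁻¹, f.2 t⟩
        invFun := fun g => ⟨fun t => (g t : P) * t, fun t => by simp⟩
        left_inv := fun f => by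
          apply Subtype.ext
          funext t
          simp
        right_inv := fun g => by
          funext t
          apply Subtype.ext
          simp }
    rw [Nat.card_congr e, Nat.card_fun, hcard, ← pow_mul, Nat.card_eq_fintype_card,
      Fintype.card_coe, hTc, mul_comm]
  rwa [hX] at hd

/-- The homomorphism from `Aut P` to automorphisms of a quotient by a characteristic subgroup. -/
noncomputable def autQuot (N : Subgroup P) [N.Normal] [hc : N.Characteristic] : MulAut P →* MulAut (P ⧸ N) :=
  MonoidHom.mk' (fun α => QuotientGroup.congr N N α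
    ((Subgroup.characteristic_iff_map_eq.mp hc) α)) (by
    intro a b
    ext x
    induction x using QuotientGroup.induction_on with
    | H x => rfl)

theorem autQuot_apply (N : Subgroup P) [N.Normal] [hc : N.Characteristic] (α : MulAut P) (x : P) :
    autQuot N α (x : P ⧸ N) = ((α x : P) : P ⧸ N) := rfl

theorem card_mulAut_dvd (hP : Nat.card P = p ^ n) (hr : (frattini P).index = p ^ r) :
    Nat.card (MulAut P) ∣ p ^ (r * (n - r)) * ∏ i ∈ Finset.range r, (p ^ r - p ^ i) := by
  have hPp : IsPGroup p P := IsPGroup.of_card hP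
  haveI : Group.IsNilpotent P := hPp.isNilpotent
  haveI hΦn : (frattini P).Normal := inferInstance
  let f := autQuot (P := P) (frattini P)
  have h1 : Nat.card f.ker ∣ p ^ (r * (n - r)) := by
    apply card_dvd_of_trivial_frattini hP hr
    intro α hα x
    have h2 : f α = 1 := hα
    have h3 : f α (x : P ⧸ frattini P) = (x : P ⧸ frattini P) := by rw [h2]; rfl
    rw [autQuot_apply] at h3
    rw [QuotientGroup.eq_iff_div_mem] at h3
    simpa [div_eq_mul_inv] using h3
  have hQ : Nat.card (P ⧸ frattini P) = p ^ r := by
    rw [← hr]; rfl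
  have hcomm : ∀ a b : P ⧸ frattini P, a * b = b * a := by
    intro a b
    induction a using QuotientGroup.induction_on with
    | H a =>
    induction b using QuotientGroup.induction_on with
    | H b =>
    rw [← QuotientGroup.mk_mul, ← QuotientGroup.mk_mul, QuotientGroup.eq]
    apply Cfsg.Agent.Lib.Basic.commutator_le_frattini_of_isNilpotent
    have e : (a * b)⁻¹ * (b * a) = ⁅b⁻¹, a⁻¹⁆ := by
      rw [commutatorElement_def]; group
    rw [e, commutator_def]
    exact Subgroup.commutator_mem_commutator trivial trivial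
  have hexp : ∀ x : P ⧸ frattini P, x ^ p = 1 := by
    intro x
    induction x using QuotientGroup.induction_on with
    | H x =>
    rw [← QuotientGroup.mk_pow, QuotientGroup.eq_one_iff]
    exact Cfsg.Agent.Lib.Basic.pow_mem_frattini_of_isPGroup hPp x
  have h4 := card_mulAut_elementary hcomm hQ hexp
  have h5 : Nat.card f.range ∣ Nat.card (MulAut (P ⧸ frattini P)) := Subgroup.card_subgroup_dvd_card _
  rw [h4] at h5
  have h6 : Nat.card (MulAut P) = Nat.card f.range * Nat.card f.ker := by
    rw [Subgroup.card_eq_card_quotient_mul_card_subgroup f.ker]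
    congr 1
    exact Nat.card_congr (QuotientGroup.quotientKerEquivRange f).toEquiv
  rw [h6, mul_comm]
  exact mul_dvd_mul h1 h5

end Cfsg.Agent.Lib.Struct
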