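import Mathlib
import Cfsg.Agent.Lib.Struct.AutFrattini
import Cfsg.Agent.Lib.Fusion2.StrongRes
import Cfsg.Agent.Lib.Coprime.MetaGroup
import Cfsg.Agent.Lib.PGroups.Parts
import Cfsg.Agent.Lib.Components.Basic
import Cfsg.Agent.Lib.Transfer.Frobenius
import Cfsg.Prelude.Def_CaseTheorems

/-!
# `p`-nilpotence of groups with metacyclic Sylow subgroups
-/

set_option autoImplicit false
set_option linter.unusedSectionVars false
set_option linter.style.haveILetI false

namespace Cfsg.Agent.Lib.Struct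

open Subgroup
open scoped Pointwise

/-- An element outside a subgroup has a prime-power-order power outside it. -/
theorem exists_prime_power_not_mem {G : Type*} [Group G] [Finite G] (C : Subgroup G) :
    ∀ (n : ℕ) (g : G), orderOf g = n → g ∉ C →
      ∃ y ∈ zpowers g, ∃ q k : ℕ, q.Prime ∧ orderOf y = q ^ k ∧ y ∉ C := by
  intro n
  induction n using Nat.strong_induction_on with
  | _ n ih =>
  intro g hn hg
  have hg1 : orderOf g ≠ 1 := by
    intro h
    rw [orderOf_eq_one_iff] at h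
    exact hg (h ▸ C.one_mem)
  obtain ⟨q, hq, hqd⟩ := Nat.exists_prime_and_dvd hg1
  haveI : Fact q.Prime := ⟨hq⟩
  obtain ⟨a, b, hab, -, ⟨k, hk⟩, hb, ha', hb'⟩ := Cfsg.Agent.Lib.PGroups.exists_pPart q g
  by_cases ha : a ∈ C
  · have hbC : b ∉ C := by
      intro hbC
      exact hg (hab ▸ C.mul_mem ha hbC)
    have hlt : orderOf b < n := by
      have h1 : orderOf b ∣ orderOf g := orderOf_dvd_of_mem_zpowers hb'
      have h2 := Nat.le_of_dvd (orderOf_pos g) h1
      rw [hn] at h2
      refine lt_of_le_of_ne h2 ?_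
      intro h3
      apply hb
      rw [h3, ← hn]
      exact hqd
    obtain ⟨y, hy, q', k', hq', hy1, hy2⟩ := ih _ hlt b rfl hbC
    exact ⟨y, (Subgroup.zpowers_le.mpr hb') hy, q', k', hq', hy1, hy2⟩
  · exact ⟨a, ha', q, k, hq, hk, ha⟩

/-- An automorphism of prime-power order `q^m` of a `p`-group of order at most `p²`, nontrivial:
then `q ∣ p² - 1`. -/
theorem prime_dvd_of_mulAut_small {V : Type*} [Group V] [Finite V] {p q : ℕ} [hp : Fact p.Prime]
    [hq : Fact q.Prime] (hV : IsPGroup p V) (hc : Nat.card V ≤ p ^ 2) (hqp : q ≠ p) (σ : MulAut V)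
    (hσ : σ ≠ 1) {m : ℕ} (hm : orderOf σ = q ^ m) : q ∣ p ^ 2 - 1 := by
  classical
  let A : Subgroup (MulAut V) := zpowers σ
  have hA : IsPGroup q A := by
    refine IsPGroup.of_card (n := m) ?_
    rw [Nat.card_zpowers, hm]
  haveI : Finite (MulAction.fixedPoints A V) := inferInstance
  have hmod := hA.card_modEq_card_fixedPoints V
  -- fixed points form a proper subgroup
  let F : Subgroup V := MonoidHom.eqLocus (σ.toMonoidHom) (MonoidHom.id V)
  have hF : ∀ v : V, v ∈ F ↔ σ v = v := fun v => Iff.rfl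
  have hfix : ∀ v : V, v ∈ MulAction.fixedPoints A V ↔ v ∈ F := by
    intro v
    rw [MulAction.mem_fixedPoints, hF]
    constructor
    · intro h
      exact h ⟨σ, mem_zpowers σ⟩
    · rintro h ⟨a, ha⟩
      obtain ⟨n, rfl⟩ := mem_zpowers_iff.mp ha
      show (σ ^ n) v = v
      have h2 : v ∈ MulAction.fixedBy V σ := h
      have h3 : σ ^ n ∈ MulAction.stabilizer (MulAut V) v :=
        Subgroup.zpow_mem _ (MulAction.mem_stabilizer_iff.mpr h) n
      exact MulAction.mem_stabilizer_iff.mp h3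
  have hcardfix : Nat.card (MulAction.fixedPoints A V) = Nat.card F :=
    Nat.card_congr (Equiv.subtypeEquivRight hfix)
  rw [hcardfix] at hmod
  have hFne : F ≠ ⊤ := by
    intro h
    apply hσ
    ext v
    have : v ∈ F := by rw [h]; trivial
    exact this
  obtain ⟨a, ha⟩ := IsPGroup.iff_card.mp hV
  have hFd : Nat.card F ∣ p ^ a := ha ▸ Subgroup.card_subgroup_dvd_card F
  obtain ⟨b, hb, hFb⟩ := (Nat.dvd_prime_pow hp.out).mp hFd
  have hba : b < a := by
    refine lt_of_le_of_ne hb ?_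
    rintro rfl
    apply hFne
    apply Subgroup.eq_top_of_card_eq
    rw [hFb, ha]
  have ha2 : a ≤ 2 := by
    rw [ha] at hc
    exact (Nat.pow_le_pow_iff_right hp.out.one_lt).mp hc
  rw [ha, hFb] at hmod
  have h1 : q ∣ p ^ a - p ^ b := (Nat.modEq_iff_dvd' (Nat.pow_le_pow_right hp.out.pos hb)).mp hmod.symm
  have hqcop : Nat.Coprime q (p ^ b) :=
    Nat.Coprime.pow_right _ ((Nat.coprime_primes hq.out hp.out).mpr hqp)
  have h2 : p ^ a - p ^ b = p ^ b * (p ^ (a - b) - 1) := by
    rw [Nat.mul_sub, mul_one, ← pow_add]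
    congr 2
    omega
  rw [h2] at h1
  have h3 : q ∣ p ^ (a - b) - 1 := hqcop.dvd_of_dvd_mul_left h1
  have h4 : a - b = 1 ∨ a - b = 2 := by omega
  rcases h4 with h4 | h4
  · rw [h4, pow_one] at h3
    refine h3.trans ?_
    have e : p ^ 2 - 1 = (p - 1) * (p + 1) := by
      obtain ⟨r, rfl⟩ : ∃ r, p = r + 1 := ⟨p - 1, (Nat.sub_add_cancel hp.out.one_lt.le).symm⟩
      simp only [Nat.add_sub_cancel]
      have : (r + 1) ^ 2 = r * (r + 1 + 1) + 1 := by ring
      rw [this, Nat.add_sub_cancel]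
    rw [e]
    exact dvd_mul_right _ _
  · rwa [h4] at h3

theorem isMetacyclic_of_equiv {X Y : Type*} [Group X] [Group Y] (e : X ≃* Y) (hm : Cfsg.IsMetacyclic Y) :
    Cfsg.IsMetacyclic X := by
  obtain ⟨N, hN, hc, hq⟩ := hm
  let f : X →* Y ⧸ N := (QuotientGroup.mk' N).comp e.toMonoidHom
  refine ⟨f.ker, inferInstance, ?_, ?_⟩
  · let g : f.ker →* N :=
      { toFun := fun x => ⟨e x.1, by
          have h1 : f x.1 = 1 := x.2
          exact (QuotientGroup.eq_one_iff _).mp h1⟩
        map_one' := by apply Subtype.ext; simp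
        map_mul' := fun a b => by apply Subtype.ext; simp }
    apply isCyclic_of_injective g
    intro x y hxy
    have h1 : e x.1 = e y.1 := congrArg Subtype.val hxy
    exact Subtype.ext (e.injective h1)
  · exact isCyclic_of_injective (QuotientGroup.kerLift f) (QuotientGroup.kerLift_injective f)

variable {G : Type*} [Group G] [Finite G] {p : ℕ} [hp : Fact p.Prime]

theorem isMetacyclic_of_pSubgroup (S : Sylow p G) (hS : Cfsg.IsMetacyclic ↥(S : Subgroup G))
    {D : Subgroup G} (hD : IsPGroup p D) : Cfsg.IsMetacyclic D := by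
  obtain ⟨Q, hQ⟩ := hD.exists_le_sylow
  have h1 : Cfsg.IsMetacyclic ↥(Q : Subgroup G) := isMetacyclic_of_equiv (Sylow.equiv Q S) hS
  have h2 := Cfsg.Agent.Lib.Coprime.Meta.IsMetacyclic_subgroup h1 (D.subgroupOf Q)
  exact isMetacyclic_of_equiv (Subgroup.subgroupOfEquivOfLe hQ).symm h2

/-- The key step: a `q`-element acting nontrivially on a `p`-subgroup with metacyclic Sylow `p`. -/
theorem prime_dvd_of_metacyclic {D : Subgroup G} (hD : IsPGroup p D) (hm : Cfsg.IsMetacyclic D)
    {y : G} (hy : y ∈ normalizer (D : Set G)) (hyc : y ∉ centralizer (D : Set G)) {q k : ℕ}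
    (hq : q.Prime) (hqp : q ≠ p) (hok : orderOf y = q ^ k) : q ∣ p ^ 2 - 1 := by
  haveI : Fact q.Prime := ⟨hq⟩
  let φ : normalizer (D : Set G) →* MulAut D := D.normalizerMonoidHom
  let α : MulAut D := φ ⟨y, hy⟩
  have hα : ∀ x : D, ((α x : D) : G) = y * x * y⁻¹ := fun x => rfl
  have hα1 : α ≠ 1 := by
    intro h
    apply hyc
    rw [Subgroup.mem_centralizer_iff]
    intro d hd
    have h1 := hα ⟨d, hd⟩
    rw [h] at h1
    have h2 : d = y * d * y⁻¹ := h1
    calc d * y = (y * d * y⁻¹) * y := by rw [← h2]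
      _ = y * d := by group
  have hod : orderOf α ∣ q ^ k := by
    rw [← hok]
    have h1 : orderOf (⟨y, hy⟩ : normalizer (D : Set G)) = orderOf y := Subgroup.orderOf_mk y hy
    rw [← h1]
    exact orderOf_map_dvd φ _
  obtain ⟨m, -, hm'⟩ := (Nat.dvd_prime_pow hq).mp hod
  have hcop : (orderOf α).Coprime p := by
    rw [hm']
    exact Nat.Coprime.pow_left _ ((Nat.coprime_primes hq hp.out).mpr hqp)
  let σ : MulAut (↥D ⧸ frattini ↥D) := autQuot (frattini ↥D) α
  have hσ1 : σ ≠ 1 := by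
    intro h
    apply hα1
    apply Cfsg.Agent.Lib.Fusion2.aut_eq_one_of_frattini hD hcop
    intro x
    have h3 : σ (x : ↥D ⧸ frattini ↥D) = (x : ↥D ⧸ frattini ↥D) := by rw [h]; rfl
    rw [autQuot_apply] at h3
    rw [QuotientGroup.eq_iff_div_mem] at h3
    simpa [div_eq_mul_inv] using h3
  have hod2 : orderOf σ ∣ q ^ m := by
    rw [← hm']
    exact orderOf_map_dvd (autQuot (frattini ↥D)) α
  obtain ⟨j, -, hj⟩ := (Nat.dvd_prime_pow hq).mp hod2
  have hVp : IsPGroup p (↥D ⧸ frattini ↥D) := IsPGroup.to_quotient hD _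
  have hcard : Nat.card (↥D ⧸ frattini ↥D) ≤ p ^ 2 := by
    have h1 := Cfsg.Agent.Lib.Fusion2.card_le_of_metacyclic (p := p) hm (R := ⊤) (K := frattini ↥D) le_top
      (fun r _ k hk => (inferInstance : (frattini ↥D).Normal).conj_mem k hk r)
      (fun r _ => Cfsg.Agent.Lib.Basic.pow_mem_frattini_of_isPGroup hD r)
    rw [Subgroup.card_top, Subgroup.card_eq_card_quotient_mul_card_subgroup (frattini ↥D)] at h1
    exact Nat.le_of_mul_le_mul_right h1 Nat.card_pos
  exact prime_dvd_of_mulAut_small hVp hcard hqp σ hσ1 hj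

/-- The metacyclic criterion. -/
theorem hasNormalPComplement_iff_metacyclic (S : Sylow p G) (hS : Cfsg.IsMetacyclic ↥(S : Subgroup G)) :
    Cfsg.HasNormalPComplement p G ↔ Nat.Coprime (Nat.card (G ⧸ Cfsg.pPrimePCore p G)) (p ^ 2 - 1) := by
  have hKn : (Cfsg.pPrimeCore p G).Normal := (Cfsg.Agent.Lib.Components.pPrimeCore_mem p).1
  haveI := hKn
  have hKc : (Nat.card (Cfsg.pPrimeCore p G)).Coprime p := (Cfsg.Agent.Lib.Components.pPrimeCore_mem p).2
  have hOn : (Cfsg.pPrimePCore p G).Normal := by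
    unfold Cfsg.pPrimePCore
    exact (Cfsg.pCore_normal p _).comap _
  haveI := hOn
  constructor
  · rintro ⟨P, N, hN, hc⟩
    have hNc : (Nat.card N).Coprime p := by
      have h1 : (P : Subgroup G).index = Nat.card N := hc.index_eq_card
      rw [← h1]
      exact ((Nat.Prime.coprime_iff_not_dvd hp.out).mpr P.not_dvd_index).symm
    have hNK : N ≤ Cfsg.pPrimeCore p G := Cfsg.Agent.Lib.Components.le_pPrimeCore hN hNc
    have htop : Cfsg.pPrimePCore p G = ⊤ := by
      rw [eq_top_iff]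
      intro x _
      unfold Cfsg.pPrimePCore
      show (QuotientGroup.mk' (Cfsg.pPrimeCore p G)) x ∈ Cfsg.pCore p (G ⧸ Cfsg.pPrimeCore p G)
      have hP : IsPGroup p (⊤ : Subgroup (G ⧸ Cfsg.pPrimeCore p G)) := by
        rintro ⟨g, hg⟩
        obtain ⟨x, rfl⟩ := QuotientGroup.mk'_surjective _ g
        have hx : x ∈ ((N : Set G) * ((P : Subgroup G) : Set G)) := by
          rw [hc.mul_eq]
          trivial
        obtain ⟨n, hn, s, hs, rfl⟩ := Set.mem_mul.mp hx
        obtain ⟨k, hk⟩ := P.isPGroup' ⟨s, hs⟩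
        refine ⟨k, ?_⟩
        apply Subtype.ext
        have hk' : s ^ p ^ k = 1 := congrArg Subtype.val hk
        have e : (QuotientGroup.mk' (Cfsg.pPrimeCore p G)) (n * s) =
            (QuotientGroup.mk' (Cfsg.pPrimeCore p G)) s := by
          have h1 : (QuotientGroup.mk' (Cfsg.pPrimeCore p G)) n = 1 :=
            (QuotientGroup.eq_one_iff n).mpr (hNK hn)
          rw [map_mul, h1, one_mul]
        show ((QuotientGroup.mk' (Cfsg.pPrimeCore p G)) (n * s)) ^ p ^ k = 1
        rw [e, ← map_pow, hk', map_one]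
      exact Cfsg.Agent.Lib.Components.le_pCore inferInstance hP (Subgroup.mem_top _)
    have h1 : Nat.card (G ⧸ Cfsg.pPrimePCore p G) = 1 := by
      rw [htop]
      exact Subgroup.index_top
    rw [h1]
    exact Nat.coprime_one_left _
  · intro hcop
    apply Cfsg.Agent.Lib.Transfer.hasNormalPComplement_of_stable
    intro D hD g hg hgc
    by_contra hgn
    obtain ⟨y, hy, q, k, hq, hok, hyc⟩ := exists_prime_power_not_mem _ _ g rfl hgn
    have hyN : y ∈ normalizer (D : Set G) := (Subgroup.zpowers_le.mpr hg) hy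
    have hy1 : y ≠ 1 := by
      rintro rfl
      exact hyc (Subgroup.one_mem _)
    have hk0 : k ≠ 0 := by
      rintro rfl
      rw [pow_zero, orderOf_eq_one_iff] at hok
      exact hy1 hok
    have hqdy : q ∣ orderOf y := by
      rw [hok]; exact dvd_pow_self q hk0
    have hqp : q ≠ p := by
      rintro rfl
      have h1 : q ∣ orderOf g := hqdy.trans (orderOf_dvd_of_mem_zpowers hy)
      exact hq.one_lt.ne' (Nat.Coprime.eq_one_of_dvd hgc.symm h1)
    have hqd : q ∣ p ^ 2 - 1 :=
      prime_dvd_of_metacyclic hD (isMetacyclic_of_pSubgroup S hS hD) hyN hyc hq hqp hok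
    -- `y ∉ O_{p',p}`
    have hyO : y ∉ Cfsg.pPrimePCore p G := by
      intro hyO
      have h1 : (QuotientGroup.mk' (Cfsg.pPrimeCore p G)) y ∈ Cfsg.pCore p (G ⧸ Cfsg.pPrimeCore p G) := hyO
      have h2 : IsPGroup p (Cfsg.pCore p (G ⧸ Cfsg.pPrimeCore p G)) :=
        Cfsg.Agent.Lib.Components.pCore_isPGroup
      obtain ⟨j, hj⟩ := (IsPGroup.iff_orderOf.mp h2) ⟨_, h1⟩
      rw [Subgroup.orderOf_mk] at hj
      have h3 : orderOf ((QuotientGroup.mk' (Cfsg.pPrimeCore p G)) y) ∣ q ^ k := by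
        rw [← hok]; exact orderOf_map_dvd _ _
      rw [hj] at h3
      have h4 : (p ^ j).Coprime (q ^ k) :=
        Nat.Coprime.pow _ _ ((Nat.coprime_primes hp.out hq).mpr hqp.symm)
      have h5 : p ^ j = 1 := Nat.Coprime.eq_one_of_dvd h4 h3
      rw [h5, orderOf_eq_one_iff] at hj
      have h6 : y ∈ Cfsg.pPrimeCore p G := (QuotientGroup.eq_one_iff y).mp hj
      apply hyc
      rw [Subgroup.mem_centralizer_iff]
      intro d hd
      have hcomm : y * d * y⁻¹ * d⁻¹ ∈ D ⊓ Cfsg.pPrimeCore p G := by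
        refine Subgroup.mem_inf.mpr ⟨?_, ?_⟩
        · have := (Subgroup.mem_normalizer_iff.mp hyN d).mp hd
          exact D.mul_mem this (D.inv_mem hd)
        · have h7 := hKn.conj_mem _ (Subgroup.inv_mem _ h6) d
          have h8 := Subgroup.mul_mem _ h6 h7
          have e : y * (d * y⁻¹ * d⁻¹) = y * d * y⁻¹ * d⁻¹ := by group
          rwa [e] at h8
      have hdisj : Disjoint D (Cfsg.pPrimeCore p G) := by
        apply Subgroup.disjoint_of_coprime_natCard
        obtain ⟨a, ha⟩ := IsPGroup.iff_card.mp hD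
        rw [ha]
        exact Nat.Coprime.pow_left _ hKc.symm
      rw [hdisj.eq_bot, Subgroup.mem_bot] at hcomm
      have h9 : y * d * y⁻¹ = d := by
        rw [mul_inv_eq_one] at hcomm
        exact hcomm
      calc d * y = (y * d * y⁻¹) * y := by rw [h9]
        _ = y * d := by group
    -- so `q` divides the order of the quotient
    have hne : (QuotientGroup.mk' (Cfsg.pPrimePCore p G)) y ≠ 1 := by
      intro h
      exact hyO ((QuotientGroup.eq_one_iff y).mp h)
    have h3 : orderOf ((QuotientGroup.mk' (Cfsg.pPrimePCore p G)) y) ∣ q ^ k := by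
      rw [← hok]; exact orderOf_map_dvd _ _
    obtain ⟨j, -, hj⟩ := (Nat.dvd_prime_pow hq).mp h3
    have hj0 : j ≠ 0 := by
      rintro rfl
      rw [pow_zero, orderOf_eq_one_iff] at hj
      exact hne hj
    have h4 : q ∣ Nat.card (G ⧸ Cfsg.pPrimePCore p G) := by
      refine Dvd.dvd.trans ?_ (orderOf_dvd_natCard ((QuotientGroup.mk' (Cfsg.pPrimePCore p G)) y))
      rw [hj]
      exact dvd_pow_self q hj0
    exact Nat.not_coprime_of_dvd_of_dvd hq.one_lt h4 hqd hcop

end Cfsg.Agent.Lib.Struct
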