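import Cfsg.Agent.Lib.Struct.Basic
import Cfsg.Agent.Lib.Coprime.SZ
import Cfsg.Agent.Lib.Coprime.Conj
import Cfsg.Agent.Lib.Basic.Index
import Cfsg.Agent.Lib.Coprime.Sylow

/-!
# Sylow numbers: multiplicativity over normal subgroups.
-/

set_option autoImplicit false

namespace Cfsg.Agent.Lib.Struct

open Subgroup Cfsg

open scoped commutatorElement Pointwise

variable {G : Type*} [Group G] [Finite G] {p : ℕ} [Fact p.Prime]

/-- The normalizer inside `H` of `P ≤ H`. -/
theorem normalizer_subgroupOf_of_le {P H : Subgroup G} (h : P ≤ H) :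
    normalizer ((P.subgroupOf H : Subgroup H) : Set H) = (normalizer (P : Set G)).subgroupOf H := by
  ext g
  rw [Subgroup.mem_subgroupOf]
  constructor
  · intro hg
    apply Cfsg.Agent.Lib.Coprime.mem_normalizer_of_conj_le
    intro x hx
    have h1 : (⟨x, h hx⟩ : H) ∈ P.subgroupOf H := Subgroup.mem_subgroupOf.mpr hx
    have h2 := (Subgroup.mem_normalizer_iff.mp hg _).mp h1
    exact Subgroup.mem_subgroupOf.mp h2
  · intro hg
    rw [Subgroup.mem_normalizer_iff]
    intro x
    have h2 := Subgroup.mem_normalizer_iff.mp hg (x : G)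
    simp only [SetLike.mem_coe, Subgroup.mem_subgroupOf] at h2 ⊢
    simpa using h2

/-- Sylow number of a subgroup in terms of the ambient normalizer. -/
theorem card_sylow_subgroup {P H : Subgroup G} (S : Sylow p H) (hS : (S : Subgroup H) = P.subgroupOf H)
    (h : P ≤ H) : Nat.card (Sylow p H) = (normalizer (P : Set G)).relIndex H := by
  rw [S.card_eq_index_normalizer]
  show (normalizer ((S : Subgroup H) : Set H)).index = _
  rw [hS, normalizer_subgroupOf_of_le h]
  rfl

/-- The normalizer of the image of a Sylow subgroup in a quotient. -/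
theorem normalizer_map_mk (P : Sylow p G) (K : Subgroup G) [K.Normal] :
    normalizer (((P : Subgroup G).map (QuotientGroup.mk' K) : Subgroup (G ⧸ K)) : Set (G ⧸ K)) =
      (normalizer ((P : Subgroup G) : Set G) ⊔ K).map (QuotientGroup.mk' K) := by
  set π := QuotientGroup.mk' K with hπ
  have hπsurj : Function.Surjective π := QuotientGroup.mk'_surjective K
  apply le_antisymm
  · intro gb hgb
    obtain ⟨g, rfl⟩ := hπsurj gb
    refine ⟨g, ?_, rfl⟩
    have hpi : ∀ x, π x = 1 ↔ x ∈ K := fun x => QuotientGroup.eq_one_iff x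
    have hle : (P : Subgroup G).map (MulAut.conj g).toMonoidHom ≤ (P : Subgroup G) ⊔ K := by
      rintro _ ⟨x, hx, rfl⟩
      have h1 : π g * π x * (π g)⁻¹ ∈ (P : Subgroup G).map π :=
        (Subgroup.mem_normalizer_iff.mp hgb _).mp ⟨x, hx, rfl⟩
      obtain ⟨y, hy, hye⟩ := h1
      have h2 : π (y⁻¹ * (g * x * g⁻¹)) = 1 := by
        rw [map_mul, map_inv, hye, map_mul, map_mul, map_inv]
        group
      have h3 := (hpi _).mp h2
      have h4 : g * x * g⁻¹ = y * (y⁻¹ * (g * x * g⁻¹)) := by group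
      show g * x * g⁻¹ ∈ _
      rw [h4]
      exact Subgroup.mul_mem _ (Subgroup.mem_sup_left hy) (Subgroup.mem_sup_right h3)
    have hidx : ¬ p ∣ (P : Subgroup G).relIndex ((P : Subgroup G) ⊔ K) := by
      intro hd
      apply P.not_dvd_index
      rw [← Subgroup.relIndex_mul_index (le_sup_left : (P : Subgroup G) ≤ (P : Subgroup G) ⊔ K)]
      exact Dvd.dvd.mul_right hd _
    obtain ⟨w, hw, hwe⟩ := Cfsg.Agent.Lib.Coprime.conj_in_of_isPGroup ((P : Subgroup G) ⊔ K) P
      ((P : Subgroup G).map (MulAut.conj g).toMonoidHom) le_sup_left hle (P.isPGroup'.map _) hidx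
      (Cfsg.Agent.Lib.Coprime.card_conj_map _ _).symm
    obtain ⟨u, hu, k, hk, rfl⟩ := Subgroup.mem_sup_of_normal_right.mp hw
    obtain ⟨k', hk'⟩ : ∃ k', k' = u * k * u⁻¹ := ⟨_, rfl⟩
    have hk'K : k' ∈ K := hk' ▸ ‹K.Normal›.conj_mem k hk u
    have huk : u * k = k' * u := by rw [hk']; group
    have hPu : (P : Subgroup G).map (MulAut.conj u).toMonoidHom = P :=
      (Cfsg.Agent.Lib.Coprime.conj_map_eq_iff_mem_normalizer _ _).mpr (Subgroup.le_normalizer hu)
    rw [huk, ← Cfsg.Agent.Lib.Coprime.conj_map_conj_map, hPu] at hwe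
    have hn : k'⁻¹ * g ∈ normalizer ((P : Subgroup G) : Set G) := by
      rw [← Cfsg.Agent.Lib.Coprime.conj_map_eq_iff_mem_normalizer,
        ← Cfsg.Agent.Lib.Coprime.conj_map_conj_map, hwe, Cfsg.Agent.Lib.Coprime.conj_map_conj_map,
        inv_mul_cancel, Cfsg.Agent.Lib.Coprime.conj_map_one]
    have : g = (k' * (k'⁻¹ * g)) := by group
    rw [this, sup_comm]
    exact Subgroup.mul_mem _ (Subgroup.mem_sup_left hk'K) (Subgroup.mem_sup_right hn)
  · rintro _ ⟨g, hg, rfl⟩
    obtain ⟨a, ha, k, hk, rfl⟩ := Subgroup.mem_sup_of_normal_right.mp hg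
    have h1 : π k = 1 := (QuotientGroup.eq_one_iff k).mpr hk
    rw [map_mul, h1, mul_one]
    exact Subgroup.le_normalizer_map π ⟨a, ha, rfl⟩

/-- Sylow number of a quotient. -/
theorem card_sylow_quotient (P : Sylow p G) (K : Subgroup G) [K.Normal] :
    Nat.card (Sylow p (G ⧸ K)) = (normalizer ((P : Subgroup G) : Set G) ⊔ K).index := by
  have hπsurj : Function.Surjective (QuotientGroup.mk' K) := QuotientGroup.mk'_surjective K
  rw [(P.mapSurjective hπsurj).card_eq_index_normalizer]
  show (normalizer (((P.mapSurjective hπsurj : Sylow p (G ⧸ K)) : Subgroup (G ⧸ K)) : Set (G ⧸ K))).index = _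
  rw [Sylow.coe_mapSurjective, normalizer_map_mk, Cfsg.Agent.Lib.Basic.index_map_mk le_sup_right]

/-- **Multiplicativity of Sylow numbers**, first layer. -/
theorem card_sylow_eq_mul (P : Sylow p G) (K : Subgroup G) [K.Normal] :
    Nat.card (Sylow p G) =
      Nat.card (Sylow p (G ⧸ K)) * (normalizer ((P : Subgroup G) : Set G)).relIndex K := by
  set B : Subgroup G := normalizer ((P : Subgroup G) : Set G) with hB
  have h1 : Nat.card (Sylow p G) = B.index := P.card_eq_index_normalizer
  have h2 : B.relIndex K = B.relIndex (K ⊔ B) := relIndex_eq_relIndex_sup K B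
  have h3 : B.relIndex (K ⊔ B) * (K ⊔ B).index = B.index := Subgroup.relIndex_mul_index le_sup_right
  rw [h1, card_sylow_quotient P K, ← hB, h2, sup_comm K B, mul_comm]
  rw [sup_comm K B] at h3
  exact h3.symm

/-- The complementary factor is `≡ 1` modulo `p`. -/
theorem relIndex_normalizer_modEq_one (P : Sylow p G) (K : Subgroup G) [K.Normal] :
    (normalizer ((P : Subgroup G) : Set G)).relIndex K ≡ 1 [MOD p] := by
  set B : Subgroup G := normalizer ((P : Subgroup G) : Set G) with hB
  have h2 : B.relIndex K = B.relIndex (K ⊔ B) := relIndex_eq_relIndex_sup K B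
  rw [h2]
  have hPH : (P : Subgroup G) ≤ K ⊔ B := le_trans Subgroup.le_normalizer le_sup_right
  have h3 := card_sylow_subgroup (P.subtype hPH) (Sylow.coe_subtype P hPH) hPH
  rw [← hB] at h3
  rw [← h3]
  exact card_sylow_modEq_one p _

/-- The complementary factor divides `|K|`. -/
theorem relIndex_normalizer_dvd (P : Subgroup G) (K : Subgroup G) :
    (normalizer (P : Set G)).relIndex K ∣ Nat.card K :=
  Subgroup.relIndex_dvd_card _ _

/-- `A ⊓ W` and `A` have the same index in subgroups of `W`. -/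
theorem relIndex_inf_of_le (A : Subgroup G) {W K : Subgroup G} (h : K ≤ W) :
    (A ⊓ W).relIndex K = A.relIndex K := by
  rw [← Subgroup.inf_relIndex_right (A ⊓ W) K, ← Subgroup.inf_relIndex_right A K, inf_assoc,
    inf_of_le_right h]

/-- **Sylow numbers over a normal subgroup**: the three-factor formula, stated with the
normalizer index in the middle. -/
theorem relIndex_normalizer_eq_mul (P : Sylow p G) (K : Subgroup G) [K.Normal] (N : Subgroup G)
    (hN : N = ((P : Subgroup G) ⊔ K) ⊓ normalizer (((P : Subgroup G) ⊓ K : Subgroup G) : Set G)) :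
    (normalizer ((P : Subgroup G) : Set G)).relIndex K =
      (normalizer (((P : Subgroup G) ⊓ K : Subgroup G) : Set G)).relIndex K *
        (normalizer ((P : Subgroup G) : Set G)).relIndex N := by
  set T : Subgroup G := (P : Subgroup G) ⊓ K with hT
  set W : Subgroup G := (P : Subgroup G) ⊔ K with hW
  have hTK : T ≤ K := inf_le_right
  have hKW : K ≤ W := le_sup_right
  have hNW : N ≤ W := hN ▸ inf_le_left
  have hNT : N ≤ normalizer (T : Set G) := hN ▸ inf_le_right
  have hidx : ¬ p ∣ T.relIndex K := by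
    have := Cfsg.Agent.Lib.Coprime.sylow_relIndex_normal_not_dvd P K
    rw [Subgroup.relIndex, hT]
    rw [Subgroup.inf_subgroupOf_right]
    exact this
  -- Frattini
  have hfr : K ⊔ N = W := by
    apply le_antisymm (sup_le hKW hNW)
    intro g hg
    have hle : T.map (MulAut.conj g).toMonoidHom ≤ K := by
      rintro _ ⟨x, hx, rfl⟩
      exact ‹K.Normal›.conj_mem x (hTK hx) g
    obtain ⟨k, hk, hke⟩ := Cfsg.Agent.Lib.Coprime.conj_in_of_isPGroup K T
      (T.map (MulAut.conj g).toMonoidHom) hTK hle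
      (((P.isPGroup'.to_le inf_le_left)).map _) hidx
      (Cfsg.Agent.Lib.Coprime.card_conj_map _ _).symm
    have hn : k⁻¹ * g ∈ normalizer (T : Set G) := by
      rw [← Cfsg.Agent.Lib.Coprime.conj_map_eq_iff_mem_normalizer,
        ← Cfsg.Agent.Lib.Coprime.conj_map_conj_map, hke, Cfsg.Agent.Lib.Coprime.conj_map_conj_map,
        inv_mul_cancel, Cfsg.Agent.Lib.Coprime.conj_map_one]
    have hn2 : k⁻¹ * g ∈ N := by
      rw [hN]
      exact Subgroup.mem_inf.mpr ⟨W.mul_mem (W.inv_mem (hKW hk)) hg, hn⟩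
    have : g = k * (k⁻¹ * g) := by group
    rw [this]
    exact Subgroup.mul_mem _ (Subgroup.mem_sup_left hk) (Subgroup.mem_sup_right hn2)
  set B : Subgroup G := normalizer ((P : Subgroup G) : Set G) ⊓ W with hB
  have hBN : B ≤ N := by
    intro g hg
    obtain ⟨hg1, hg2⟩ := Subgroup.mem_inf.mp hg
    rw [hN]
    refine Subgroup.mem_inf.mpr ⟨hg2, Cfsg.Agent.Lib.Coprime.mem_normalizer_of_conj_le _ _ ?_⟩
    intro x hx
    obtain ⟨hx1, hx2⟩ := Subgroup.mem_inf.mp hx
    exact Subgroup.mem_inf.mpr ⟨(Subgroup.mem_normalizer_iff.mp hg1 x).mp hx1,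
      ‹K.Normal›.conj_mem x hx2 g⟩
  have hKB : K ⊔ B = W := by
    apply le_antisymm (sup_le hKW inf_le_right)
    refine sup_le ?_ le_sup_left
    exact le_trans (le_inf Subgroup.le_normalizer le_sup_left) le_sup_right
  have e1 : (normalizer ((P : Subgroup G) : Set G)).relIndex K = B.relIndex W := by
    rw [← relIndex_inf_of_le _ hKW, relIndex_eq_relIndex_sup K, hKB]
  have e2 : (normalizer (T : Set G)).relIndex K = N.relIndex W := by
    have h1 : N.relIndex K = (normalizer (T : Set G)).relIndex K := by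
      rw [hN, ← relIndex_inf_of_le (normalizer (T : Set G)) hKW, inf_comm]
    rw [← h1, relIndex_eq_relIndex_sup K, hfr]
  have e3 : (normalizer ((P : Subgroup G) : Set G)).relIndex N = B.relIndex N :=
    (relIndex_inf_of_le _ hNW).symm
  rw [e1, e2, e3, mul_comm]
  exact (Subgroup.relIndex_mul_relIndex B N W hBN hNW).symm

/-- A `p`-group acting on a subgroup by conjugation: fixed points count modulo `p`. -/
theorem card_modEq_inf_centralizer {A Q : Subgroup G} (hA : IsPGroup p A)
    (hn : A ≤ normalizer (Q : Set G)) :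
    Nat.card Q ≡ Nat.card (Q ⊓ centralizer (A : Set G) : Subgroup G) [MOD p] := by
  classical
  letI : MulAction A Q :=
    { smul := fun a x => ⟨(a : G) * x * (a : G)⁻¹, (Subgroup.mem_normalizer_iff.mp (hn a.2) x).mp x.2⟩
      one_smul := fun x => Subtype.ext (by
        show ((1 : A) : G) * x * ((1 : A) : G)⁻¹ = x
        simp)
      mul_smul := fun a b x => Subtype.ext (by
        show ((a * b : A) : G) * x * ((a * b : A) : G)⁻¹ = (a : G) * ((b : G) * x * (b : G)⁻¹) * (a : G)⁻¹
        simp only [Subgroup.coe_mul]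
        group) }
  have hsmul : ∀ (a : A) (x : Q), ((a • x : Q) : G) = (a : G) * x * (a : G)⁻¹ := fun _ _ => rfl
  have h1 := hA.card_modEq_card_fixedPoints Q
  have h2 : Nat.card (MulAction.fixedPoints A Q) =
      Nat.card (Q ⊓ centralizer (A : Set G) : Subgroup G) := by
    refine Nat.card_congr
      { toFun := fun x => ⟨x.1.1, Subgroup.mem_inf.mpr ⟨x.1.2, ?_⟩⟩
        invFun := fun y => ⟨⟨y.1, (Subgroup.mem_inf.mp y.2).1⟩, ?_⟩
        left_inv := fun x => rfl
        right_inv := fun y => rfl }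
    · rw [Subgroup.mem_centralizer_iff]
      intro a ha
      have h3 : (⟨a, ha⟩ : A) • x.1 = x.1 := x.2 ⟨a, ha⟩
      have h4 := congrArg Subtype.val h3
      rw [hsmul] at h4
      exact mul_inv_eq_iff_eq_mul.mp h4
    · intro a
      apply Subtype.ext
      rw [hsmul]
      have h5 := Subgroup.mem_centralizer_iff.mp (Subgroup.mem_inf.mp y.2).2 a a.2
      show (a : G) * y.1 * (a : G)⁻¹ = y.1
      rw [h5]
      group
  rw [h2] at h1
  exact h1

/-- A `p`-group has exactly one Sylow `p`-subgroup. -/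
theorem card_sylow_of_isPGroup {H : Type*} [Group H] [Finite H] (hH : IsPGroup p H) :
    Nat.card (Sylow p H) = 1 := by
  have hall : ∀ Q : Sylow p H, (Q : Subgroup H) = ⊤ := fun Q =>
    (Q.is_maximal' (hH.to_subgroup ⊤) le_top).symm
  rw [Nat.card_eq_one_iff_unique]
  refine ⟨⟨fun a b => Sylow.ext (by rw [hall a, hall b])⟩, inferInstance⟩

/-- Groups with a normal `p`-complement: the prime power parts of the Sylow `p`-number are all
congruent to `1` modulo `p`. -/
theorem factorization_pow_modEq_one_of_complement {X : Type*} [Group X] [Finite X] (K₀ : Subgroup X)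
    [K₀.Normal] (hc : ¬ p ∣ Nat.card K₀) (hi : ∃ k, K₀.index = p ^ k) (q : ℕ) (hq : q.Prime) :
    q ^ (Nat.card (Sylow p X)).factorization q ≡ 1 [MOD p] := by
  classical
  haveI : Fact q.Prime := ⟨hq⟩
  obtain ⟨P⟩ : Nonempty (Sylow p X) := inferInstance
  have hQp : IsPGroup p (X ⧸ K₀) := by
    obtain ⟨k, hk⟩ := hi
    exact IsPGroup.of_card (n := k) hk
  have h1 := card_sylow_eq_mul P K₀
  rw [card_sylow_of_isPGroup hQp, one_mul] at h1
  obtain ⟨A, hAdef⟩ : ∃ A : Subgroup X, A = (P : Subgroup X) := ⟨_, rfl⟩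
  rw [← hAdef] at h1
  have hAp : IsPGroup p A := hAdef ▸ P.isPGroup'
  have hAnil : Group.IsNilpotent A := hAp.isNilpotent
  have hpc : Nat.Coprime p (Nat.card K₀) := (Nat.Prime.coprime_iff_not_dvd Fact.out).mpr hc
  have hcop : Nat.Coprime (Nat.card A) (Nat.card K₀) := by
    obtain ⟨n, hn⟩ := IsPGroup.iff_card.mp hAp
    rw [hn]
    exact Nat.Coprime.pow_left n hpc
  have act : Cfsg.Agent.Lib.Coprime.CoprimeAction A K₀ :=
    ⟨by rw [Subgroup.normalizer_eq_top_iff.mpr ‹K₀.Normal›]; exact le_top, hcop, Or.inl inferInstance⟩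
  set C : Subgroup X := K₀ ⊓ centralizer (A : Set X) with hC
  have h2 : (normalizer (A : Set X)).relIndex K₀ = C.relIndex K₀ := by
    rw [← Subgroup.inf_relIndex_right (normalizer (A : Set X)) K₀,
      ← Subgroup.inf_relIndex_right C K₀]
    congr 1
    apply le_antisymm
    · intro x hx
      obtain ⟨hx1, hx2⟩ := Subgroup.mem_inf.mp hx
      exact Subgroup.mem_inf.mpr ⟨act.mem_centralizer_of_mem_normalizer hx2 hx1, hx2⟩
    · intro x hx
      obtain ⟨hx1, hx2⟩ := Subgroup.mem_inf.mp hx
      obtain ⟨hx3, hx4⟩ := Subgroup.mem_inf.mp hx1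
      refine Subgroup.mem_inf.mpr ⟨?_, hx2⟩
      rw [Subgroup.mem_normalizer_iff]
      intro y
      constructor
      · intro hy
        rw [Subgroup.mem_centralizer_iff] at hx4
        have h5 := hx4 y hy
        rw [← h5]
        simpa using hy
      · intro hy
        rw [Subgroup.mem_centralizer_iff] at hx4
        have h7 := hx4 _ hy
        have h8 : y = x * y * x⁻¹ := by
          have h9 : x * y = x * (x * y * x⁻¹) := by
            rw [← h7]
            group
          exact mul_left_cancel h9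
        rw [h8]
        exact hy
  rw [h2] at h1
  obtain ⟨D, hD⟩ := Cfsg.Agent.Lib.Coprime.exists_isSylowOf q C
  have hDK : D ≤ K₀ := hD.le.trans inf_le_left
  have hAD : A ≤ normalizer (D : Set X) := by
    intro a ha
    apply Cfsg.Agent.Lib.Coprime.mem_normalizer_of_conj_le
    intro x hx
    have h3 := (Subgroup.mem_inf.mp (hD.le hx)).2
    rw [Subgroup.mem_centralizer_iff] at h3
    have h4 := h3 a ha
    rw [h4]
    simpa using hx
  obtain ⟨Q₀, hQ₀, hAQ, hDQ⟩ := act.exists_invariant_sylow_ge hDK hD.isP hAD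
  have hQC : Q₀ ⊓ C = D := Cfsg.Agent.Lib.Coprime.eq_of_isPGroup_of_not_dvd_relIndex
    (le_inf hDQ hD.le) inf_le_right (hQ₀.isP.to_le inf_le_left) hD.not_dvd
  have hmod := card_modEq_inf_centralizer hAp hAQ
  have hQC2 : Q₀ ⊓ centralizer (A : Set X) = D := by
    rw [← hQC, hC, ← inf_assoc, inf_of_le_left hQ₀.le]
  rw [hQC2] at hmod
  have ht := Cfsg.Agent.Lib.Coprime.card_mul_relIndex hDQ
  obtain ⟨t, htdef⟩ : ∃ t, t = D.relIndex Q₀ := ⟨_, rfl⟩
  rw [← htdef] at ht
  -- `t ≡ 1`
  have hDpos : 0 < Nat.card D := Nat.card_pos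
  have hDcop : Nat.gcd p (Nat.card D) = 1 :=
    Nat.Coprime.coprime_dvd_right (Subgroup.card_dvd_of_le hDK) hpc
  have ht1 : t ≡ 1 [MOD p] := by
    have h5 : Nat.card D * t ≡ Nat.card D * 1 [MOD p] := by
      rw [ht, mul_one]
      exact hmod
    exact Nat.ModEq.cancel_left_of_coprime hDcop h5
  -- `t` is the `q`-part of the index
  have e1 := Cfsg.Agent.Lib.Coprime.card_mul_relIndex (inf_le_left : C ≤ K₀)
  have e2 := Cfsg.Agent.Lib.Coprime.card_mul_relIndex hD.le
  have e3 := Cfsg.Agent.Lib.Coprime.card_mul_relIndex hQ₀.le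
  obtain ⟨a, hadef⟩ : ∃ a, a = C.relIndex K₀ := ⟨_, rfl⟩
  rw [← hadef] at e1 h1
  have hm' := hD.not_dvd
  have hm := hQ₀.not_dvd
  obtain ⟨m', hm'def⟩ : ∃ m', m' = D.relIndex C := ⟨_, rfl⟩
  obtain ⟨m, hmdef⟩ : ∃ m, m = Q₀.relIndex K₀ := ⟨_, rfl⟩
  rw [← hm'def] at e2 hm'
  rw [← hmdef] at e3 hm
  have e4 : m' * a = t * m := by
    apply Nat.eq_of_mul_eq_mul_left hDpos
    calc Nat.card D * (m' * a) = (Nat.card D * m') * a := by ring
      _ = Nat.card K₀ := by rw [e2, e1]
      _ = Nat.card Q₀ * m := e3.symm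
      _ = Nat.card D * (t * m) := by rw [← ht]; ring
  have htq : ∃ c, t = q ^ c := by
    obtain ⟨j, hj⟩ := IsPGroup.iff_card.mp hQ₀.isP
    have : t ∣ q ^ j := by
      rw [← hj, ← ht]
      exact Dvd.intro_left _ rfl
    obtain ⟨c, -, hc⟩ := (Nat.dvd_prime_pow hq).mp this
    exact ⟨c, hc⟩
  obtain ⟨c, hcdef⟩ := htq
  have ham : m ≠ 0 := fun h => hm (by rw [h]; exact dvd_zero q)
  have ham' : m' ≠ 0 := fun h => hm' (by rw [h]; exact dvd_zero q)
  have ha0 : a ≠ 0 := by
    intro h
    rw [h] at e1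
    have : 0 < Nat.card K₀ := Nat.card_pos
    omega
  have ht0 : t ≠ 0 := by
    rw [hcdef]
    exact pow_ne_zero _ hq.ne_zero
  have hfac := congrArg (fun n => Nat.factorization n q) e4
  simp only [Nat.factorization_mul ham' ha0, Nat.factorization_mul ht0 ham, Finsupp.add_apply] at hfac
  rw [Nat.factorization_eq_zero_of_not_dvd hm', Nat.factorization_eq_zero_of_not_dvd hm,
    hcdef, hq.factorization_pow] at hfac
  simp only [Finsupp.single_eq_same] at hfac
  rw [h1]
  have : a.factorization q = c := by omega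
  rw [this, ← hcdef]
  exact ht1

end Cfsg.Agent.Lib.Struct
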