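import Mathlib
import Cfsg.Agent.Lib.Struct.SylowCount
import Cfsg.Agent.Lib.Struct.AutFrattini
import Cfsg.Agent.Lib.Struct.Metacyc

/-!
# Sylow numbers of the form `1 + 2 p`.

Structure of a minimal finite group with exactly `1 + 2 p` Sylow `p`-subgroups.
-/

set_option autoImplicit false

universe u

namespace Cfsg.Agent.Lib.Struct.SylowTwoP

open Subgroup MulAction

variable {G : Type*} [Group G] [Finite G] {p : ℕ} [Fact p.Prime]

/-- A minimal counterexample to "`1 + 2p` is not a Sylow number". -/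
structure Min (p : ℕ) [Fact p.Prime] (G : Type*) [Group G] [Finite G] : Prop where
  card : Nat.card (Sylow p G) = 1 + 2 * p
  normal : ∀ H : Subgroup G, H.Normal → ¬ p ∣ H.index → H = ⊤
  faithful : ∀ g : G, (∀ Q : Sylow p G, g • Q = Q) → g = 1

theorem sylow_le_of_normal (H : Subgroup G) [H.Normal] (h : ¬ p ∣ H.index) (P : Sylow p G) :
    (P : Subgroup G) ≤ H := by
  intro x hx
  have hp : p.Prime := Fact.out
  obtain ⟨k, hk⟩ := (IsPGroup.iff_orderOf.mp P.isPGroup') ⟨x, hx⟩
  have hk' : orderOf x = p ^ k := by rwa [Subgroup.orderOf_mk] at hk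
  have h1 : orderOf (QuotientGroup.mk' H x) ∣ Nat.card (G ⧸ H) := orderOf_dvd_natCard _
  have h2 : orderOf (QuotientGroup.mk' H x) ∣ p ^ k := hk' ▸ orderOf_map_dvd _ _
  obtain ⟨j, _, hj⟩ := (Nat.dvd_prime_pow hp).mp h2
  have h3 : j = 0 := by
    by_contra hne
    apply h
    have : p ∣ Nat.card (G ⧸ H) := by
      rw [hj] at h1
      exact (dvd_pow_self p hne).trans h1
    simpa [Subgroup.index] using this
  rw [h3, pow_zero, orderOf_eq_one_iff] at hj
  exact (QuotientGroup.eq_one_iff x).mp hj

theorem card_sylow_normal_subgroup (H : Subgroup G) [H.Normal] (h : ¬ p ∣ H.index) :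
    Nat.card (Sylow p H) = Nat.card (Sylow p G) := by
  obtain ⟨P⟩ : Nonempty (Sylow p G) := inferInstance
  have hle := sylow_le_of_normal H h P
  rw [card_sylow_subgroup (P := (P : Subgroup G)) (H := H) (P.subtype hle) (Sylow.coe_subtype P hle) hle,
    P.card_eq_index_normalizer]
  have hn := card_sylow_eq_mul P H
  have h1 : Nat.card (Sylow p (G ⧸ H)) = 1 := by
    have hnot : ¬ p ∣ Nat.card (G ⧸ H) := by simpa [Subgroup.index] using h
    have h2 : ∀ Q : Sylow p (G ⧸ H), (Q : Subgroup (G ⧸ H)) = ⊥ := by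
      intro Q
      have := Q.isPGroup'.card_eq_or_dvd
      rcases this with h3 | h3
      · exact Subgroup.card_eq_one.mp h3
      · exact absurd (h3.trans (Subgroup.card_subgroup_dvd_card _)) hnot
    rw [Nat.card_eq_one_iff_unique]
    refine ⟨⟨fun a b => Sylow.ext ((h2 a).trans (h2 b).symm)⟩, inferInstance⟩
  rw [h1, one_mul] at hn
  rw [← hn, P.card_eq_index_normalizer]

theorem card_sylow_quotient_of_le (K : Subgroup G) [K.Normal]
    (h : ∀ Q : Sylow p G, K ≤ normalizer ((Q : Subgroup G) : Set G)) :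
    Nat.card (Sylow p (G ⧸ K)) = Nat.card (Sylow p G) := by
  obtain ⟨P⟩ : Nonempty (Sylow p G) := inferInstance
  rw [card_sylow_eq_mul P K, Subgroup.relIndex_eq_one.mpr (h P), mul_one]

/-- Reduction to minimal counterexamples. -/
theorem exists_min (n : ℕ) : ∀ (G : Type u) [Group G] [Finite G], Nat.card G = n →
    Nat.card (Sylow p G) = 1 + 2 * p → ∃ (G' : Type u) (_ : Group G') (_ : Finite G'), Min p G' := by
  induction n using Nat.strong_induction_on with
  | _ n ih =>
    intro G _ _ hn hc
    by_cases h1 : ∃ H : Subgroup G, H.Normal ∧ ¬ p ∣ H.index ∧ H ≠ ⊤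
    · obtain ⟨H, hH, hi, hne⟩ := h1
      haveI := hH
      have hlt : Nat.card H < n := by
        rw [← hn]
        have hdvd := Subgroup.card_subgroup_dvd_card H
        have hle := Nat.le_of_dvd Nat.card_pos hdvd
        refine lt_of_le_of_ne hle fun heq => hne ?_
        exact Subgroup.eq_top_of_card_eq H heq
      exact ih _ hlt H rfl ((card_sylow_normal_subgroup H hi).trans hc)
    by_cases h2 : ∀ g : G, (∀ Q : Sylow p G, g • Q = Q) → g = 1
    · refine ⟨G, inferInstance, inferInstance, hc, ?_, h2⟩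
      intro H hH hi
      by_contra hne
      exact h1 ⟨H, hH, hi, hne⟩
    · push_neg at h2
      obtain ⟨g, hg, hne⟩ := h2
      -- the kernel of the action
      set K : Subgroup G := (MulAction.toPermHom G (Sylow p G)).ker with hK
      have hgK : g ∈ K := by
        rw [hK, MonoidHom.mem_ker]
        exact Equiv.ext fun Q => by simpa using hg Q
      haveI : K.Normal := MonoidHom.normal_ker _
      have hKle : ∀ Q : Sylow p G, K ≤ normalizer ((Q : Subgroup G) : Set G) := by
        intro Q x hx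
        rw [hK, MonoidHom.mem_ker] at hx
        have := congrArg (fun f => f Q) hx
        exact Sylow.smul_eq_iff_mem_normalizer.mp (by simpa using this)
      have hlt : Nat.card (G ⧸ K) < n := by
        rw [← hn]
        have h3 : Nat.card (G ⧸ K) * Nat.card K = Nat.card G :=
          (Subgroup.card_eq_card_quotient_mul_card_subgroup K).symm
        have h4 : 1 < Nat.card K := by
          rw [Subgroup.one_lt_card_iff_ne_bot]
          intro hb
          rw [hb] at hgK
          exact hne ((Subgroup.mem_bot).mp hgK)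
        rw [← h3]
        exact lt_mul_of_one_lt_right Nat.card_pos h4
      exact ih _ hlt (G ⧸ K) rfl ((card_sylow_quotient_of_le K hKle).trans hc)

section orbits

theorem smul_self_of_mem (P : Sylow p G) {a : G} (ha : a ∈ (P : Subgroup G)) : a • P = P :=
  Sylow.smul_eq_iff_mem_normalizer.mpr (le_normalizer ha)

theorem eq_of_le' (P Q : Sylow p G) (h : (P : Subgroup G) ≤ Q) : P = Q :=
  Sylow.ext (P.is_maximal' Q.isPGroup' h).symm

theorem smul_eq_iff_mem (P Q : Sylow p G) {a : G} (ha : a ∈ (P : Subgroup G)) :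
    a • Q = Q ↔ a ∈ (Q : Subgroup G) := by
  rw [Sylow.smul_eq_iff_mem_normalizer]
  have h := IsPGroup.inf_normalizer_sylow P.isPGroup' Q
  constructor
  · intro hn
    have h1 : a ∈ (P : Subgroup G) ⊓ normalizer (Q : Set G) := ⟨ha, hn⟩
    rw [h] at h1
    exact h1.2
  · exact fun h => le_normalizer h

theorem not_mem_orbit (P y : Sylow p G) (hy : y ≠ P) : P ∉ orbit (P : Subgroup G) y := by
  rintro ⟨g, hg⟩
  have h1 : (g : G) • y = P := hg
  have h2 : (g : G) • P = P := smul_self_of_mem P g.2
  apply hy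
  have h3 : (g : G) • y = (g : G) • P := h1.trans h2.symm
  exact smul_left_cancel _ h3

theorem ncard_orbit_eq (hp3 : 3 ≤ p) (hc : Nat.card (Sylow p G) = 1 + 2 * p) (P y : Sylow p G)
    (hy : y ≠ P) : (orbit (P : Subgroup G) y).ncard = p := by
  have hpp : p.Prime := Fact.out
  obtain ⟨n, hn⟩ := IsPGroup.card_orbit (P.isPGroup') y
  rw [Nat.card_coe_set_eq] at hn
  have hn0 : n ≠ 0 := by
    rintro rfl
    rw [pow_zero, Set.ncard_eq_one] at hn
    obtain ⟨w, hw⟩ := hn
    have h1 : y ∈ orbit (P : Subgroup G) y := mem_orbit_self y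
    rw [hw] at h1
    have h2 : y = w := h1
    subst h2
    have hfix : y ∈ fixedPoints (P : Subgroup G) (Sylow p G) := by
      intro g
      have : g • y ∈ orbit (P : Subgroup G) y := mem_orbit _ _
      rw [hw] at this
      exact this
    have := (IsPGroup.sylow_mem_fixedPoints_iff P.isPGroup').mp hfix
    exact hy (eq_of_le' P y this).symm
  have hle : (orbit (P : Subgroup G) y).ncard ≤ 2 * p := by
    have h1 : orbit (P : Subgroup G) y ⊆ {P}ᶜ := by
      intro w hw hw2
      have : w = P := hw2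
      exact not_mem_orbit P y hy (this ▸ hw)
    have h2 := Set.ncard_le_ncard h1 (Set.toFinite _)
    have h3 : ({P}ᶜ : Set (Sylow p G)).ncard = 2 * p := by
      have := Set.ncard_add_ncard_compl ({P} : Set (Sylow p G))
      rw [Set.ncard_singleton, hc] at this
      omega
    omega
  rcases Nat.lt_or_ge n 2 with h | h
  · have : n = 1 := by omega
    rw [hn, this, pow_one]
  · exfalso
    rw [hn] at hle
    have : p ^ 2 ≤ p ^ n := Nat.pow_le_pow_right hpp.pos h
    nlinarith

theorem exists_second_orbit (hp3 : 3 ≤ p) (hc : Nat.card (Sylow p G) = 1 + 2 * p) (P y : Sylow p G)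
    (hy : y ≠ P) : ∃ z : Sylow p G, z ≠ P ∧ z ∉ orbit (P : Subgroup G) y ∧
      ∀ w : Sylow p G, w = P ∨ w ∈ orbit (P : Subgroup G) y ∨ w ∈ orbit (P : Subgroup G) z := by
  have hpp : p.Prime := Fact.out
  have hOy := ncard_orbit_eq hp3 hc P y hy
  have hex : ∃ z : Sylow p G, z ≠ P ∧ z ∉ orbit (P : Subgroup G) y := by
    by_contra hcon
    push_neg at hcon
    have h1 : (Set.univ : Set (Sylow p G)) ⊆ {P} ∪ orbit (P : Subgroup G) y := by
      intro w _
      by_cases hw : w = P
      · left; exact hw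
      · right; exact hcon w hw
    have h2 := Set.ncard_le_ncard h1 (Set.toFinite _)
    have h3 := Set.ncard_union_le ({P} : Set (Sylow p G)) (orbit (P : Subgroup G) y)
    rw [Set.ncard_univ, hc] at h2
    rw [Set.ncard_singleton, hOy] at h3
    have := hpp.pos
    omega
  obtain ⟨z, hzP, hzy⟩ := hex
  refine ⟨z, hzP, hzy, ?_⟩
  have hOz := ncard_orbit_eq hp3 hc P z hzP
  have hdisj : Disjoint (orbit (P : Subgroup G) y) (orbit (P : Subgroup G) z) := by
    rcases MulAction.orbit.eq_or_disjoint (G := (P : Subgroup G)) y z with h | h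
    · exfalso
      apply hzy
      rw [h]
      exact mem_orbit_self z
    · exact h
  have hPy := not_mem_orbit P y hy
  have hPz := not_mem_orbit P z hzP
  have hunion : {P} ∪ (orbit (P : Subgroup G) y ∪ orbit (P : Subgroup G) z) = Set.univ := by
    apply Set.eq_of_subset_of_ncard_le (Set.subset_univ _)
    rw [Set.ncard_univ, hc, Set.ncard_union_eq _ (Set.toFinite _) (Set.toFinite _),
      Set.ncard_singleton, Set.ncard_union_eq hdisj (Set.toFinite _) (Set.toFinite _), hOy, hOz]
    · omega
    · rw [Set.disjoint_singleton_left]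
      rintro (h | h)
      · exact hPy h
      · exact hPz h
  intro w
  have : w ∈ {P} ∪ (orbit (P : Subgroup G) y ∪ orbit (P : Subgroup G) z) := by
    rw [hunion]; trivial
  rcases this with h | h | h
  · left; exact h
  · right; left; exact h
  · right; right; exact h

/-- Elements of `P` fixing `y` fix the whole `P`-orbit of `y`. -/
theorem fixes_orbit (hp3 : 3 ≤ p) (hc : Nat.card (Sylow p G) = 1 + 2 * p) (P y : Sylow p G)
    (hy : y ≠ P) {a : G} (ha : a ∈ (P : Subgroup G)) (hfix : a • y = y) {w : Sylow p G}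
    (hw : w ∈ orbit (P : Subgroup G) y) : a • w = w := by
  classical
  have hpp : p.Prime := Fact.out
  have hidx : (stabilizer (P : Subgroup G) y).index = p := by
    rw [MulAction.index_stabilizer, ncard_orbit_eq hp3 hc P y hy]
  have hne : Nat.card (P : Subgroup G) ≠ 1 := by
    intro h1
    have : (stabilizer (P : Subgroup G) y).index = 1 := by
      have := Subgroup.index_dvd_card (stabilizer (P : Subgroup G) y)
      rw [h1] at this
      exact Nat.dvd_one.mp this
    rw [hidx] at this
    exact hpp.one_lt.ne' this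
  have hmin : (Nat.card (P : Subgroup G)).minFac = p := by
    obtain ⟨k, hk⟩ := P.isPGroup'.exists_card_eq
    rw [hk] at hne ⊢
    have hk0 : k ≠ 0 := by
      rintro rfl
      simp at hne
    exact hpp.pow_minFac hk0
  have hnorm : (stabilizer (P : Subgroup G) y).Normal :=
    Subgroup.normal_of_index_eq_minFac_card (by rw [hidx, hmin])
  obtain ⟨g, rfl⟩ := hw
  have ha' : (⟨a, ha⟩ : (P : Subgroup G)) ∈ stabilizer (P : Subgroup G) y := hfix
  have h1 := hnorm.conj_mem _ ha' g⁻¹
  have h2 : (g⁻¹ * (⟨a, ha⟩ : (P : Subgroup G)) * g⁻¹⁻¹) • y = y := h1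
  have h3 : (⟨a, ha⟩ : (P : Subgroup G)) • g • y = g • y := by
    have h4 : (⟨a, ha⟩ : (P : Subgroup G)) • g • y = g • ((g⁻¹ * (⟨a, ha⟩ : (P : Subgroup G)) * g⁻¹⁻¹) • y) := by
      rw [inv_inv, smul_smul, smul_smul]
      congr 1
      group
    rw [h4, h2]
  exact h3

end orbits

section min

variable (hm : Min p G)

include hm

theorem Min.fix_eq_one (hp3 : 3 ≤ p) (P y z : Sylow p G)
    (hall : ∀ w : Sylow p G, w = P ∨ w ∈ orbit (P : Subgroup G) y ∨ w ∈ orbit (P : Subgroup G) z)
    {g : G} (h1 : g • P = P) (h2 : ∀ w ∈ orbit (P : Subgroup G) y, g • w = w)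
    (h3 : ∀ w ∈ orbit (P : Subgroup G) z, g • w = w) : g = 1 := by
  apply hm.faithful
  intro w
  rcases hall w with h | h | h
  · rw [h, h1]
  · exact h2 w h
  · exact h3 w h

theorem Min.inf_eq_one (hp3 : 3 ≤ p) (P y z : Sylow p G) (hy : y ≠ P) (hz : z ≠ P)
    (hall : ∀ w : Sylow p G, w = P ∨ w ∈ orbit (P : Subgroup G) y ∨ w ∈ orbit (P : Subgroup G) z)
    {a : G} (ha : a ∈ (P : Subgroup G)) (h1 : a • y = y) (h2 : a • z = z) : a = 1 :=
  hm.fix_eq_one hp3 P y z hall (smul_self_of_mem P ha)
    (fun _ hw => fixes_orbit hp3 hm.card P y hy ha h1 hw)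
    (fun _ hw => fixes_orbit hp3 hm.card P z hz ha h2 hw)

theorem Min.exists_ne (hp3 : 3 ≤ p) (P : Sylow p G) : ∃ y : Sylow p G, y ≠ P := by
  by_contra hcon
  push_neg at hcon
  have h1 : Nat.card (Sylow p G) = 1 := by
    rw [Nat.card_eq_one_iff_unique]
    exact ⟨⟨fun a b => (hcon a).trans (hcon b).symm⟩, ⟨P⟩⟩
  have := hm.card
  omega

theorem Min.card_eq_or (hp3 : 3 ≤ p) (P : Sylow p G) :
    Nat.card (P : Subgroup G) = p ∨ Nat.card (P : Subgroup G) = p ^ 2 := by
  have hpp : p.Prime := Fact.out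
  obtain ⟨y, hy⟩ := hm.exists_ne hp3 P
  obtain ⟨z, hz, hzy, hall⟩ := exists_second_orbit hp3 hm.card P y hy
  obtain ⟨k, hk⟩ := P.isPGroup'.exists_card_eq
  have hidx : (stabilizer (P : Subgroup G) y).index = p := by
    rw [MulAction.index_stabilizer, ncard_orbit_eq hp3 hm.card P y hy]
  have hidz : (stabilizer (P : Subgroup G) z).index = p := by
    rw [MulAction.index_stabilizer, ncard_orbit_eq hp3 hm.card P z hz]
  have hbot : stabilizer (P : Subgroup G) y ⊓ stabilizer (P : Subgroup G) z = ⊥ := by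
    rw [eq_bot_iff]
    rintro ⟨a, ha⟩ ⟨h1, h2⟩
    rw [Subgroup.mem_bot]
    exact Subtype.ext (hm.inf_eq_one hp3 P y z hy hz hall ha h1 h2)
  have hle : (stabilizer (P : Subgroup G) y ⊓ stabilizer (P : Subgroup G) z).index ≤ p * p := by
    have := Subgroup.index_inf_le (H := stabilizer (P : Subgroup G) y) (K := stabilizer (P : Subgroup G) z)
    rwa [hidx, hidz] at this
  rw [hbot, Subgroup.index_bot, hk] at hle
  have hk2 : k ≤ 2 := by
    by_contra hcon
    push_neg at hcon
    have : p ^ 3 ≤ p ^ k := Nat.pow_le_pow_right hpp.pos hcon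
    have h3 : p * p < p ^ 3 := by
      have := hpp.two_le
      nlinarith
    omega
  have hk0 : k ≠ 0 := by
    rintro rfl
    have h1 : (stabilizer (P : Subgroup G) y).index = 1 := by
      have := Subgroup.index_dvd_card (stabilizer (P : Subgroup G) y)
      rw [hk, pow_zero] at this
      exact Nat.dvd_one.mp this
    rw [hidx] at h1
    exact hpp.one_lt.ne' h1
  have : k = 1 ∨ k = 2 := by omega
  rcases this with rfl | rfl
  · left; rw [hk, pow_one]
  · right; exact hk

end min

section double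

theorem double_count {α β : Type*} [Finite α] [Finite β] (r : α → β → Prop) (E : Set α) (a b : ℕ)
    (h1 : ∀ x ∈ E, Set.ncard {y | r x y} = a) (h2 : ∀ y, Set.ncard {x | x ∈ E ∧ r x y} = b) :
    E.ncard * a = Nat.card β * b := by
  classical
  haveI := Fintype.ofFinite α
  haveI := Fintype.ofFinite β
  have key := Finset.sum_card_bipartiteAbove_eq_sum_card_bipartiteBelow (s := E.toFinset)
    (t := (Finset.univ : Finset β)) r
  have h3 : ∀ x ∈ E.toFinset, (Finset.bipartiteAbove r (Finset.univ : Finset β) x).card = a := by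
    intro x hx
    rw [← h1 x (Set.mem_toFinset.mp hx), ← Set.ncard_coe_finset]
    congr 1
    ext y
    simp [Finset.bipartiteAbove]
  have h4 : ∀ y ∈ (Finset.univ : Finset β), (Finset.bipartiteBelow r E.toFinset y).card = b := by
    intro y _
    rw [← h2 y, ← Set.ncard_coe_finset]
    congr 1
    ext x
    simp [Finset.bipartiteBelow]
  rw [Finset.sum_congr rfl h3, Finset.sum_congr rfl h4, Finset.sum_const, Finset.sum_const] at key
  rw [Set.ncard_eq_toFinset_card', Nat.card_eq_fintype_card]
  simpa using key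

end double

section square

theorem card_inf_mul (hp3 : 3 ≤ p) (hc : Nat.card (Sylow p G) = 1 + 2 * p) (Q y : Sylow p G)
    (hy : y ≠ Q) : Nat.card ((Q : Subgroup G) ⊓ (y : Subgroup G) : Subgroup G) * p = Nat.card (Q : Subgroup G) := by
  have hidx : (stabilizer (Q : Subgroup G) y).index = p := by
    rw [MulAction.index_stabilizer, ncard_orbit_eq hp3 hc Q y hy]
  have h1 : (stabilizer (Q : Subgroup G) y).map (Q : Subgroup G).subtype = (Q : Subgroup G) ⊓ y := by
    ext x
    constructor
    · rintro ⟨a, ha, rfl⟩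
      exact ⟨a.2, (smul_eq_iff_mem Q y a.2).mp ha⟩
    · rintro ⟨h1, h2⟩
      exact ⟨⟨x, h1⟩, (smul_eq_iff_mem Q y h1).mpr h2, rfl⟩
  rw [← h1, Subgroup.card_map_of_injective (Subgroup.subtype_injective _)]
  have := Subgroup.card_mul_index (stabilizer (Q : Subgroup G) y)
  rwa [hidx] at this

theorem mem_orbit_iff (hp3 : 3 ≤ p) (hc : Nat.card (Sylow p G) = 1 + 2 * p) (Q y w : Sylow p G)
    (hy : y ≠ Q) (hw : w ∈ orbit (Q : Subgroup G) y) {x : G} (hx : x ∈ (Q : Subgroup G)) :
    x ∈ (w : Subgroup G) ↔ x ∈ (y : Subgroup G) := by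
  have hwQ : w ≠ Q := by
    rintro rfl
    exact not_mem_orbit w y hy hw
  constructor
  · intro h
    rw [← smul_eq_iff_mem Q y hx]
    have h1 : y ∈ orbit (Q : Subgroup G) w := by
      rw [MulAction.orbit_eq_iff.mpr hw]
      exact mem_orbit_self y
    exact fixes_orbit hp3 hc Q w hwQ hx ((smul_eq_iff_mem Q w hx).mpr h) h1
  · intro h
    rw [← smul_eq_iff_mem Q w hx]
    exact fixes_orbit hp3 hc Q y hy hx ((smul_eq_iff_mem Q y hx).mpr h) hw

theorem mem_iff_of_hall (hp3 : 3 ≤ p) (hc : Nat.card (Sylow p G) = 1 + 2 * p) (Q y z : Sylow p G)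
    (hy : y ≠ Q) (hz : z ≠ Q)
    (hall : ∀ w : Sylow p G, w = Q ∨ w ∈ orbit (Q : Subgroup G) y ∨ w ∈ orbit (Q : Subgroup G) z)
    {x : G} (hx : x ∈ (Q : Subgroup G)) (R : Sylow p G) :
    x ∈ (R : Subgroup G) ↔ R = Q ∨ (R ∈ orbit (Q : Subgroup G) y ∧ x ∈ (y : Subgroup G)) ∨
      (R ∈ orbit (Q : Subgroup G) z ∧ x ∈ (z : Subgroup G)) := by
  constructor
  · intro h
    rcases hall R with h1 | h1 | h1
    · left; exact h1
    · right; left; exact ⟨h1, (mem_orbit_iff hp3 hc Q y R hy h1 hx).mp h⟩
    · right; right; exact ⟨h1, (mem_orbit_iff hp3 hc Q z R hz h1 hx).mp h⟩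
  · rintro (h | ⟨h1, h2⟩ | ⟨h1, h2⟩)
    · rw [h]; exact hx
    · exact (mem_orbit_iff hp3 hc Q y R hy h1 hx).mpr h2
    · exact (mem_orbit_iff hp3 hc Q z R hz h1 hx).mpr h2

theorem ncard_fix_of_mem (hp3 : 3 ≤ p) (hc : Nat.card (Sylow p G) = 1 + 2 * p) (Q y z : Sylow p G)
    (hy : y ≠ Q) (hz : z ≠ Q)
    (hall : ∀ w : Sylow p G, w = Q ∨ w ∈ orbit (Q : Subgroup G) y ∨ w ∈ orbit (Q : Subgroup G) z)
    {x : G} (hx : x ∈ (Q : Subgroup G)) (hxy : x ∈ (y : Subgroup G)) (hxz : x ∉ (z : Subgroup G)) :
    {R : Sylow p G | x ∈ (R : Subgroup G)}.ncard = 1 + p := by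
  have h1 : {R : Sylow p G | x ∈ (R : Subgroup G)} = {Q} ∪ orbit (Q : Subgroup G) y := by
    ext R
    rw [Set.mem_setOf_eq, mem_iff_of_hall hp3 hc Q y z hy hz hall hx R]
    constructor
    · rintro (h | ⟨h1, h2⟩ | ⟨h1, h2⟩)
      · left; exact h
      · right; exact h1
      · exact absurd h2 hxz
    · rintro (h | h)
      · left; exact h
      · right; left; exact ⟨h, hxy⟩
  rw [h1, Set.ncard_union_eq _ (Set.toFinite _) (Set.toFinite _), Set.ncard_singleton,
    ncard_orbit_eq hp3 hc Q y hy]
  rw [Set.disjoint_singleton_left]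
  exact not_mem_orbit Q y hy

theorem ncard_fix_of_not_mem (hp3 : 3 ≤ p) (hc : Nat.card (Sylow p G) = 1 + 2 * p) (Q y z : Sylow p G)
    (hy : y ≠ Q) (hz : z ≠ Q)
    (hall : ∀ w : Sylow p G, w = Q ∨ w ∈ orbit (Q : Subgroup G) y ∨ w ∈ orbit (Q : Subgroup G) z)
    {x : G} (hx : x ∈ (Q : Subgroup G)) (hxy : x ∉ (y : Subgroup G)) (hxz : x ∉ (z : Subgroup G)) :
    {R : Sylow p G | x ∈ (R : Subgroup G)}.ncard = 1 := by
  have h1 : {R : Sylow p G | x ∈ (R : Subgroup G)} = {Q} := by
    ext R
    rw [Set.mem_setOf_eq, mem_iff_of_hall hp3 hc Q y z hy hz hall hx R]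
    constructor
    · rintro (h | ⟨h1, h2⟩ | ⟨h1, h2⟩)
      · exact h
      · exact absurd h2 hxy
      · exact absurd h2 hxz
    · intro h
      left; exact h
  rw [h1, Set.ncard_singleton]

variable (hm : Min p G)

include hm

theorem Min.not_card_sq (hp5 : 5 ≤ p) (P : Sylow p G) : Nat.card (P : Subgroup G) ≠ p ^ 2 := by
  intro hP
  have hpp : p.Prime := Fact.out
  have hp3 : 3 ≤ p := by omega
  have hc := hm.card
  have hall2 : ∀ Q : Sylow p G, Nat.card (Q : Subgroup G) = p ^ 2 := by
    intro Q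
    rw [Q.card_eq_multiplicity, ← P.card_eq_multiplicity, hP]
  set E : Set G := {x : G | x ≠ 1 ∧ {R : Sylow p G | x ∈ (R : Subgroup G)}.ncard = 1 + p} with hE
  have h2 : ∀ Q : Sylow p G, Set.ncard {x | x ∈ E ∧ x ∈ (Q : Subgroup G)} = 2 * (p - 1) := by
    intro Q
    obtain ⟨y, hy⟩ := hm.exists_ne hp3 Q
    obtain ⟨z, hz, hzy, hall⟩ := exists_second_orbit hp3 hm.card Q y hy
    have hA : Nat.card ((Q : Subgroup G) ⊓ (y : Subgroup G) : Subgroup G) = p := by
      have := card_inf_mul hp3 hc Q y hy
      rw [hall2 Q, pow_two] at this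
      exact Nat.eq_of_mul_eq_mul_right hpp.pos this
    have hB : Nat.card ((Q : Subgroup G) ⊓ (z : Subgroup G) : Subgroup G) = p := by
      have := card_inf_mul hp3 hc Q z hz
      rw [hall2 Q, pow_two] at this
      exact Nat.eq_of_mul_eq_mul_right hpp.pos this
    have hdisj : ∀ x : G, x ∈ (Q : Subgroup G) → x ∈ (y : Subgroup G) → x ∈ (z : Subgroup G) → x = 1 := by
      intro x hx h1 h2
      exact hm.inf_eq_one hp3 Q y z hy hz hall hx ((smul_eq_iff_mem Q y hx).mpr h1)
        ((smul_eq_iff_mem Q z hx).mpr h2)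
    have hset : {x | x ∈ E ∧ x ∈ (Q : Subgroup G)} =
        (((Q : Subgroup G) ⊓ (y : Subgroup G) : Subgroup G) : Set G) \ {1} ∪
          (((Q : Subgroup G) ⊓ (z : Subgroup G) : Subgroup G) : Set G) \ {1} := by
      ext x
      constructor
      · rintro ⟨⟨hne, hcard⟩, hxQ⟩
        by_cases hxy : x ∈ (y : Subgroup G)
        · left; exact ⟨⟨hxQ, hxy⟩, hne⟩
        · by_cases hxz : x ∈ (z : Subgroup G)
          · right; exact ⟨⟨hxQ, hxz⟩, hne⟩
          · exfalso
            rw [ncard_fix_of_not_mem hp3 hc Q y z hy hz hall hxQ hxy hxz] at hcard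
            have := hpp.pos
            omega
      · rintro (⟨⟨hxQ, hxy⟩, hne⟩ | ⟨⟨hxQ, hxz⟩, hne⟩)
        · refine ⟨⟨hne, ?_⟩, hxQ⟩
          exact ncard_fix_of_mem hp3 hc Q y z hy hz hall hxQ hxy (fun h => hne (hdisj x hxQ hxy h))
        · refine ⟨⟨hne, ?_⟩, hxQ⟩
          refine ncard_fix_of_mem hp3 hc Q z y hz hy ?_ hxQ hxz (fun h => hne (hdisj x hxQ h hxz))
          intro w
          rcases hall w with h | h | h
          · left; exact h
          · right; right; exact h
          · right; left; exact h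
    rw [hset, Set.ncard_union_eq _ (Set.toFinite _) (Set.toFinite _),
      Set.ncard_diff_singleton_of_mem (one_mem ((Q : Subgroup G) ⊓ (y : Subgroup G) : Subgroup G)),
      Set.ncard_diff_singleton_of_mem (one_mem ((Q : Subgroup G) ⊓ (z : Subgroup G) : Subgroup G))]
    · have h3 : ∀ H : Subgroup G, (H : Set G).ncard = Nat.card H := fun H => (Nat.card_coe_set_eq _).symm
      rw [h3, h3, hA, hB]
      omega
    · rw [Set.disjoint_left]
      rintro x ⟨⟨hxQ, hxy⟩, hne⟩ ⟨⟨_, hxz⟩, _⟩
      exact hne (hdisj x hxQ hxy hxz)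
  have key := double_count (fun (x : G) (R : Sylow p G) => x ∈ (R : Subgroup G)) E (1 + p)
    (2 * (p - 1)) (fun x hx => hx.2) h2
  rw [hc] at key
  have hdvd : (1 + p) ∣ (1 + 2 * p) * (2 * (p - 1)) := ⟨E.ncard, by rw [← key, mul_comm]⟩
  have hcop : Nat.Coprime (1 + p) (1 + 2 * p) := by
    have h1 : 1 + 2 * p = (1 + p) + p := by ring
    rw [h1, Nat.coprime_self_add_right]
    simp
  have hd2 := hcop.dvd_of_dvd_mul_left hdvd
  obtain ⟨k, hk⟩ := hd2
  have hk2 : k < 2 := by
    by_contra hcon
    push_neg at hcon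
    have : (1 + p) * 2 ≤ (1 + p) * k := Nat.mul_le_mul_left _ hcon
    omega
  interval_cases k <;> omega

end square

section centralizer

theorem comm_of_card_prime (P : Subgroup G) (hP : Nat.card P = p) {a b : G} (ha : a ∈ P) (hb : b ∈ P) :
    a * b = b * a := by
  haveI : IsCyclic P := isCyclic_of_prime_card hP
  have := (IsCyclic.commutative (α := P)).is_comm.comm ⟨a, ha⟩ ⟨b, hb⟩
  exact congrArg Subtype.val this

variable (hm : Min p G)

include hm

theorem Min.centralizer_free (hp3 : 3 ≤ p) (P : Sylow p G) (hP : Nat.card (P : Subgroup G) = p)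
    {c : G} (hc : c ∈ centralizer ((P : Subgroup G) : Set G)) (y : Sylow p G) (hy : y ≠ P)
    (hfix : c • y = y) : c = 1 := by
  have hpp : p.Prime := Fact.out
  have hcomm : ∀ a ∈ (P : Subgroup G), c * a = a * c :=
    fun a ha => ((mem_centralizer_iff.mp hc) a ha).symm
  have hP_fix : c • P = P :=
    Sylow.smul_eq_iff_mem_normalizer.mpr (centralizer_le_normalizer _ hc)
  obtain ⟨z, hz, hzy, hall⟩ := exists_second_orbit hp3 hm.card P y hy
  have h1 : ∀ w ∈ orbit (P : Subgroup G) y, c • w = w := by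
    rintro _ ⟨g, rfl⟩
    show c • ((g : G) • y) = (g : G) • y
    rw [smul_smul, hcomm g g.2, mul_smul, hfix]
  have h2 : c • z ∈ orbit (P : Subgroup G) z := by
    rcases hall (c • z) with h | h | h
    · exfalso
      apply hz
      apply smul_left_cancel c
      rw [h, hP_fix]
    · exfalso
      have h4 := h1 _ h
      have h3 := smul_left_cancel c h4
      rw [h3] at h
      exact hzy h
    · exact h
  obtain ⟨a, ha⟩ := h2
  have haz : c • z = (a : G) • z := ha.symm
  have h3 : ∀ w ∈ orbit (P : Subgroup G) z, c • w = (a : G) • w := by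
    rintro _ ⟨g, rfl⟩
    show c • (g : G) • z = (a : G) • (g : G) • z
    rw [smul_smul, hcomm g g.2, mul_smul, haz, smul_smul, smul_smul,
      comm_of_card_prime (P : Subgroup G) hP g.2 a.2]
  have h4 : c ^ p = 1 := by
    apply hm.fix_eq_one hp3 P y z hall
    · apply Sylow.smul_eq_iff_mem_normalizer.mpr
      exact Subgroup.pow_mem _ (centralizer_le_normalizer _ hc) _
    · intro w hw
      have : ∀ n : ℕ, c ^ n • w = w := by
        intro n
        induction n with
        | zero => simp
        | succ n ih => rw [pow_succ, mul_smul, h1 w hw, ih]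
      exact this p
    · intro w hw
      have : ∀ n : ℕ, ∀ w ∈ orbit (P : Subgroup G) z, c ^ n • w = (a : G) ^ n • w := by
        intro n
        induction n with
        | zero => simp
        | succ n ih =>
          intro w hw
          rw [pow_succ, mul_smul, h3 w hw, ih _ (by rw [← MulAction.orbit_eq_iff.mpr hw]; exact mem_orbit w a), pow_succ, mul_smul]
      rw [this p w hw]
      have h5 : (a : G) ^ p = 1 := by
        have := pow_card_eq_one' (G := (P : Subgroup G)) (x := a)
        rw [hP] at this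
        exact congrArg Subtype.val this
      rw [h5, one_smul]
  have h5 : c ∈ (P : Subgroup G) := by
    have h6 : IsPGroup p (zpowers c) := by
      rw [IsPGroup.iff_card, Nat.card_zpowers]
      have := orderOf_dvd_of_pow_eq_one h4
      obtain ⟨j, _, hj⟩ := (Nat.dvd_prime_pow hpp).mp (by rwa [pow_one] : orderOf c ∣ p ^ 1)
      exact ⟨j, hj⟩
    obtain ⟨Q, hQ⟩ := h6.exists_le_sylow
    have h7 : c ∈ (Q : Subgroup G) := hQ (mem_zpowers c)
    exact (smul_eq_iff_mem Q P h7).mp hP_fix
  have hidx : (stabilizer (P : Subgroup G) y).index = p := by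
    rw [MulAction.index_stabilizer, ncard_orbit_eq hp3 hm.card P y hy]
  have hs := Subgroup.card_mul_index (stabilizer (P : Subgroup G) y)
  rw [hidx, hP] at hs
  have hs1 : Nat.card (stabilizer (P : Subgroup G) y) = 1 :=
    Nat.eq_of_mul_eq_mul_right hpp.pos (by rw [hs, one_mul])
  have hbot := Subgroup.card_eq_one.mp hs1
  have hmem : (⟨c, h5⟩ : (P : Subgroup G)) ∈ stabilizer (P : Subgroup G) y := hfix
  rw [hbot, Subgroup.mem_bot] at hmem
  exact congrArg Subtype.val hmem

theorem Min.card_centralizer_dvd (hp3 : 3 ≤ p) (P : Sylow p G) (hP : Nat.card (P : Subgroup G) = p) :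
    Nat.card (centralizer ((P : Subgroup G) : Set G)) ∣ 2 * p := by
  classical
  set C := centralizer ((P : Subgroup G) : Set G) with hC
  let S : SubMulAction C (Sylow p G) :=
    { carrier := {w | w ≠ P}
      smul_mem' := by
        intro c w hw h
        apply hw
        have h1 : (c : G) • P = P :=
          Sylow.smul_eq_iff_mem_normalizer.mpr (centralizer_le_normalizer _ c.2)
        apply smul_left_cancel (c : G)
        rw [h1]
        exact h }
  have hfree : ∀ x : S, stabilizer C x = ⊥ := by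
    rintro ⟨w, hw⟩
    rw [eq_bot_iff]
    intro c hc
    have h1 : (c : G) • w = w := congrArg Subtype.val hc
    rw [Subgroup.mem_bot]
    exact Subtype.ext (hm.centralizer_free hp3 P hP c.2 w hw h1)
  have h1 := Cfsg.Agent.Lib.Struct.card_dvd_of_free hfree
  have h2 : Nat.card S = 2 * p := by
    have h3 : Nat.card S = ({P}ᶜ : Set (Sylow p G)).ncard := by
      rw [← Nat.card_coe_set_eq]
      rfl
    rw [h3]
    have := Set.ncard_add_ncard_compl ({P} : Set (Sylow p G))
    rw [Set.ncard_singleton, hm.card] at this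
    omega
  rwa [h2] at h1

omit hm in
theorem sign_of_involution {X : Type*} [Fintype X] [DecidableEq X] (σ : Equiv.Perm X)
    (hσ : σ ^ 2 = 1) {k : ℕ} (h : σ.support.card = 2 * k) (hk : Odd k) :
    Equiv.Perm.sign σ = -1 := by
  rw [Equiv.Perm.sign_of_cycleType]
  have h2 : ∀ n ∈ σ.cycleType, n = 2 := by
    intro n hn
    have h3 := Equiv.Perm.dvd_of_mem_cycleType hn
    have h4 := Equiv.Perm.two_le_of_mem_cycleType hn
    have h5 : orderOf σ ∣ 2 := orderOf_dvd_of_pow_eq_one hσ
    have := Nat.le_of_dvd (by norm_num) (h3.trans h5)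
    omega
  have h3 : σ.cycleType = Multiset.replicate (Multiset.card σ.cycleType) 2 :=
    Multiset.eq_replicate_card.mpr h2
  have h4 : σ.cycleType.sum = Multiset.card σ.cycleType * 2 := by
    conv_lhs => rw [h3]
    simp
  rw [Equiv.Perm.sum_cycleType, h] at h4
  have h5 : Multiset.card σ.cycleType = k := by omega
  rw [Equiv.Perm.sum_cycleType, h, h5, pow_add, pow_mul]
  simp [hk.neg_one_pow]

theorem Min.no_involution (hp3 : 3 ≤ p) (P : Sylow p G) (t : G) (ht : t ^ 2 = 1) (hP : t • P = P)
    (hfree : ∀ w : Sylow p G, w ≠ P → t • w ≠ w) : False := by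
  classical
  have hpp : p.Prime := Fact.out
  haveI := Fintype.ofFinite (Sylow p G)
  let σ := MulAction.toPermHom G (Sylow p G)
  let f : G →* ℤˣ := (Equiv.Perm.sign).comp σ
  have hsupp : (σ t).support = Finset.univ.erase P := by
    ext w
    rw [Equiv.Perm.mem_support, Finset.mem_erase]
    simp only [Finset.mem_univ, and_true]
    constructor
    · intro h hw
      apply h
      rw [hw]
      exact hP
    · intro h
      exact hfree w h
  have hcard : (σ t).support.card = 2 * p := by
    rw [hsupp, Finset.card_erase_of_mem (Finset.mem_univ _), Finset.card_univ,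
      ← Nat.card_eq_fintype_card, hm.card]
    omega
  have hodd : Odd p := hpp.odd_of_ne_two (by omega)
  have hf : f t = -1 := by
    show Equiv.Perm.sign (σ t) = -1
    apply sign_of_involution (σ t) _ hcard hodd
    rw [← map_pow, ht, map_one]
  have hne : f.ker ≠ ⊤ := by
    intro h
    have h1 : t ∈ f.ker := h ▸ Subgroup.mem_top t
    rw [MonoidHom.mem_ker, hf] at h1
    exact absurd h1 (by decide)
  apply hne
  apply hm.normal _ inferInstance
  rw [Subgroup.index_ker]
  intro hd
  have h3 : Nat.card f.range ∣ Nat.card ℤˣ := Subgroup.card_subgroup_dvd_card _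
  have h4 : Nat.card ℤˣ = 2 := by
    rw [Nat.card_eq_fintype_card]
    rfl
  rw [h4] at h3
  have := Nat.le_of_dvd (by norm_num) (hd.trans h3)
  omega

theorem Min.centralizer_eq (hp3 : 3 ≤ p) (P : Sylow p G) (hP : Nat.card (P : Subgroup G) = p) :
    centralizer ((P : Subgroup G) : Set G) = P := by
  have hpp : p.Prime := Fact.out
  have hdvd := hm.card_centralizer_dvd hp3 P hP
  have hle : (P : Subgroup G) ≤ centralizer ((P : Subgroup G) : Set G) := by
    intro a ha
    rw [mem_centralizer_iff]
    intro b hb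
    exact comm_of_card_prime _ hP hb ha
  have hd2 : p ∣ Nat.card (centralizer ((P : Subgroup G) : Set G)) :=
    by
      have := Subgroup.card_dvd_of_le hle
      rwa [hP] at this
  obtain ⟨m, hm2⟩ := hd2
  have hm3 : m ∣ 2 := by
    rw [hm2, mul_comm] at hdvd
    exact Nat.dvd_of_mul_dvd_mul_right hpp.pos hdvd
  have hm4 : m = 1 ∨ m = 2 := by
    have := (Nat.dvd_prime Nat.prime_two).mp hm3
    exact this
  rcases hm4 with rfl | rfl
  · symm
    apply Subgroup.eq_of_le_of_card_ge hle
    rw [hm2, hP, mul_one]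
  · exfalso
    haveI : Fact (Nat.Prime 2) := ⟨Nat.prime_two⟩
    obtain ⟨t, ht⟩ := exists_prime_orderOf_dvd_card' (G := centralizer ((P : Subgroup G) : Set G)) 2
      (by rw [hm2]; exact Dvd.intro_left p rfl)
    have ht2 : (t : G) ^ 2 = 1 := by
      have := pow_orderOf_eq_one t
      rw [ht] at this
      exact congrArg Subtype.val this
    have ht1 : (t : G) ≠ 1 := by
      intro h
      have : t = 1 := Subtype.ext h
      rw [this, orderOf_one] at ht
      omega
    apply hm.no_involution hp3 P t ht2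
    · exact Sylow.smul_eq_iff_mem_normalizer.mpr (centralizer_le_normalizer _ t.2)
    · intro w hw h
      exact ht1 (hm.centralizer_free hp3 P hP t.2 w hw h)

end centralizer

section final

theorem card_sylow_of {q a m : ℕ} [hq : Fact q.Prime] (h : Nat.card G = q ^ a * m) (hm : ¬ q ∣ m)
    (Q : Sylow q G) : Nat.card (Q : Subgroup G) = q ^ a := by
  have hm0 : m ≠ 0 := by
    rintro rfl
    exact hm (dvd_zero q)
  rw [Q.card_eq_multiplicity, h, Nat.factorization_mul (pow_ne_zero _ hq.out.ne_zero) hm0,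
    Finsupp.add_apply, hq.out.factorization_pow, Nat.factorization_eq_zero_of_not_dvd hm]
  simp

variable (hm : Min p G)

include hm

theorem Min.no_burnside (q : ℕ) [hq : Fact q.Prime] (hqp : q ≠ p) (hdiv : q ∣ Nat.card G)
    (Q : Sylow q G)
    (hQ : normalizer ((Q : Subgroup G) : Set G) ≤ centralizer ((Q : Subgroup G) : Set G)) :
    False := by
  have hc := MonoidHom.ker_transferSylow_isComplement' Q hQ
  have hidx : (MonoidHom.transferSylow Q hQ).ker.index = Nat.card (Q : Subgroup G) := hc.symm.index_eq_card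
  have htop : (MonoidHom.transferSylow Q hQ).ker = ⊤ := by
    apply hm.normal _ inferInstance
    rw [hidx]
    intro hd
    obtain ⟨k, hk⟩ := Q.isPGroup'.exists_card_eq
    rw [hk] at hd
    have hpp : p.Prime := Fact.out
    have := (Nat.prime_dvd_prime_iff_eq hpp hq.out).mp (hpp.dvd_of_dvd_pow hd)
    exact hqp this.symm
  have hbot : (Q : Subgroup G) = ⊥ := by
    have h1 := hc.disjoint
    rw [htop] at h1
    exact disjoint_top.mp h1.symm
  exact Q.ne_bot_of_dvd_card hdiv hbot

theorem Min.card_sylow (hp5 : 5 ≤ p) (P : Sylow p G) : Nat.card (P : Subgroup G) = p :=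
  (hm.card_eq_or (by omega) P).resolve_right (hm.not_card_sq hp5 P)

theorem Min.exists_card (hp5 : 5 ≤ p) :
    ∃ d, d ∣ p - 1 ∧ Nat.card G = (1 + 2 * p) * p * d := by
  have hpp : p.Prime := Fact.out
  obtain ⟨P⟩ : Nonempty (Sylow p G) := inferInstance
  have hP := hm.card_sylow hp5 P
  have hC := hm.centralizer_eq (by omega) P hP
  refine ⟨(P : Subgroup G).relIndex (normalizer ((P : Subgroup G) : Set G)), ?_, ?_⟩
  · have key := Subgroup.card_dvd_of_injective _
      (QuotientGroup.kerLift_injective (P : Subgroup G).normalizerMonoidHom)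
    rw [normalizerMonoidHom_ker, ← index, ← relIndex, hC] at key
    haveI : IsCyclic (P : Subgroup G) := isCyclic_of_prime_card hP
    rwa [IsCyclic.card_mulAut, hP, Nat.totient_prime hpp] at key
  · have h1 : Nat.card (Sylow p G) = (normalizer ((P : Subgroup G) : Set G)).index :=
      P.card_eq_index_normalizer
    have h2 := Subgroup.relIndex_mul_index (le_normalizer : (P : Subgroup G) ≤ normalizer ((P : Subgroup G) : Set G))
    have h3 := Subgroup.card_mul_index (P : Subgroup G)
    rw [hm.card] at h1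
    rw [← h3, ← h2, ← h1, hP]
    ring

theorem Min.not_even (hp5 : 5 ≤ p) : ¬ 2 ∣ Nat.card G := by
  intro h2
  haveI : Fact (Nat.Prime 2) := ⟨Nat.prime_two⟩
  obtain ⟨Q⟩ : Nonempty (Sylow 2 G) := inferInstance
  have hmod := Q.isPGroup'.card_modEq_card_fixedPoints (Sylow p G)
  have hne : (fixedPoints (Q : Subgroup G) (Sylow p G)).Nonempty := by
    by_contra hcon
    rw [Set.not_nonempty_iff_eq_empty] at hcon
    have h0 : Nat.card (∅ : Set (Sylow p G)) = 0 := by simp
    rw [hcon, h0, hm.card] at hmod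
    unfold Nat.ModEq at hmod
    omega
  obtain ⟨P, hfix⟩ := hne
  have hle : (Q : Subgroup G) ≤ normalizer ((P : Subgroup G) : Set G) :=
    (Subgroup.sylow_mem_fixedPoints_iff _).mp hfix
  have hP := hm.card_sylow hp5 P
  have hC := hm.centralizer_eq (by omega) P hP
  let f : (Q : Subgroup G) →* MulAut (P : Subgroup G) :=
    (P : Subgroup G).normalizerMonoidHom.comp (Subgroup.inclusion hle)
  have hinj : Function.Injective f := by
    rw [injective_iff_map_eq_one]
    intro a ha
    have h1 : Subgroup.inclusion hle a ∈ (P : Subgroup G).normalizerMonoidHom.ker := ha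
    rw [normalizerMonoidHom_ker, Subgroup.mem_subgroupOf, hC] at h1
    have h3 : (a : G) ∈ (P : Subgroup G) := h1
    have h4 : orderOf (a : G) ∣ p := by
      rw [← hP, ← Subgroup.orderOf_mk (a : G) h3]
      exact orderOf_dvd_natCard _
    obtain ⟨k, hk⟩ := Q.isPGroup'.exists_card_eq
    have h5 : orderOf (a : G) ∣ 2 ^ k := by
      rw [← hk, Subgroup.orderOf_coe]
      exact orderOf_dvd_natCard a
    have h6 : Nat.Coprime p (2 ^ k) := by
      apply Nat.Coprime.pow_right
      rw [Nat.coprime_primes Fact.out Nat.prime_two]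
      omega
    have h7 := Nat.eq_one_of_dvd_coprimes h6 h4 h5
    rw [orderOf_eq_one_iff] at h7
    exact Subtype.ext h7
  haveI hcyc3 : IsCyclic (P : Subgroup G) := isCyclic_of_prime_card hP
  haveI hcyc2 : IsCyclic (MulAut (P : Subgroup G)) := by
    haveI h1 : IsCyclic (ZMod (Nat.card (P : Subgroup G)))ˣ := by
      rw [hP]
      exact ZMod.isCyclic_units_prime Fact.out
    exact isCyclic_of_injective (IsCyclic.mulAutMulEquiv (P : Subgroup G)).toMonoidHom
      (IsCyclic.mulAutMulEquiv (P : Subgroup G)).injective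
  have hcyc : IsCyclic (Q : Subgroup G) := isCyclic_of_injective f hinj
  have hmin : (Nat.card G).minFac = 2 := (Nat.minFac_eq_two_iff _).mpr h2
  exact hm.no_burnside 2 (by omega) h2 Q (hcyc.normalizer_le_centralizer hmin)

end final

section numeric

theorem mem_of_normalizer_of_orderOf {q k : ℕ} [Fact q.Prime] (Q : Sylow q G) {y : G}
    (hy : orderOf y = q ^ k) (hn : y ∈ normalizer ((Q : Subgroup G) : Set G)) :
    y ∈ (Q : Subgroup G) := by
  have h6 : IsPGroup q (zpowers y) := by
    rw [IsPGroup.iff_card, Nat.card_zpowers]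
    exact ⟨k, hy⟩
  obtain ⟨R, hR⟩ := h6.exists_le_sylow
  exact (smul_eq_iff_mem R Q (hR (mem_zpowers y))).mp (Sylow.smul_eq_iff_mem_normalizer.mpr hn)

/-- In a group of order `315`, a Sylow `3`-subgroup is central in its normalizer. -/
theorem normalizer_le_centralizer_315 [Fact (Nat.Prime 3)] (hG : Nat.card G = 315) (Q : Sylow 3 G)
    (hQ : Nat.card (Q : Subgroup G) = 9) :
    normalizer ((Q : Subgroup G) : Set G) ≤ centralizer ((Q : Subgroup G) : Set G) := by
  intro g hg
  by_contra hng
  obtain ⟨y, hy, r, k, hr, hyo, hyC⟩ :=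
    Cfsg.Agent.Lib.Struct.exists_prime_power_not_mem (centralizer ((Q : Subgroup G) : Set G))
      (orderOf g) g rfl hng
  have hyN : y ∈ normalizer ((Q : Subgroup G) : Set G) :=
    (Subgroup.zpowers_le.mpr hg) hy
  have hk : k ≠ 0 := by
    rintro rfl
    rw [pow_zero, orderOf_eq_one_iff] at hyo
    rw [hyo] at hyC
    exact hyC (one_mem _)
  have hr315 : r ∣ 315 := by
    rw [← hG]
    exact (dvd_pow_self r hk).trans (hyo ▸ orderOf_dvd_natCard y)
  have hr3 : r = 3 ∨ r = 5 ∨ r = 7 := by
    have h1 : r ∣ 3 ^ 2 * (5 * 7) := by norm_num; exact hr315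
    rcases (hr.dvd_mul).mp h1 with h | h
    · left
      exact (Nat.prime_dvd_prime_iff_eq hr Nat.prime_three).mp (hr.dvd_of_dvd_pow h)
    · rcases (hr.dvd_mul).mp h with h | h
      · right; left
        exact (Nat.prime_dvd_prime_iff_eq hr (by norm_num)).mp h
      · right; right
        exact (Nat.prime_dvd_prime_iff_eq hr (by norm_num)).mp h
  by_cases hr0 : r = 3
  · subst hr0
    have hQy : y ∈ (Q : Subgroup G) := mem_of_normalizer_of_orderOf Q hyo hyN
    apply hyC
    rw [mem_centralizer_iff]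
    intro b hb
    have h9 : Nat.card (Q : Subgroup G) = 3 ^ 2 := by rw [hQ]; norm_num
    have hcomm := IsPGroup.commutative_of_card_eq_prime_sq h9
    exact congrArg Subtype.val (hcomm ⟨b, hb⟩ ⟨y, hQy⟩)
  · haveI : Fact r.Prime := ⟨hr⟩
    have hA : IsPGroup r (zpowers y) := by
      rw [IsPGroup.iff_card, Nat.card_zpowers]
      exact ⟨k, hyo⟩
    have hmod := Cfsg.Agent.Lib.Struct.card_modEq_inf_centralizer (Q := (Q : Subgroup G)) hA
      (Subgroup.zpowers_le.mpr hyN)
    rw [hQ] at hmod
    have hdvd : Nat.card ((Q : Subgroup G) ⊓ centralizer ((zpowers y : Subgroup G) : Set G) : Subgroup G) ∣ 3 ^ 2 := by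
      have := Subgroup.card_dvd_of_le (inf_le_left :
        (Q : Subgroup G) ⊓ centralizer ((zpowers y : Subgroup G) : Set G) ≤ Q)
      rw [hQ] at this
      exact this
    obtain ⟨j, hj, hj2⟩ := (Nat.dvd_prime_pow Nat.prime_three).mp hdvd
    rw [hj2] at hmod
    have hj3 : j = 2 := by
      interval_cases j
      · exfalso
        rcases hr3 with h | h | h
        · exact hr0 h
        · subst h; revert hmod; decide
        · subst h; revert hmod; decide
      · exfalso
        rcases hr3 with h | h | h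
        · exact hr0 h
        · subst h; revert hmod; decide
        · subst h; revert hmod; decide
      · rfl
    subst hj3
    have heq : (Q : Subgroup G) ⊓ centralizer ((zpowers y : Subgroup G) : Set G) = Q := by
      apply Subgroup.eq_of_le_of_card_ge inf_le_left
      rw [hQ, hj2]
      norm_num
    apply hyC
    rw [mem_centralizer_iff]
    intro b hb
    have h1 : b ∈ centralizer ((zpowers y : Subgroup G) : Set G) := by
      rw [← heq] at hb
      exact hb.2
    exact ((mem_centralizer_iff.mp h1) y (mem_zpowers y)).symm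

theorem not_min_seven [Fact (Nat.Prime 7)] (hm : Min 7 G) : False := by
  haveI : Fact (Nat.Prime 3) := ⟨Nat.prime_three⟩
  obtain ⟨d, hd, hcard⟩ := hm.exists_card (by norm_num)
  have hodd := hm.not_even (by norm_num)
  have hd6 : d ∣ 6 := hd
  have hd2 : d = 1 ∨ d = 3 := by
    have h6 : d ≤ 6 := Nat.le_of_dvd (by norm_num) hd6
    interval_cases d <;> first
      | (left; rfl) | (right; rfl)
      | (exfalso; revert hd6; decide)
      | (exfalso; apply hodd; rw [hcard]; norm_num)
  obtain ⟨Q⟩ : Nonempty (Sylow 3 G) := inferInstance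
  rcases hd2 with rfl | rfl
  · have hG : Nat.card G = 105 := by rw [hcard]
    have hQ : Nat.card (Q : Subgroup G) = 3 := by
      simpa using card_sylow_of (q := 3) (a := 1) (m := 35) (by rw [hG]; norm_num) (by norm_num) Q
    have hmin : (Nat.card G).minFac = 3 := by rw [hG]; norm_num
    haveI hcyc : IsCyclic (Q : Subgroup G) := isCyclic_of_prime_card hQ
    exact hm.no_burnside 3 (by norm_num) (by rw [hG]; norm_num) Q (hcyc.normalizer_le_centralizer hmin)
  · have hG : Nat.card G = 315 := by rw [hcard]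
    have hQ : Nat.card (Q : Subgroup G) = 9 := by
      simpa using card_sylow_of (q := 3) (a := 2) (m := 35) (by rw [hG]; norm_num) (by norm_num) Q
    exact hm.no_burnside 3 (by norm_num) (by rw [hG]; norm_num) Q
      (normalizer_le_centralizer_315 hG Q hQ)

theorem not_min_seventeen [Fact (Nat.Prime 17)] (hm : Min 17 G) : False := by
  haveI : Fact (Nat.Prime 5) := ⟨by norm_num⟩
  obtain ⟨d, hd, hcard⟩ := hm.exists_card (by norm_num)
  have hodd := hm.not_even (by norm_num)
  have hd6 : d ∣ 16 := hd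
  have hd2 : d = 1 := by
    have h6 : d ≤ 16 := Nat.le_of_dvd (by norm_num) hd6
    interval_cases d <;> first
      | rfl
      | (exfalso; revert hd6; decide)
      | (exfalso; apply hodd; rw [hcard]; norm_num)
  subst hd2
  obtain ⟨Q⟩ : Nonempty (Sylow 5 G) := inferInstance
  have hG : Nat.card G = 595 := by rw [hcard]
  have hQ : Nat.card (Q : Subgroup G) = 5 := by
    simpa using card_sylow_of (q := 5) (a := 1) (m := 119) (by rw [hG]; norm_num) (by norm_num) Q
  have hmin : (Nat.card G).minFac = 5 := by rw [hG]; norm_num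
  haveI hcyc : IsCyclic (Q : Subgroup G) := isCyclic_of_prime_card hQ
  exact hm.no_burnside 5 (by norm_num) (by rw [hG]; norm_num) Q (hcyc.normalizer_le_centralizer hmin)

end numeric

theorem card_sylow_seven_ne (G : Type u) [Group G] [Finite G] [Fact (Nat.Prime 7)] :
    Nat.card (Sylow 7 G) ≠ 15 := by
  intro h
  obtain ⟨G', _, _, hm⟩ := exists_min (p := 7) _ G rfl (by rw [h])
  exact not_min_seven hm

theorem card_sylow_seventeen_ne (G : Type u) [Group G] [Finite G] [Fact (Nat.Prime 17)] :
    Nat.card (Sylow 17 G) ≠ 35 := by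
  intro h
  obtain ⟨G', _, _, hm⟩ := exists_min (p := 17) _ G rfl (by rw [h])
  exact not_min_seventeen hm

end Cfsg.Agent.Lib.Struct.SylowTwoP
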