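import Cfsg.Prelude.Def_Solvable
import Cfsg.Prelude.Def_Transfer
import Cfsg.Agent.Lib.Basic.Core
import Cfsg.Agent.Lib.Basic.Nilpotent
import Cfsg.Agent.Lib.OddLocal.HallHigman

namespace Cfsg.Agent.Lib.Struct.Eigen

open Subgroup

variable {G : Type*} [Group G]

theorem sign_list (W : Subgroup G) (hc : ∀ x ∈ W, ∀ y ∈ W, x * y = y * x) (hne : ∃ w ∈ W, w ≠ 1)
    (l : List G) (h2 : ∀ t ∈ l, t * t = 1) (hW : ∀ t ∈ l, ∀ w ∈ W, t * w * t⁻¹ ∈ W)
    (hcom : ∀ s ∈ l, ∀ t ∈ l, s * t = t * s) :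
    ∃ w ∈ W, w ≠ 1 ∧ ∀ t ∈ l, t * w * t⁻¹ = w ∨ t * w * t⁻¹ = w⁻¹ := by
  induction l with
  | nil => obtain ⟨w, hw, h1⟩ := hne; exact ⟨w, hw, h1, by simp⟩
  | cons t l ih =>
    obtain ⟨w, hw, hw1, hwl⟩ := ih (fun s hs => h2 s (List.mem_cons_of_mem _ hs))
      (fun s hs => hW s (List.mem_cons_of_mem _ hs))
      (fun s hs r hr => hcom s (List.mem_cons_of_mem _ hs) r (List.mem_cons_of_mem _ hr))
    have ht2 := h2 t (by simp)
    have htinv : t⁻¹ = t := inv_eq_of_mul_eq_one_left ht2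
    have htw : t * w * t⁻¹ ∈ W := hW t (by simp) w hw
    by_cases hv : w * (t * w * t⁻¹) = 1
    · refine ⟨w, hw, hw1, ?_⟩
      intro s hs
      rcases List.mem_cons.1 hs with rfl | hs
      · right; exact eq_inv_of_mul_eq_one_right hv
      · exact hwl s hs
    · refine ⟨_, W.mul_mem hw htw, hv, ?_⟩
      intro s hs
      rcases List.mem_cons.1 hs with rfl | hs
      · left
        rw [htinv] at htw ⊢
        have e : s * (w * (s * w * s)) * s = (s * w * s) * w * (s * s) := by group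
        rw [e, ht2, mul_one]
        exact hc _ htw _ hw
      · have hst : s * t = t * s := hcom s (List.mem_cons_of_mem _ hs) t (by simp)
        have hsinv : s⁻¹ = s := inv_eq_of_mul_eq_one_left (h2 s (List.mem_cons_of_mem _ hs))
        have e : s * (w * (t * w * t⁻¹)) * s⁻¹ = (s * w * s⁻¹) * (t * (s * w * s⁻¹) * t⁻¹) := by
          rw [htinv, hsinv]
          have : s * t * w * t * s = t * s * w * s * t := by
            calc s * t * w * t * s = (s * t) * w * (t * s) := by group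
              _ = (t * s) * w * (s * t) := by rw [hst]
              _ = t * s * w * s * t := by group
          calc s * (w * (t * w * t)) * s = (s * w) * ((s * s) * (t * w * t)) * s := by
                  rw [h2 s (List.mem_cons_of_mem _ hs)]; group
            _ = (s * w * s) * (s * t * w * t * s) := by group
            _ = (s * w * s) * (t * s * w * s * t) := by rw [this]
            _ = _ := by group
        rcases hwl s hs with h | h
        · left; rw [e, h]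
        · right; rw [e, h]
          have h3 : t * w⁻¹ * t⁻¹ = (t * w * t⁻¹)⁻¹ := by group
          rw [h3, mul_inv_rev w (t * w * t⁻¹)]
          exact hc _ (W.inv_mem hw) _ (W.inv_mem htw)

theorem sign_subgroup [Finite G] (W I : Subgroup G) (hc : ∀ x ∈ W, ∀ y ∈ W, x * y = y * x)
    (hne : ∃ w ∈ W, w ≠ 1) (h2 : ∀ t ∈ I, t * t = 1) (hW : ∀ t ∈ I, ∀ w ∈ W, t * w * t⁻¹ ∈ W)
    (hcom : ∀ s ∈ I, ∀ t ∈ I, s * t = t * s) :
    ∃ w ∈ W, w ≠ 1 ∧ ∀ t ∈ I, t * w * t⁻¹ = w ∨ t * w * t⁻¹ = w⁻¹ := by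
  classical
  have hfin : (I : Set G).Finite := Set.toFinite _
  have hmem : ∀ t, t ∈ hfin.toFinset.toList ↔ t ∈ I := by intro t; simp
  obtain ⟨w, hw, h1, h⟩ := sign_list W hc hne hfin.toFinset.toList
    (fun t ht => h2 t ((hmem t).1 ht)) (fun t ht => hW t ((hmem t).1 ht))
    (fun s hs t ht => hcom s ((hmem s).1 hs) t ((hmem t).1 ht))
  exact ⟨w, hw, h1, fun t ht => h t ((hmem t).2 ht)⟩

theorem sign_mod_normal [Finite G] (A W I : Subgroup G) [A.Normal]
    (hne : ∃ x ∈ W, x ∉ A) (hcomm : ∀ x ∈ W, ∀ y ∈ W, x * y * x⁻¹ * y⁻¹ ∈ A)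
    (h2 : ∀ t ∈ I, t * t = 1) (hcom : ∀ s ∈ I, ∀ t ∈ I, s * t = t * s)
    (hW : ∀ t ∈ I, ∀ w ∈ W, t * w * t⁻¹ ∈ W) :
    ∃ x ∈ W, x ∉ A ∧ ∀ t ∈ I, t * x * t⁻¹ * x⁻¹ ∈ A ∨ t * x * t⁻¹ * x ∈ A := by
  classical
  let π := QuotientGroup.mk' A
  have hker : ∀ x, π x = 1 ↔ x ∈ A := by
    intro x; exact QuotientGroup.eq_one_iff x
  obtain ⟨x0, hx0, hx0A⟩ := hne
  obtain ⟨q, hq, hq1, hqt⟩ := sign_subgroup (W.map π) (I.map π)
    (by
      rintro _ ⟨x, hx, rfl⟩ _ ⟨y, hy, rfl⟩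
      have := (hker _).2 (hcomm x hx y hy)
      simp only [map_mul, map_inv] at this
      have h3 : π x * π y * (π x)⁻¹ = π y := mul_inv_eq_one.1 this
      rw [mul_inv_eq_iff_eq_mul] at h3
      exact h3)
    ⟨π x0, ⟨x0, hx0, rfl⟩, fun h => hx0A ((hker _).1 h)⟩
    (by
      rintro _ ⟨t, ht, rfl⟩
      rw [← map_mul, h2 t ht, map_one])
    (by
      rintro _ ⟨t, ht, rfl⟩ _ ⟨w, hw, rfl⟩
      exact ⟨t * w * t⁻¹, hW t ht w hw, by simp⟩)
    (by
      rintro _ ⟨s, hs, rfl⟩ _ ⟨t, ht, rfl⟩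
      rw [← map_mul, hcom s hs t ht, map_mul])
  obtain ⟨x, hx, rfl⟩ := hq
  refine ⟨x, hx, fun h => hq1 ((hker _).2 h), fun t ht => ?_⟩
  rcases hqt (π t) ⟨t, ht, rfl⟩ with h | h
  · left
    rw [← hker]
    simp only [map_mul, map_inv]
    rw [h]; group
  · right
    rw [← hker]
    simp only [map_mul, map_inv]
    rw [h]; group

/-- Same without normality of `A`, as long as everything normalizes it. -/
theorem sign_mod [Finite G] (A W I : Subgroup G)
    (hWA : W ≤ normalizer (A : Set G)) (hIA : I ≤ normalizer (A : Set G))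
    (hne : ∃ x ∈ W, x ∉ A) (hcomm : ∀ x ∈ W, ∀ y ∈ W, x * y * x⁻¹ * y⁻¹ ∈ A)
    (h2 : ∀ t ∈ I, t * t = 1) (hcom : ∀ s ∈ I, ∀ t ∈ I, s * t = t * s)
    (hW : ∀ t ∈ I, ∀ w ∈ W, t * w * t⁻¹ ∈ W) :
    ∃ x ∈ W, x ∉ A ∧ ∀ t ∈ I, t * x * t⁻¹ * x⁻¹ ∈ A ∨ t * x * t⁻¹ * x ∈ A := by
  classical
  let N := normalizer (A : Set G)
  have : (A.subgroupOf N).Normal := by
    constructor
    rintro ⟨a, ha⟩ ha' ⟨g, hg⟩
    rw [mem_subgroupOf] at ha' ⊢
    exact (mem_normalizer_iff.1 hg a).1 ha'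
  obtain ⟨x0, hx0, hx0A⟩ := hne
  obtain ⟨x, hx, hxA, h⟩ := sign_mod_normal (A.subgroupOf N) (W.subgroupOf N) (I.subgroupOf N)
    ⟨⟨x0, hWA hx0⟩, by simpa [mem_subgroupOf] using hx0, by simpa [mem_subgroupOf] using hx0A⟩
    (by
      rintro ⟨x, _⟩ hx ⟨y, _⟩ hy
      rw [mem_subgroupOf] at hx hy ⊢
      exact hcomm x hx y hy)
    (by
      rintro ⟨x, _⟩ hx
      rw [mem_subgroupOf] at hx
      exact Subtype.ext (h2 x hx))
    (by
      rintro ⟨x, _⟩ hx ⟨y, _⟩ hy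
      rw [mem_subgroupOf] at hx hy
      exact Subtype.ext (hcom x hx y hy))
    (by
      rintro ⟨x, _⟩ hx ⟨y, _⟩ hy
      rw [mem_subgroupOf] at hx hy ⊢
      exact hW x hx y hy)
  obtain ⟨x, hxN⟩ := x
  rw [mem_subgroupOf] at hx hxA
  refine ⟨x, hx, hxA, fun t ht => ?_⟩
  have := h ⟨t, hIA ht⟩ (by simpa [mem_subgroupOf] using ht)
  simpa [mem_subgroupOf] using this

/-- Conjugation-stable implies in the normalizer, in a finite group. -/
theorem mem_normalizer_of_conj_mem [Finite G] (H : Subgroup G) (g : G)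
    (h : ∀ x ∈ H, g * x * g⁻¹ ∈ H) : g ∈ normalizer (H : Set G) := by
  rw [mem_normalizer_iff_map_conj_eq]
  apply Subgroup.eq_of_le_of_card_ge
  · rintro _ ⟨x, hx, rfl⟩
    exact h x hx
  · rw [Subgroup.card_map_of_injective (MulAut.conj g).injective]

/-- The subgroup of `F` of elements centralizing `A` and central in `F` modulo `A`. -/
def wSub (F A : Subgroup G) (hFA : F ≤ normalizer (A : Set G)) : Subgroup G where
  carrier := {x | x ∈ F ∧ (∀ a ∈ A, x * a = a * x) ∧ ∀ y ∈ F, x * y * x⁻¹ * y⁻¹ ∈ A}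
  one_mem' := ⟨F.one_mem, by simp, by simp⟩
  mul_mem' := by
    rintro x x' ⟨hx, hxa, hxy⟩ ⟨hx', hxa', hxy'⟩
    refine ⟨F.mul_mem hx hx', fun a ha => ?_, fun y hy => ?_⟩
    · rw [mul_assoc, hxa' a ha, ← mul_assoc, hxa a ha, mul_assoc]
    · have h1 := (mem_normalizer_iff.1 (hFA hx) _).1 (hxy' y hy)
      have h2 := A.mul_mem h1 (hxy y hy)
      have e : x * (x' * y * x'⁻¹ * y⁻¹) * x⁻¹ * (x * y * x⁻¹ * y⁻¹)
          = x * x' * y * (x * x')⁻¹ * y⁻¹ := by group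
      rwa [e] at h2
  inv_mem' := by
    rintro x ⟨hx, hxa, hxy⟩
    refine ⟨F.inv_mem hx, fun a ha => ?_, fun y hy => ?_⟩
    · exact (show Commute x a from hxa a ha).inv_left
    · have h1 := (mem_normalizer_iff.1 (hFA (F.inv_mem hx)) _).1 (A.inv_mem (hxy y hy))
      have e : x⁻¹ * (x * y * x⁻¹ * y⁻¹)⁻¹ * x⁻¹⁻¹ = x⁻¹ * y * x⁻¹⁻¹ * y⁻¹ := by group
      rwa [e] at h1

theorem exists_wSub [Finite G] (F A : Subgroup G) (hF : Group.IsNilpotent F) (hFn : F.Normal)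
    (hFA : F ≤ normalizer (A : Set G)) (x0 : G) (hx0F : x0 ∈ F)
    (hx0 : ∀ a ∈ A, x0 * a = a * x0) (hx0A : x0 ∉ A) : ∃ x ∈ wSub F A hFA, x ∉ A := by
  classical
  have hnA : (A.subgroupOf F).Normal := by
    constructor
    rintro ⟨a, ha⟩ ha' ⟨g, hg⟩
    rw [mem_subgroupOf] at ha' ⊢
    exact (mem_normalizer_iff.1 (hFA hg) a).1 ha'
  let C : Subgroup F := (centralizer (A : Set G)).subgroupOf F
  have hnC : C.Normal := by
    constructor
    rintro ⟨c, hc⟩ hc' ⟨g, hg⟩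
    simp only [C, mem_subgroupOf] at hc' ⊢
    rw [mem_centralizer_iff] at hc'
    show g * c * g⁻¹ ∈ centralizer (A : Set G)
    rw [mem_centralizer_iff]
    intro a ha
    have h1 : g⁻¹ * a * g⁻¹⁻¹ ∈ A := (mem_normalizer_iff.1 (hFA (F.inv_mem hg)) _).1 ha
    have h2 := hc' _ h1
    simp only [inv_inv] at h2 ⊢
    calc a * (g * c * g⁻¹) = g * ((g⁻¹ * a * g) * c) * g⁻¹ := by group
      _ = g * (c * (g⁻¹ * a * g)) * g⁻¹ := by rw [h2]
      _ = _ := by group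
  let π := QuotientGroup.mk' (A.subgroupOf F)
  have hπ : Function.Surjective π := QuotientGroup.mk'_surjective _
  have hker : ∀ x, π x = 1 ↔ x ∈ A.subgroupOf F := fun x => QuotientGroup.eq_one_iff x
  have hnil : Group.IsNilpotent (F ⧸ A.subgroupOf F) := inferInstance
  have hnM : (C.map π).Normal := hnC.map π hπ
  have hne : C.map π ≠ ⊥ := by
    intro h
    have : π ⟨x0, hx0F⟩ ∈ C.map π := ⟨_, by
      simp only [C, SetLike.mem_coe, mem_subgroupOf, mem_centralizer_iff]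
      exact fun a ha => (hx0 a ha).symm, rfl⟩
    rw [h, mem_bot, hker, mem_subgroupOf] at this
    exact hx0A this
  have := Cfsg.Agent.Lib.Basic.normal_inf_center_ne_bot (C.map π) hne
  obtain ⟨q, hq, hq1⟩ := Subgroup.bot_or_exists_ne_one _ |>.resolve_left this
  obtain ⟨⟨x, hxF⟩, hxC, rfl⟩ := hq.1
  simp only [C, SetLike.mem_coe, mem_subgroupOf, mem_centralizer_iff] at hxC
  refine ⟨x, ⟨hxF, fun a ha => (hxC a ha).symm, fun y hy => ?_⟩, fun h => hq1 ?_⟩
  · have h1 := (mem_center_iff.1 hq.2) (π ⟨y, hy⟩)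
    have h2 : π (⟨x, hxF⟩ * ⟨y, hy⟩ * ⟨x, hxF⟩⁻¹ * ⟨y, hy⟩⁻¹) = 1 := by
      simp only [map_mul, map_inv]
      rw [← h1]; group
    have h3 := (hker _).1 h2
    rw [mem_subgroupOf] at h3
    simpa using h3
  · rw [hker, mem_subgroupOf]; exact h

theorem comm_sup_zpowers (A : Subgroup G) (x : G) (hA : ∀ a ∈ A, ∀ b ∈ A, a * b = b * a)
    (hx : ∀ a ∈ A, x * a = a * x) :
    ∀ u ∈ A ⊔ zpowers x, ∀ v ∈ A ⊔ zpowers x, u * v = v * u := by
  have h1 : ∀ a ∈ A, A ⊔ zpowers x ≤ centralizer {a} := by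
    intro a ha
    refine sup_le ?_ ?_
    · intro b hb
      rw [mem_centralizer_singleton_iff]
      exact hA b hb a ha
    · rw [zpowers_le, mem_centralizer_singleton_iff]
      exact hx a ha
  have h2 : A ⊔ zpowers x ≤ centralizer {x} := by
    refine sup_le ?_ ?_
    · intro b hb
      rw [mem_centralizer_singleton_iff]
      exact (hx b hb).symm
    · rw [zpowers_le, mem_centralizer_singleton_iff]
  intro u hu v hv
  have h3 : A ⊔ zpowers x ≤ centralizer {v} := by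
    refine sup_le ?_ ?_
    · intro a ha
      rw [mem_centralizer_singleton_iff]
      have := h1 a ha hv
      rw [mem_centralizer_singleton_iff] at this
      exact this.symm
    · rw [zpowers_le, mem_centralizer_singleton_iff]
      have := h2 hv
      rw [mem_centralizer_singleton_iff] at this
      exact this.symm
  have := h3 hu
  rwa [mem_centralizer_singleton_iff] at this

theorem normalizer_sup_zpowers [Finite G] (A : Subgroup G) (x y : G)
    (hy : y ∈ normalizer (A : Set G)) (hx : y * x * y⁻¹ ∈ A ⊔ zpowers x) :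
    y ∈ normalizer ((A ⊔ zpowers x : Subgroup G) : Set G) := by
  apply mem_normalizer_of_conj_mem
  have hle : A ⊔ zpowers x ≤ (A ⊔ zpowers x).comap (MulAut.conj y).toMonoidHom := by
    refine sup_le ?_ ?_
    · intro a ha
      rw [mem_comap]
      exact (le_sup_left : A ≤ A ⊔ zpowers x) ((mem_normalizer_iff.1 hy a).1 ha)
    · rw [zpowers_le, mem_comap]
      exact hx
  intro u hu
  exact hle hu

/-- A maximal abelian subgroup among those normalized by `F` and `I` is self-centralizing in `F`. -/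
theorem exists_self_centralizing [Finite G] (F I : Subgroup G) (hFn : F.Normal)
    (hF : Group.IsNilpotent F)
    (h2 : ∀ t ∈ I, t * t = 1) (hcom : ∀ s ∈ I, ∀ t ∈ I, s * t = t * s) :
    ∃ A : Subgroup G, A ≤ F ∧ F ≤ normalizer (A : Set G) ∧ I ≤ normalizer (A : Set G) ∧
      (∀ a ∈ A, ∀ b ∈ A, a * b = b * a) ∧ ∀ x ∈ F, (∀ a ∈ A, x * a = a * x) → x ∈ A := by
  classical
  let P : Set (Subgroup G) := {A | A ≤ F ∧ F ≤ normalizer (A : Set G) ∧ I ≤ normalizer (A : Set G) ∧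
      (∀ a ∈ A, ∀ b ∈ A, a * b = b * a)}
  have hbot : (⊥ : Subgroup G) ∈ P := by
    refine ⟨bot_le, ?_, ?_, ?_⟩
    · intro g _; exact mem_normalizer_iff.2 (by simp)
    · intro g _; exact mem_normalizer_iff.2 (by simp)
    · intro a ha b hb
      rw [mem_bot] at ha hb
      simp [ha, hb]
  obtain ⟨A, hAm⟩ := (Set.toFinite P).exists_maximal ⟨⊥, hbot⟩
  obtain ⟨⟨hAF, hFA, hIA, hAc⟩, hmax⟩ := hAm
  refine ⟨A, hAF, hFA, hIA, hAc, ?_⟩
  intro x0 hx0F hx0
  by_contra hx0A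
  obtain ⟨x1, hx1, hx1A⟩ := exists_wSub F A hF hFn hFA x0 hx0F hx0 hx0A
  obtain ⟨x, hx, hxA, hxI⟩ := sign_mod A (wSub F A hFA) I (fun x hx => hFA hx.1) hIA ⟨x1, hx1, hx1A⟩
    (fun x hx y hy => hx.2.2 y hy.1) h2 hcom
    (by
      rintro t ht w ⟨hwF, hwa, hwy⟩
      refine ⟨hFn.conj_mem w hwF t, fun a ha => ?_, fun y hy => ?_⟩
      · have h1 : t⁻¹ * a * t⁻¹⁻¹ ∈ A := (mem_normalizer_iff.1 (hIA (I.inv_mem ht)) _).1 ha
        have h3 := hwa _ h1
        simp only [inv_inv] at h3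
        calc t * w * t⁻¹ * a = t * (w * (t⁻¹ * a * t)) * t⁻¹ := by group
          _ = t * ((t⁻¹ * a * t) * w) * t⁻¹ := by rw [h3]
          _ = _ := by group
      · have h1 := hwy _ (hFn.conj_mem y hy t⁻¹)
        have h3 := (mem_normalizer_iff.1 (hIA ht) _).1 h1
        have e : t * (w * (t⁻¹ * y * t⁻¹⁻¹) * w⁻¹ * (t⁻¹ * y * t⁻¹⁻¹)⁻¹) * t⁻¹
            = t * w * t⁻¹ * y * (t * w * t⁻¹)⁻¹ * y⁻¹ := by group
        rwa [e] at h3)
  obtain ⟨hxF, hxa, hxy⟩ := hx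
  have hK : A ⊔ zpowers x ∈ P := by
    refine ⟨sup_le hAF ((zpowers_le).2 hxF), ?_, ?_, comm_sup_zpowers A x hAc hxa⟩
    · intro y hy
      apply normalizer_sup_zpowers A x y (hFA hy)
      have h1 := A.inv_mem (hxy y hy)
      have e : y * x * y⁻¹ = (x * y * x⁻¹ * y⁻¹)⁻¹ * x := by group
      rw [e]
      exact mul_mem_sup h1 (mem_zpowers x)
    · intro t ht
      apply normalizer_sup_zpowers A x t (hIA ht)
      rcases hxI t ht with h | h
      · have e : t * x * t⁻¹ = (t * x * t⁻¹ * x⁻¹) * x := by group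
        rw [e]
        exact mul_mem_sup h (mem_zpowers x)
      · have e : t * x * t⁻¹ = (t * x * t⁻¹ * x) * x⁻¹ := by group
        rw [e]
        exact mul_mem_sup h ((zpowers x).inv_mem (mem_zpowers x))
  have hle := hmax hK le_sup_left
  exact hxA (hle (mem_sup_right (mem_zpowers x)))

theorem eq_one_of_sq_of_odd [Finite G] (F : Subgroup G) (hF : Odd (Nat.card F)) {x : G} (hx : x ∈ F)
    (h : x * x = 1) : x = 1 := by
  have h1 : orderOf x ∣ Nat.card F := Subgroup.orderOf_dvd_natCard F hx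
  have h2 : orderOf x ∣ 2 := orderOf_dvd_of_pow_eq_one (by rw [pow_two, h])
  have h3 : orderOf x ∣ 1 := by
    have : Nat.Coprime 2 (Nat.card F) := (Nat.coprime_two_left).2 hF
    exact Nat.Coprime.eq_one_of_dvd (this.coprime_dvd_left h2 |>.symm.coprime_dvd_left h1 |>.symm) dvd_rfl ▸ dvd_rfl
  exact orderOf_eq_one_iff.1 (Nat.dvd_one.1 h3)

/-- Step (B): `I` acts faithfully on `A`. -/
theorem faithful [Finite G] (F I A : Subgroup G) (hFn : F.Normal) (hodd : Odd (Nat.card F))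
    (hcF : centralizer (F : Set G) ≤ F)
    (hFA : F ≤ normalizer (A : Set G))
    (hcen : ∀ x ∈ F, (∀ a ∈ A, x * a = a * x) → x ∈ A)
    (h2 : ∀ t ∈ I, t * t = 1) (hAF : A ≤ F) :
    ∀ i ∈ I, (∀ a ∈ A, i * a = a * i) → i = 1 := by
  intro i hi hia
  have hinv : i⁻¹ = i := inv_eq_of_mul_eq_one_left (h2 i hi)
  have hcentral : ∀ x ∈ F, i * x * i⁻¹ = x := by
    intro x hx
    have hax : x⁻¹ * (i * x * i⁻¹) ∈ A := by
      apply hcen _ (F.mul_mem (F.inv_mem hx) (hFn.conj_mem x hx i))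
      intro b hb
      have hb' : x * b * x⁻¹ ∈ A := (mem_normalizer_iff.1 (hFA hx) _).1 hb
      have h3 := hia _ hb'
      have h4 := hia b hb
      -- i (x b x⁻¹) i⁻¹ = x b x⁻¹
      have h5 : (i * x * i⁻¹) * b * (i * x * i⁻¹)⁻¹ = x * b * x⁻¹ := by
        have : i * (x * b * x⁻¹) * i⁻¹ = x * b * x⁻¹ := by rw [h3]; group
        rw [← this]
        have hb2 : i⁻¹ * b * i = b := by rw [mul_assoc, ← h4]; group
        calc (i * x * i⁻¹) * b * (i * x * i⁻¹)⁻¹ = i * x * (i⁻¹ * b * i) * x⁻¹ * i⁻¹ := by group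
          _ = _ := by rw [hb2]; group
      calc x⁻¹ * (i * x * i⁻¹) * b = x⁻¹ * ((i * x * i⁻¹) * b * (i * x * i⁻¹)⁻¹) * (i * x * i⁻¹) := by group
        _ = x⁻¹ * (x * b * x⁻¹) * (i * x * i⁻¹) := by rw [h5]
        _ = _ := by group
    have h3 := hia _ hax
    -- i a i⁻¹ = a⁻¹
    have h4 : i * (x⁻¹ * (i * x * i⁻¹)) * i⁻¹ = (x⁻¹ * (i * x * i⁻¹))⁻¹ := by
      have e1 : i * (x⁻¹ * (i * x * i⁻¹)) * i⁻¹ = i * x⁻¹ * i * x * (i⁻¹ * i⁻¹) := by group
      have e2 : (x⁻¹ * (i * x * i⁻¹))⁻¹ = i * x⁻¹ * i⁻¹ * x := by group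
      rw [e1, e2, hinv, h2 i hi, mul_one]
    have h5 : x⁻¹ * (i * x * i⁻¹) = (x⁻¹ * (i * x * i⁻¹))⁻¹ := by
      rw [← h4, h3]; group
    have h6 : x⁻¹ * (i * x * i⁻¹) * (x⁻¹ * (i * x * i⁻¹)) = 1 :=
      (congrArg (x⁻¹ * (i * x * i⁻¹) * ·) h5).trans (mul_inv_cancel _)
    have h7 := eq_one_of_sq_of_odd F hodd (hAF hax) h6
    rw [inv_mul_eq_one] at h7
    exact h7.symm
  have hi_c : i ∈ centralizer (F : Set G) := by
    rw [mem_centralizer_iff]
    intro x hx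
    have := hcentral x hx
    rw [mul_inv_eq_iff_eq_mul] at this
    exact this.symm
  exact eq_one_of_sq_of_odd F hodd (hcF hi_c) (h2 i hi)

/-- Step (C): a good element. -/
theorem exists_good [Finite G] (F I A : Subgroup G) (hodd : Odd (Nat.card F))
    (hIA : I ≤ normalizer (A : Set G))
    (h2 : ∀ t ∈ I, t * t = 1) (hcom : ∀ s ∈ I, ∀ t ∈ I, s * t = t * s) (hAF : A ≤ F)
    (hAc : ∀ a ∈ A, ∀ b ∈ A, a * b = b * a)
    (i : G) (hi : i ∈ I) (a : G) (ha : a ∈ A) (hia : i * a * i⁻¹ ≠ a) :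
    ∃ w ∈ A, (orderOf w).Prime ∧ (∀ j ∈ I, j * w * j⁻¹ = w ∨ j * w * j⁻¹ = w⁻¹) ∧
      i * w * i⁻¹ ≠ w := by
  classical
  let W : Subgroup G :=
    { carrier := {w | w ∈ A ∧ i * w * i⁻¹ = w⁻¹}
      one_mem' := ⟨A.one_mem, by simp⟩
      mul_mem' := by
        rintro x y ⟨hx, hx'⟩ ⟨hy, hy'⟩
        refine ⟨A.mul_mem hx hy, ?_⟩
        have e : i * (x * y) * i⁻¹ = (i * x * i⁻¹) * (i * y * i⁻¹) := by group
        rw [e, hx', hy', mul_inv_rev]
        exact hAc _ (A.inv_mem hx) _ (A.inv_mem hy)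
      inv_mem' := by
        rintro x ⟨hx, hx'⟩
        refine ⟨A.inv_mem hx, ?_⟩
        have e : i * x⁻¹ * i⁻¹ = (i * x * i⁻¹)⁻¹ := by group
        rw [e, hx'] }
  have hiA : i * a * i⁻¹ ∈ A := (mem_normalizer_iff.1 (hIA hi) _).1 ha
  have hinv : i⁻¹ = i := inv_eq_of_mul_eq_one_left (h2 i hi)
  have hne : ∃ w ∈ W, w ≠ 1 := by
    refine ⟨a⁻¹ * (i * a * i⁻¹), ⟨A.mul_mem (A.inv_mem ha) hiA, ?_⟩, ?_⟩
    · have e1 : i * (a⁻¹ * (i * a * i⁻¹)) * i⁻¹ = (i * a * i⁻¹)⁻¹ * ((i * i) * a * (i⁻¹ * i⁻¹)) := by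
        group
      have e2 : i⁻¹ * i⁻¹ = 1 := by rw [hinv, h2 i hi]
      rw [e1, e2, h2 i hi, mul_inv_rev, inv_inv]
      simp
    · intro h
      rw [inv_mul_eq_one] at h
      exact hia h.symm
  obtain ⟨w, ⟨hwA, hwi⟩, hw1, hwj⟩ := sign_subgroup W I (fun x hx y hy => hAc x hx.1 y hy.1) hne h2
    (by
      rintro t ht w ⟨hwA, hwi⟩
      refine ⟨(mem_normalizer_iff.1 (hIA ht) _).1 hwA, ?_⟩
      have hti := hcom t ht i hi
      calc i * (t * w * t⁻¹) * i⁻¹ = (i * t) * w * (i * t)⁻¹ := by group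
        _ = (t * i) * w * (t * i)⁻¹ := by rw [hcom i hi t ht]
        _ = t * (i * w * i⁻¹) * t⁻¹ := by group
        _ = (t * w * t⁻¹)⁻¹ := by rw [hwi]; group) hcom
  have hord : orderOf w ≠ 1 := fun h => hw1 (orderOf_eq_one_iff.1 h)
  obtain ⟨q, hq, hqd⟩ := Nat.exists_prime_and_dvd hord
  have hord0 : orderOf w ≠ 0 := (orderOf_pos w).ne'
  refine ⟨w ^ (orderOf w / q), A.pow_mem hwA _, ?_, ?_, ?_⟩
  · rw [orderOf_pow_orderOf_div hord0 hqd]; exact hq
  · intro j hj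
    rcases hwj j hj with h | h
    · left; rw [← conj_pow, h]
    · right; rw [← conj_pow, h, inv_pow]
  · rw [← conj_pow, hwi, inv_pow]
    intro h
    have h8 : w ^ (orderOf w / q) * w ^ (orderOf w / q) = 1 :=
      (congrArg (· * w ^ (orderOf w / q)) h.symm).trans (by simp)
    have h9 := eq_one_of_sq_of_odd F hodd (hAF (A.pow_mem hwA _)) h8
    have h10 : orderOf (w ^ (orderOf w / q)) = q := orderOf_pow_orderOf_div hord0 hqd
    rw [h9, orderOf_one] at h10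
    exact hq.one_lt.ne h10

/-- Step (D). -/
theorem exists_basis [Finite G] (I : Subgroup G) (𝒢 : Set G)
    (hsign : ∀ w ∈ 𝒢, ∀ j ∈ I, j * w * j⁻¹ = w ∨ j * w * j⁻¹ = w⁻¹)
    (hne : ∀ w ∈ 𝒢, w ≠ w⁻¹)
    (hsep : ∀ i ∈ I, i ≠ 1 → ∃ w ∈ 𝒢, i * w * i⁻¹ ≠ w) :
    ∀ (k : ℕ) (J : Subgroup G), J ≤ I → Nat.card J = 2 ^ k →
      ∃ w : Fin k → G, (∀ l, w l ∈ 𝒢) ∧ ∀ x ∈ J, (∀ l, x * w l * x⁻¹ = w l) → x = 1 := by
  classical
  intro k
  induction k with
  | zero =>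
    intro J _ hJ
    refine ⟨Fin.elim0, fun l => l.elim0, fun x hx _ => ?_⟩
    have : J = ⊥ := Subgroup.eq_bot_of_card_eq J (by simpa using hJ)
    rw [this, mem_bot] at hx
    exact hx
  | succ k ih =>
    intro J hJI hJ
    have hJne : J ≠ ⊥ := by
      intro h
      rw [h] at hJ
      simp only [card_bot] at hJ
      have : 2 ≤ 2 ^ (k + 1) := by
        rw [pow_succ]; have := Nat.one_le_two_pow (n := k); omega
      omega
    obtain ⟨i, hiJ, hi1⟩ := (Subgroup.bot_or_exists_ne_one J).resolve_left hJne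
    obtain ⟨w, hw, hiw⟩ := hsep i (hJI hiJ) hi1
    have hiw' : i * w * i⁻¹ = w⁻¹ := (hsign w hw i (hJI hiJ)).resolve_left hiw
    let J' : Subgroup G := J ⊓ centralizer {w}
    have hmem : ∀ x, x ∈ J' ↔ x ∈ J ∧ x * w * x⁻¹ = w := by
      intro x
      rw [mem_inf, mem_centralizer_singleton_iff, mul_inv_eq_iff_eq_mul]
    let H : Subgroup J := J'.subgroupOf J
    have hidx : H.index = 2 := by
      rw [Subgroup.index_eq_two_iff]
      refine ⟨⟨i, hiJ⟩, ?_⟩
      rintro ⟨b, hb⟩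
      have e1 : (⟨b, hb⟩ * ⟨i, hiJ⟩ : J) ∈ H ↔ (b * i) * w * (b * i)⁻¹ = w := by
        simp only [H, mem_subgroupOf]
        rw [hmem]
        simp [J.mul_mem hb hiJ]
      have e2 : (⟨b, hb⟩ : J) ∈ H ↔ b * w * b⁻¹ = w := by
        simp only [H, mem_subgroupOf]
        rw [hmem]
        simp [hb]
      rw [e1, e2]
      have e3 : (b * i) * w * (b * i)⁻¹ = b * w⁻¹ * b⁻¹ := by
        rw [← hiw']; group
      have e4 : b * w⁻¹ * b⁻¹ = (b * w * b⁻¹)⁻¹ := by group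
      rw [e3, e4]
      rcases hsign w hw b (hJI hb) with h | h
      · rw [h]
        exact Or.inr ⟨rfl, fun h' => hne w hw h'.symm⟩
      · rw [h, inv_inv]
        exact Or.inl ⟨rfl, fun h' => hne w hw h'.symm⟩
    have hcardH : Nat.card H * 2 = Nat.card J := by
      rw [← hidx]; exact Subgroup.card_mul_index H
    have hcardJ' : Nat.card J' = 2 ^ k := by
      have e : Nat.card H = Nat.card J' :=
        Nat.card_congr (Subgroup.subgroupOfEquivOfLe (inf_le_left : J' ≤ J)).toEquiv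
      rw [← e]
      rw [hJ, pow_succ] at hcardH
      omega
    obtain ⟨w', hw', hw'x⟩ := ih J' (inf_le_left.trans hJI) hcardJ'
    refine ⟨Fin.cons w w', ?_, ?_⟩
    · intro l
      refine Fin.cases ?_ (fun l => ?_) l
      · simpa using hw
      · simpa using hw' l
    · intro x hx hxl
      apply hw'x x ((hmem x).2 ⟨hx, ?_⟩)
      · intro l
        simpa using hxl l.succ
      · simpa using hxl 0

/-- Step (E): a dual basis. -/
theorem dual_basis [Finite G] (I : Subgroup G) (n : ℕ) (hcard : Nat.card I = 2 ^ n)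
    (w : Fin n → G) (hsign : ∀ l, ∀ j ∈ I, j * w l * j⁻¹ = w l ∨ j * w l * j⁻¹ = (w l)⁻¹)
    (hne : ∀ l, w l ≠ (w l)⁻¹)
    (hfaith : ∀ x ∈ I, (∀ l, x * w l * x⁻¹ = w l) → x = 1)
    (h2 : ∀ t ∈ I, t * t = 1) :
    ∀ l, ∃ i ∈ I, i * w l * i⁻¹ = (w l)⁻¹ ∧ ∀ l', l' ≠ l → i * w l' * i⁻¹ = w l' := by
  classical
  let σ : I → (Fin n → Bool) := fun x l => decide ((x : G) * w l * (x : G)⁻¹ = w l)
  have hinj : Function.Injective σ := by
    rintro ⟨x, hx⟩ ⟨y, hy⟩ h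
    have h3 : ∀ l, decide (x * w l * x⁻¹ = w l) = decide (y * w l * y⁻¹ = w l) :=
      fun l => congrFun h l
    have hyinv : y⁻¹ = y := inv_eq_of_mul_eq_one_left (h2 y hy)
    have := hfaith (x * y⁻¹) (I.mul_mem hx (I.inv_mem hy)) (by
      intro l
      have h4 := h3 l
      rw [mul_inv_rev, inv_inv, hyinv]
      have e : x * y * w l * (y * x⁻¹) = x * (y * w l * y⁻¹) * x⁻¹ := by
        rw [hyinv]; group
      rw [e]
      by_cases hyl : y * w l * y⁻¹ = w l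
      · have hxl : x * w l * x⁻¹ = w l := by simpa [hyl] using h4
        rw [hyl, hxl]
      · have hxl : ¬ x * w l * x⁻¹ = w l := by simpa [hyl] using h4
        rw [(hsign l y hy).resolve_left hyl]
        have e2 : x * (w l)⁻¹ * x⁻¹ = (x * w l * x⁻¹)⁻¹ := by group
        rw [e2, (hsign l x hx).resolve_left hxl, inv_inv])
    rw [mul_inv_eq_one] at this
    exact Subtype.ext this
  have hcard2 : Nat.card (Fin n → Bool) = Nat.card I := by
    rw [hcard]; simp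
  have hsurj : Function.Surjective σ :=
    ((Function.Injective.bijective_of_nat_card_le hinj hcard2.le)).2
  intro l
  obtain ⟨⟨i, hi⟩, hσ⟩ := hsurj (fun l' => decide (l' ≠ l))
  refine ⟨i, hi, ?_, ?_⟩
  · have h3 := congrFun hσ l
    simp only [σ, ne_eq, not_true_eq_false, decide_false, decide_eq_false_iff_not] at h3
    exact (hsign l i hi).resolve_left h3
  · intro l' hl'
    have h3 := congrFun hσ l'
    simpa [σ, hl'] using h3

theorem card_iSup_of_indep {ι : Type*} [Fintype ι] [DecidableEq ι] [Finite G] (H : ι → Subgroup G)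
    (hcomm : Pairwise fun i j => ∀ x y, x ∈ H i → y ∈ H j → Commute x y)
    (hind : iSupIndep H) : Nat.card ↥(⨆ i, H i) = ∏ i, Nat.card (H i) := by
  have hinj := Subgroup.injective_noncommPiCoprod_of_iSupIndep (hcomm := hcomm) hind
  have hr := Subgroup.noncommPiCoprod_range (hcomm := hcomm)
  rw [← hr, Nat.card_congr (MonoidHom.ofInjective hinj).toEquiv.symm, Nat.card_pi]

/-- The main theorem. -/
theorem main_eigen {S : Type*} [Group S] [Finite S] [Group.IsSolvable S]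
    (hF : Odd (Nat.card ↥(Cfsg.fittingSubgroup S)))
    (I : Subgroup S) (hI : Cfsg.IsElementaryAbelian 2 I) (n : ℕ) (hIn : Nat.card ↥I = 2 ^ n) :
    ∃ f : Fin n → Subgroup S, (∀ i, (Nat.card ↥(f i)).Prime) ∧ (∀ i, f i ≤ Cfsg.fittingSubgroup S) ∧
      (∀ i, I ≤ Subgroup.normalizer ((f i) : Set S)) ∧
      (∀ i j, i ≠ j → ∀ a ∈ f i, ∀ b ∈ f j, a * b = b * a) ∧
      Nat.card ↥(⨆ i, f i) = ∏ i, Nat.card ↥(f i) ∧
      I ⊓ Subgroup.centralizer ((⨆ i, f i : Subgroup S) : Set S) = ⊥ := by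
  classical
  set F := Cfsg.fittingSubgroup S with hFdef
  have hFn : F.Normal := Cfsg.Agent.Lib.Basic.fittingSubgroup_normal
  have hFnil : Group.IsNilpotent F := Cfsg.Agent.Lib.Basic.fittingSubgroup_isNilpotent
  have hcF : centralizer (F : Set S) ≤ F := Cfsg.Agent.Lib.OddLocal.centralizer_fitting_le_of_solvable
  have h2 : ∀ t ∈ I, t * t = 1 := fun t ht => by rw [← pow_two]; exact hI.2 t ht
  have hcom : ∀ s ∈ I, ∀ t ∈ I, s * t = t * s := by
    intro s hs t ht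
    have := hI.1
    have h3 := mul_comm' (⟨s, hs⟩ : I) ⟨t, ht⟩
    exact congrArg Subtype.val h3
  obtain ⟨A, hAF, hFA, hIA, hAc, hcen⟩ := exists_self_centralizing F I hFn hFnil h2 hcom
  have hfaith := faithful F I A hFn hF hcF hFA hcen h2 hAF
  let 𝒢 : Set S := {w | w ∈ A ∧ (orderOf w).Prime ∧ ∀ j ∈ I, j * w * j⁻¹ = w ∨ j * w * j⁻¹ = w⁻¹}
  have hne : ∀ w ∈ 𝒢, w ≠ w⁻¹ := by
    rintro w ⟨hwA, hwp, _⟩ h
    have h3 : w * w = 1 := (congrArg (w * ·) h).trans (mul_inv_cancel w)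
    have h4 := eq_one_of_sq_of_odd F hF (hAF hwA) h3
    rw [h4, orderOf_one] at hwp
    exact Nat.not_prime_one hwp
  have hsep : ∀ i ∈ I, i ≠ 1 → ∃ w ∈ 𝒢, i * w * i⁻¹ ≠ w := by
    intro i hi hi1
    have : ∃ a ∈ A, i * a * i⁻¹ ≠ a := by
      by_contra hcon
      push Not at hcon
      apply hi1
      apply hfaith i hi
      intro a ha
      have := hcon a ha
      rwa [mul_inv_eq_iff_eq_mul] at this
    obtain ⟨a, ha, hia⟩ := this
    obtain ⟨w, hwA, hwp, hwj, hwi⟩ := exists_good F I A hF hIA h2 hcom hAF hAc i hi a ha hia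
    exact ⟨w, ⟨hwA, hwp, hwj⟩, hwi⟩
  obtain ⟨w, hw, hwx⟩ := exists_basis I 𝒢 (fun w hw => hw.2.2) hne hsep n I le_rfl hIn
  obtain hdual := dual_basis I n hIn w (fun l => (hw l).2.2) (fun l => hne _ (hw l)) hwx h2
  have hcz : ∀ i j, ∀ a ∈ zpowers (w i), ∀ b ∈ zpowers (w j), a * b = b * a := by
    intro i j a ha b hb
    have hle : ∀ l, zpowers (w l) ≤ A := fun l => (zpowers_le).2 (hw l).1
    exact hAc a (hle i ha) b (hle j hb)
  refine ⟨fun l => zpowers (w l), ?_, ?_, ?_, fun i j _ => hcz i j, ?_, ?_⟩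
  · intro l
    rw [Nat.card_zpowers]
    exact (hw l).2.1
  · intro l
    exact ((zpowers_le).2 (hw l).1).trans hAF
  · intro l x hx
    apply mem_normalizer_of_conj_mem
    intro y hy
    obtain ⟨k, rfl⟩ := mem_zpowers_iff.1 hy
    rw [← conj_zpow]
    rcases (hw l).2.2 x hx with h | h
    · rw [h]; exact zpow_mem (mem_zpowers _) _
    · rw [h]; exact zpow_mem (inv_mem (mem_zpowers _)) _
  · apply card_iSup_of_indep
    · intro i j _ x y hx hy
      exact hcz i j x hx y hy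
    · rw [iSupIndep_def]
      intro l
      rw [disjoint_iff, eq_bot_iff]
      rintro x ⟨hxl, hxo⟩
      obtain ⟨i, hi, hil, hio⟩ := hdual l
      have hle : (⨆ j, ⨆ _ : j ≠ l, zpowers (w j)) ≤ centralizer {i} := by
        refine iSup₂_le fun j hj => ?_
        rw [zpowers_le, mem_centralizer_singleton_iff]
        have := hio j hj
        rw [mul_inv_eq_iff_eq_mul] at this
        exact this.symm
      have h3 := hle hxo
      rw [mem_centralizer_singleton_iff] at h3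
      have h4 : i * x * i⁻¹ = x⁻¹ := by
        obtain ⟨k, rfl⟩ := mem_zpowers_iff.1 hxl
        rw [← conj_zpow, hil, inv_zpow]
      have h5 : i * x * i⁻¹ = x := by rw [← h3]; group
      have h6 : x * x = 1 := by
        have : x = x⁻¹ := h5.symm.trans h4
        exact (congrArg (x * ·) this).trans (mul_inv_cancel x)
      have hxA : x ∈ A := (zpowers_le).2 (hw l).1 hxl
      rw [mem_bot]
      exact eq_one_of_sq_of_odd F hF (hAF hxA) h6
  · rw [eq_bot_iff]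
    rintro x ⟨hxI, hxc⟩
    rw [mem_bot]
    apply hwx x hxI
    intro l
    have : w l ∈ ((⨆ i, zpowers (w i) : Subgroup S) : Set S) :=
      (le_iSup (fun i => zpowers (w i)) l) (mem_zpowers _)
    have h3 := (mem_centralizer_iff.1 hxc) _ this
    rw [mul_inv_eq_iff_eq_mul]
    exact h3.symm

end Cfsg.Agent.Lib.Struct.Eigen
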