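import Mathlib
import Cfsg.Agent.Lib.Struct.Basic
import Cfsg.Agent.Lib.Basic.Nilpotent
import Cfsg.Agent.Lib.Basic.Frattini
import Cfsg.Agent.Lib.Struct.Eigen
import Cfsg.Prelude.Def_CaseTheorems
import Cfsg.Prelude.Def_OddOrderLocal

/-!
# `2`-groups of sectional rank at most two are metacyclic.
-/

set_option autoImplicit false

namespace Cfsg.Agent.Lib.Struct.Blackburn

open Subgroup Cfsg Cfsg.Agent.Lib.Basic
open scoped commutatorElement

section rank

variable {p k : ℕ}

theorem prank_of_equiv {X Y : Type*} [Group X] [Group Y] (e : X ≃* Y) (h : PRankLE p k Y) :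
    PRankLE p k X := by
  intro A hc ha
  have h1 := h (A.map e.toMonoidHom) ?_ ?_
  · have h2 : Nat.card (A.map e.toMonoidHom) = Nat.card A :=
      Subgroup.card_map_of_injective e.injective
    rwa [h2] at h1
  · refine ⟨⟨?_⟩⟩
    rintro ⟨_, a, ha1, rfl⟩ ⟨_, b, hb1, rfl⟩
    apply Subtype.ext
    have := hc.is_comm.comm ⟨a, ha1⟩ ⟨b, hb1⟩
    have h3 : a * b = b * a := congrArg Subtype.val this
    show e a * e b = e b * e a
    rw [← map_mul, ← map_mul, h3]
  · rintro _ ⟨a, ha1, rfl⟩
    show (e a) ^ p = 1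
    rw [← map_pow, ha a ha1, map_one]

theorem prank_of_surj {S X : Type*} [Group S] [Group X] (hr : SectionalPRankLE p k S)
    (H : Subgroup S) (f : H →* X) (hf : Function.Surjective f) : PRankLE p k X :=
  prank_of_equiv (QuotientGroup.quotientKerEquivOfSurjective f hf).symm (hr H f.ker)

theorem prank_self {S : Type*} [Group S] (hr : SectionalPRankLE p k S) : PRankLE p k S :=
  prank_of_surj hr ⊤ (Subgroup.topEquiv (G := S)).toMonoidHom (Subgroup.topEquiv (G := S)).surjective

theorem prank_quot {S : Type*} [Group S] (hr : SectionalPRankLE p k S) (N : Subgroup S) [N.Normal] :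
    PRankLE p k (S ⧸ N) :=
  prank_of_surj hr ⊤ ((QuotientGroup.mk' N).comp (Subgroup.topEquiv (G := S)).toMonoidHom)
    ((QuotientGroup.mk'_surjective N).comp (Subgroup.topEquiv (G := S)).surjective)

theorem sec_quot {S : Type*} [Group S] (hr : SectionalPRankLE p k S) (N : Subgroup S) [N.Normal] :
    SectionalPRankLE p k (S ⧸ N) := by
  intro H M _
  exact prank_of_surj hr (H.comap (QuotientGroup.mk' N))
    ((QuotientGroup.mk' M).comp ((QuotientGroup.mk' N).subgroupComap H))
    ((QuotientGroup.mk'_surjective M).comp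
      (MonoidHom.subgroupComap_surjective_of_surjective _ _ (QuotientGroup.mk'_surjective N)))

end rank

section gens

variable {G : Type*} [Group G] [Finite G]

theorem card_two_mul_le_of_lt {H K : Subgroup G} (h : H < K) : Nat.card H * 2 ≤ Nat.card K := by
  have h1 : Nat.card H ∣ Nat.card K := Subgroup.card_dvd_of_le h.le
  obtain ⟨t, ht⟩ := h1
  have hK : 0 < Nat.card K := Nat.card_pos
  have ht0 : t ≠ 0 := by
    rintro rfl
    simp at ht
    omega
  have ht1 : t ≠ 1 := by
    rintro rfl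
    rw [mul_one] at ht
    exact h.ne (Subgroup.eq_of_le_of_card_ge h.le ht.le)
  rw [ht]
  exact Nat.mul_le_mul_left _ (by omega)

theorem finish {x y : G} (hgen : closure {x, y} = ⊤) (hc : commutator G ≤ zpowers x) :
    IsMetacyclic G := by
  have hn : (zpowers x).Normal := by
    constructor
    intro n hn g
    have h1 : g * n * g⁻¹ * n⁻¹ ∈ zpowers x := by
      apply hc
      have := Subgroup.commutator_mem_commutator (Subgroup.mem_top g) (Subgroup.mem_top n)
      rw [commutatorElement_def] at this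
      rwa [_root_.commutator_def]
    have h2 := Subgroup.mul_mem _ h1 hn
    simpa using h2
  refine ⟨zpowers x, hn, inferInstance, ?_⟩
  rw [isCyclic_iff_exists_zpowers_eq_top]
  refine ⟨QuotientGroup.mk' (zpowers x) y, ?_⟩
  have h1 : (⊤ : Subgroup (G ⧸ zpowers x)) = (⊤ : Subgroup G).map (QuotientGroup.mk' (zpowers x)) :=
    (Subgroup.map_top_of_surjective _ (QuotientGroup.mk'_surjective _)).symm
  rw [h1, ← hgen, MonoidHom.map_closure]
  apply le_antisymm
  · rw [zpowers_le]
    apply Subgroup.subset_closure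
    exact ⟨y, by simp, rfl⟩
  · rw [Subgroup.closure_le]
    rintro _ ⟨w, hw, rfl⟩
    rcases hw with hw | hw
    · have : QuotientGroup.mk' (zpowers x) w = 1 := by
        rw [← MonoidHom.mem_ker, QuotientGroup.ker_mk', hw]
        exact Subgroup.mem_zpowers x
      rw [this]
      exact Subgroup.one_mem _
    · rw [Set.mem_singleton_iff] at hw
      rw [hw]
      exact Subgroup.mem_zpowers _

/-- The Frattini quotient of a `2`-group of rank `≤ 2` has order `≤ 4`. -/
theorem card_frattini_quot (hG : IsPGroup 2 G) (hr : PRankLE 2 2 (G ⧸ frattini G)) :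
    Nat.card (G ⧸ frattini G) ≤ 4 := by
  haveI : Fact (Nat.Prime 2) := ⟨Nat.prime_two⟩
  haveI : Group.IsNilpotent G := hG.isNilpotent
  have h1 := hr ⊤ ?_ ?_
  · have h2 : Nat.card (⊤ : Subgroup (G ⧸ frattini G)) = Nat.card (G ⧸ frattini G) :=
      Subgroup.card_top
    rw [h2] at h1
    exact h1
  · refine ⟨⟨?_⟩⟩
    rintro ⟨a, _⟩ ⟨b, _⟩
    apply Subtype.ext
    obtain ⟨a, rfl⟩ := QuotientGroup.mk_surjective a
    obtain ⟨b, rfl⟩ := QuotientGroup.mk_surjective b
    show (a : G ⧸ frattini G) * b = b * a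
    rw [← QuotientGroup.mk_mul, ← QuotientGroup.mk_mul, QuotientGroup.eq]
    have h3 : (a * b)⁻¹ * (b * a) = ⁅b⁻¹, a⁻¹⁆ := by
      rw [commutatorElement_def]
      group
    rw [h3]
    apply commutator_le_frattini_of_isNilpotent
    rw [_root_.commutator_def]
    exact Subgroup.commutator_mem_commutator (Subgroup.mem_top _) (Subgroup.mem_top _)
  · rintro a -
    obtain ⟨a, rfl⟩ := QuotientGroup.mk_surjective a
    rw [← QuotientGroup.mk_pow, QuotientGroup.eq_one_iff]
    exact pow_mem_frattini_of_isPGroup hG a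

theorem exists_y (hG : IsPGroup 2 G) (hr : PRankLE 2 2 (G ⧸ frattini G)) {x : G} (hx : x ∉ frattini G) :
    ∃ y, closure {x, y} = ⊤ := by
  classical
  have hcard := card_frattini_quot hG hr
  by_cases htop : zpowers x ⊔ frattini G = ⊤
  · refine ⟨1, eq_top_of_sup_eq_top_of_le_frattini (L := frattini G) le_rfl ?_⟩
    rw [eq_top_iff, ← htop]
    refine sup_le_sup_right ?_ _
    rw [zpowers_le]
    exact Subgroup.subset_closure (by simp)
  · obtain ⟨y, hy⟩ : ∃ y, y ∉ zpowers x ⊔ frattini G := by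
      by_contra hcon
      push Not at hcon
      exact htop (eq_top_iff.mpr fun z _ => hcon z)
    refine ⟨y, eq_top_of_sup_eq_top_of_le_frattini (L := frattini G) le_rfl ?_⟩
    have h1 : frattini G < zpowers x ⊔ frattini G := by
      refine lt_of_le_of_ne le_sup_right ?_
      intro h
      apply hx
      rw [h]
      exact (le_sup_left : zpowers x ≤ zpowers x ⊔ frattini G) (Subgroup.mem_zpowers x)
    have h2 : zpowers x ⊔ frattini G < (zpowers x ⊔ frattini G) ⊔ zpowers y := by
      refine lt_of_le_of_ne le_sup_left ?_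
      intro h
      apply hy
      rw [h]
      exact (le_sup_right : zpowers y ≤ _) (Subgroup.mem_zpowers y)
    have h3 := card_two_mul_le_of_lt h1
    have h4 := card_two_mul_le_of_lt h2
    have h5 := Subgroup.card_mul_index (frattini G)
    have h6 : (frattini G).index = Nat.card (G ⧸ frattini G) := rfl
    have h7 : (zpowers x ⊔ frattini G) ⊔ zpowers y = ⊤ := by
      apply Subgroup.eq_top_of_card_eq
      apply le_antisymm (Subgroup.card_le_card_group _)
      rw [← h5, h6]
      calc Nat.card (frattini G) * Nat.card (G ⧸ frattini G) ≤ Nat.card (frattini G) * 4 :=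
            Nat.mul_le_mul_left _ hcard
        _ ≤ _ := by omega
    rw [eq_top_iff, ← h7]
    refine sup_le (sup_le ?_ le_sup_right) ?_
    · rw [zpowers_le]
      exact (le_sup_left : closure {x, y} ≤ _) (Subgroup.subset_closure (by simp))
    · rw [zpowers_le]
      exact (le_sup_left : closure {x, y} ≤ _) (Subgroup.subset_closure (by simp))

end gens

section class2

variable {G : Type*} [Group G] [Finite G]

theorem comm_elt_mem {N : Subgroup G} (hc : commutator G ≤ N) (a b : G) : a * b * a⁻¹ * b⁻¹ ∈ N := by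
  apply hc
  have := Subgroup.commutator_mem_commutator (Subgroup.mem_top a) (Subgroup.mem_top b)
  rw [commutatorElement_def] at this
  rwa [_root_.commutator_def]

/-- The class `2` case. -/
theorem meta_class2 (hG : IsPGroup 2 G) (hr : SectionalPRankLE 2 2 G) {z : G} (hz1 : z ≠ 1)
    (hz2 : z ^ 2 = 1) (hzc : ∀ g, z * g = g * z) (hcomm : commutator G ≤ zpowers z)
    (hnc : ∃ a b : G, a * b ≠ b * a) : IsMetacyclic G := by
  classical
  haveI : Fact (Nat.Prime 2) := ⟨Nat.prime_two⟩
  haveI : Group.IsNilpotent G := hG.isNilpotent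
  -- elements of `N = ⟨z⟩`
  have hN : ∀ t ∈ zpowers z, t = 1 ∨ t = z := by
    intro t ht
    obtain ⟨i, rfl⟩ := ht
    rcases Int.even_or_odd i with ⟨j, rfl⟩ | ⟨j, rfl⟩
    · left
      simp only
      rw [← two_mul, zpow_mul]
      have : z ^ (2 : ℤ) = 1 := by exact_mod_cast hz2
      rw [this, one_zpow]
    · right
      simp only
      rw [zpow_add, zpow_mul]
      have : z ^ (2 : ℤ) = 1 := by exact_mod_cast hz2
      rw [this, one_zpow, one_mul, zpow_one]
  have hNcen : ∀ t ∈ zpowers z, ∀ g, t * g = g * t := by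
    intro t ht g
    rcases hN t ht with rfl | rfl
    · simp
    · exact hzc g
  have hNsq : ∀ t ∈ zpowers z, t ^ 2 = 1 := by
    intro t ht
    rcases hN t ht with rfl | rfl
    · simp
    · exact hz2
  haveI hNn : (zpowers z).Normal := by
    constructor
    intro t ht g
    have : g * t * g⁻¹ = t := by
      rw [← hNcen t ht g]
      group
    rwa [this]
  set N := zpowers z with hNdef
  let π := QuotientGroup.mk' N
  have hπ : Function.Surjective π := QuotientGroup.mk'_surjective N
  have hπ1 : ∀ g, π g = 1 ↔ g ∈ N := by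
    intro g
    rw [← MonoidHom.mem_ker, QuotientGroup.ker_mk']
  have hQc : ∀ a b : G ⧸ N, a * b = b * a := by
    intro a b
    obtain ⟨a, rfl⟩ := hπ a
    obtain ⟨b, rfl⟩ := hπ b
    have h1 : π (a * b * a⁻¹ * b⁻¹) = 1 := (hπ1 _).2 (comm_elt_mem hcomm a b)
    rw [map_mul, map_mul, map_mul, map_inv, map_inv] at h1
    have h2 : π a * π b = (π a * π b * (π a)⁻¹ * (π b)⁻¹) * (π b * π a) := by group
    rw [h2, h1, one_mul]
  have hq : IsPGroup 2 (G ⧸ N) := hG.to_quotient N
  -- squares of elements are central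
  have hsq : ∀ u g : G, u ^ 2 * g = g * u ^ 2 := by
    intro u g
    have h1 := comm_elt_mem hcomm u⁻¹ g
    have h2 : u⁻¹ * g * u⁻¹⁻¹ * g⁻¹ ∈ N := h1
    set t := u⁻¹ * g * u * g⁻¹ with ht
    have ht' : t ∈ N := by
      have : t = u⁻¹ * g * u⁻¹⁻¹ * g⁻¹ := by rw [inv_inv]
      rw [this]
      exact h2
    have h3 : g * u = u * t * g := by
      rw [ht]
      group
    have h4 : t * u = u * t := hNcen t ht' u
    have h5 : t * t = 1 := by
      rw [← pow_two]
      exact hNsq t ht'
    have h6 : g * (u * u) = u * u * g := by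
      calc g * (u * u) = (g * u) * u := by group
        _ = (u * t * g) * u := by rw [h3]
        _ = (u * t) * (g * u) := by group
        _ = (u * t) * (u * t * g) := by rw [h3]
        _ = u * (t * u) * t * g := by group
        _ = u * (u * t) * t * g := by rw [h4]
        _ = u * u * (t * t) * g := by group
        _ = u * u * g := by rw [h5, mul_one]
    rw [pow_two]
    exact h6.symm
  -- choice of `x`
  obtain ⟨x, hxmax⟩ := Finite.exists_max (fun g : G => orderOf (π g))
  obtain ⟨e, he⟩ := (IsPGroup.iff_orderOf.mp hq) (π x)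
  have hpow : ∀ g, (π g) ^ (2 ^ e) = 1 := by
    intro g
    obtain ⟨e', he'⟩ := (IsPGroup.iff_orderOf.mp hq) (π g)
    have h1 : orderOf (π g) ≤ orderOf (π x) := hxmax g
    rw [he', he] at h1
    have h2 : e' ≤ e := (Nat.pow_le_pow_iff_right (by norm_num)).mp h1
    have h3 : (2 : ℕ) ^ e = 2 ^ e' * 2 ^ (e - e') := by
      rw [← pow_add]
      congr 1
      omega
    rw [h3, pow_mul, ← he', pow_orderOf_eq_one, one_pow]
  have hcommN : ∀ a b : G, a ∈ N → b ∈ N → a * b = b * a := fun a b ha _ => hNcen a ha b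
  have he0 : e ≠ 0 := by
    rintro rfl
    obtain ⟨a, b, hab⟩ := hnc
    apply hab
    have h1 := hpow a
    rw [pow_zero, pow_one, hπ1] at h1
    exact hNcen a h1 b
  -- `x` is not in the Frattini subgroup
  let K : Subgroup G :=
    { carrier := {g | ∃ w, π g = (π w) ^ 2}
      mul_mem' := by
        rintro a b ⟨w₁, h1⟩ ⟨w₂, h2⟩
        refine ⟨w₁ * w₂, ?_⟩
        rw [map_mul, map_mul, h1, h2, (show Commute (π w₁) (π w₂) from hQc _ _).mul_pow]
      one_mem' := ⟨1, by simp⟩
      inv_mem' := by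
        rintro a ⟨w, h1⟩
        refine ⟨w⁻¹, ?_⟩
        rw [map_inv, map_inv, h1, inv_pow] }
  have hΦ : frattini G ≤ K := by
    apply frattini_le_of_commutator_le_of_pow_mem Nat.prime_two
    · intro t ht
      refine ⟨1, ?_⟩
      have := (hπ1 t).2 (hcomm ht)
      rw [this]
      simp
    · intro g
      exact ⟨g, by rw [map_pow]⟩
  have hxΦ : x ∉ frattini G := by
    intro h
    obtain ⟨w, hw⟩ := hΦ h
    obtain ⟨e1, rfl⟩ : ∃ e1, e = e1 + 1 := ⟨e - 1, by omega⟩
    have h1 : (π x) ^ (2 ^ e1) = 1 := by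
      rw [hw, ← pow_mul, ← pow_succ']
      exact hpow w
    have h2 := orderOf_dvd_of_pow_eq_one h1
    rw [he] at h2
    have h3 := (Nat.pow_dvd_pow_iff_le_right (by norm_num)).mp h2
    omega
  obtain ⟨y₀, hy₀⟩ := exists_y hG (prank_quot hr (frattini G)) hxΦ
  -- the subgroup `M₁ = ⟨z, x⟩`
  have hnorm : ∀ K : Subgroup G, N ≤ K → K.Normal := by
    intro K hK
    constructor
    intro n hn g
    have h1 : g * n * g⁻¹ * n⁻¹ ∈ K := hK (comm_elt_mem hcomm g n)
    have h2 := Subgroup.mul_mem _ h1 hn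
    simpa using h2
  haveI hM₁n : (N ⊔ zpowers x).Normal := hnorm _ le_sup_left
  set M₁ := N ⊔ zpowers x with hM₁
  let π₁ := QuotientGroup.mk' M₁
  have hπ₁1 : ∀ g, π₁ g = 1 ↔ g ∈ M₁ := by
    intro g
    rw [← MonoidHom.mem_ker, QuotientGroup.ker_mk']
  have hM₁elt : ∀ g ∈ M₁, ∃ n ∈ N, ∃ m : ℕ, g = n * x ^ m := by
    intro g hg
    have h1 : g ∈ ((N ⊔ zpowers x : Subgroup G) : Set G) := hg
    rw [Subgroup.normal_mul] at h1
    obtain ⟨n, hn, u, hu, e1⟩ := Set.mem_mul.mp h1
    obtain ⟨m, hm⟩ := (isOfFinOrder_of_finite x).mem_powers_iff_mem_zpowers.2 hu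
    refine ⟨n, hn, m, ?_⟩
    rw [← e1]
    congr 1
    exact hm.symm
  have hxM : x ∈ M₁ := (le_sup_right : zpowers x ≤ M₁) (Subgroup.mem_zpowers x)
  obtain ⟨f, hf⟩ := (IsPGroup.iff_orderOf.mp (hG.to_quotient M₁)) (π₁ y₀)
  have hy₀M : y₀ ^ (2 ^ f) ∈ M₁ := by
    rw [← hπ₁1, map_pow, ← hf]
    exact pow_orderOf_eq_one _
  obtain ⟨n, hn, m, hnm⟩ := hM₁elt _ hy₀M
  have hπy₀ : (π y₀) ^ (2 ^ f) = (π x) ^ m := by
    rw [← map_pow, hnm, map_mul, (hπ1 n).2 hn, one_mul, map_pow]
  have hfe : f ≤ e := by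
    have h1 : (π₁ y₀) ^ (2 ^ e) = 1 := by
      rw [← map_pow, hπ₁1]
      apply (le_sup_left : N ≤ M₁)
      rw [← hπ1, map_pow]
      exact hpow y₀
    have h2 := orderOf_dvd_of_pow_eq_one h1
    rw [hf] at h2
    exact (Nat.pow_dvd_pow_iff_le_right (by norm_num)).mp h2
  have h2e : (2 : ℕ) ^ e = 2 ^ f * 2 ^ (e - f) := by
    rw [← pow_add]
    congr 1
    omega
  obtain ⟨m', rfl⟩ : 2 ^ f ∣ m := by
    have h1 : (π x) ^ (m * 2 ^ (e - f)) = 1 := by
      rw [pow_mul, ← hπy₀, ← pow_mul, ← h2e]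
      exact hpow y₀
    have h2 := orderOf_dvd_of_pow_eq_one h1
    rw [he, h2e] at h2
    exact Nat.dvd_of_mul_dvd_mul_right (by positivity) h2
  set y := y₀ * (x ^ m')⁻¹ with hy
  have hπy : (π y) ^ (2 ^ f) = 1 := by
    rw [hy, map_mul, map_inv, map_pow,
      (show Commute (π y₀) ((π x ^ m')⁻¹) from hQc _ _).mul_pow, hπy₀, inv_pow, ← pow_mul, mul_comm m',
      mul_inv_cancel]
  have hπ₁y : π₁ y = π₁ y₀ := by
    rw [hy, map_mul, map_inv, map_pow, (hπ₁1 x).2 hxM]
    simp
  have hgen : closure {x, y} = ⊤ := by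
    rw [eq_top_iff, ← hy₀, Subgroup.closure_le]
    rintro w (rfl | rfl)
    · exact Subgroup.subset_closure (by simp)
    · have e1 : w = y * x ^ m' := by
        rw [hy]
        group
      rw [e1]
      refine Subgroup.mul_mem _ (Subgroup.subset_closure (by simp)) (Subgroup.pow_mem _
        (Subgroup.subset_closure (by simp)) _)
  have hnotab : ¬ x * y = y * x := by
    intro hxy
    obtain ⟨a, b, hab⟩ := hnc
    have hk : ∀ u ∈ ({x, y} : Set G), ∀ v ∈ ({x, y} : Set G), u * v = v * u := by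
      rintro u (rfl | rfl) v (rfl | rfl)
      · rfl
      · exact hxy
      · exact hxy.symm
      · rfl
    letI := Subgroup.closureCommGroupOfComm hk
    have h1 : a ∈ closure ({x, y} : Set G) := by rw [hgen]; trivial
    have h2 : b ∈ closure ({x, y} : Set G) := by rw [hgen]; trivial
    have h3 := mul_comm (⟨a, h1⟩ : closure ({x, y} : Set G)) ⟨b, h2⟩
    exact hab (congrArg Subtype.val h3)
  have hf0 : f ≠ 0 := by
    rintro rfl
    apply hnotab
    rw [pow_zero, orderOf_eq_one_iff] at hf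
    have hyM : y ∈ M₁ := by
      rw [← hπ₁1, hπ₁y]
      exact hf
    obtain ⟨n₂, hn₂, i, e2⟩ := hM₁elt y hyM
    rw [e2]
    have h1 : x * (n₂ * x ^ i) = n₂ * x ^ i * x := by
      calc x * (n₂ * x ^ i) = (x * n₂) * x ^ i := by group
        _ = (n₂ * x) * x ^ i := by rw [hNcen n₂ hn₂ x]
        _ = n₂ * (x * x ^ i) := by group
        _ = n₂ * (x ^ i * x) := by rw [← pow_succ, ← pow_succ']
        _ = _ := by group
    exact h1
  have hy0M : y ^ (2 ^ (f - 1)) ∉ M₁ := by
    rw [← hπ₁1, map_pow, hπ₁y]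
    apply pow_ne_one_of_lt_orderOf (by positivity)
    rw [hf]
    exact Nat.pow_lt_pow_right (by norm_num) (by omega)
  have hx0N : x ^ (2 ^ (e - 1)) ∉ N := by
    rw [← hπ1, map_pow]
    apply pow_ne_one_of_lt_orderOf (by positivity)
    rw [he]
    exact Nat.pow_lt_pow_right (by norm_num) (by omega)
  have hxN : x ^ (2 ^ e) ∈ N := by
    rw [← hπ1, map_pow]
    exact hpow x
  have hyN : y ^ (2 ^ f) ∈ N := by
    rw [← hπ1, map_pow]
    exact hπy
  rcases hN _ hxN with hx1 | hxz
  swap
  · apply finish hgen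
    refine hcomm.trans ?_
    rw [hNdef, zpowers_le, ← hxz]
    exact Subgroup.pow_mem _ (Subgroup.mem_zpowers x) _
  rcases hN _ hyN with hy1 | hyz
  swap
  · apply finish (x := y) (y := x) (by rw [Set.pair_comm]; exact hgen)
    refine hcomm.trans ?_
    rw [hNdef, zpowers_le, ← hyz]
    exact Subgroup.pow_mem _ (Subgroup.mem_zpowers y) _
  by_cases he2 : e = 1
  · -- dihedral case
    subst he2
    have hf1 : f = 1 := by omega
    subst hf1
    rw [pow_one, pow_two] at hx1 hy1
    have hxi : x⁻¹ = x := inv_eq_of_mul_eq_one_left hx1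
    have hyi : y⁻¹ = y := inv_eq_of_mul_eq_one_left hy1
    have hc := comm_elt_mem hcomm x y
    rcases hN _ hc with h1 | h1
    · exfalso
      apply hnotab
      have h2 : x * y = x * y * x⁻¹ * y⁻¹ * (y * x) := by group
      rw [h2, h1, one_mul]
    · rw [hxi, hyi] at h1
      have hw : z = (x * y) ^ 2 := by
        rw [← h1, pow_two]
        group
      have hgen2 : closure {x * y, y} = ⊤ := by
        rw [eq_top_iff, ← hgen, Subgroup.closure_le]
        rintro w (rfl | rfl)
        · have e1 : w = (w * y) * y⁻¹ := by group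
          rw [e1]
          exact Subgroup.mul_mem _ (Subgroup.subset_closure (by simp))
            (Subgroup.inv_mem _ (Subgroup.subset_closure (by simp)))
        · exact Subgroup.subset_closure (by simp)
      apply finish hgen2
      refine hcomm.trans ?_
      rw [hNdef, zpowers_le, hw]
      exact Subgroup.pow_mem _ (Subgroup.mem_zpowers _) _
  · -- an elementary abelian subgroup of order `8`
    exfalso
    obtain ⟨e2, rfl⟩ : ∃ e2, e = e2 + 2 := ⟨e - 2, by omega⟩
    set x₀ := x ^ (2 ^ (e2 + 1)) with hx₀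
    set y₁ := y ^ (2 ^ (f - 1)) with hy₁
    have hx₀c : ∀ g, x₀ * g = g * x₀ := by
      intro g
      have : x₀ = (x ^ 2 ^ e2) ^ 2 := by
        rw [hx₀, ← pow_mul, pow_succ]
      rw [this]
      exact hsq _ g
    have hx₀2 : x₀ ^ 2 = 1 := by
      rw [hx₀, ← pow_mul, ← pow_succ]
      exact hx1
    have hy₁2 : y₁ ^ 2 = 1 := by
      rw [hy₁, ← pow_mul, ← pow_succ]
      have : f - 1 + 1 = f := by omega
      rw [this]
      exact hy1
    have hx₀N : x₀ ∉ N := by
      have : e2 + 2 - 1 = e2 + 1 := by omega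
      rw [this] at hx0N
      exact hx0N
    have hk : ∀ u ∈ ({z, x₀, y₁} : Set G), ∀ v ∈ ({z, x₀, y₁} : Set G), u * v = v * u := by
      rintro u (rfl | rfl | hu) v hv
      · exact hzc v
      · exact hx₀c v
      · rw [Set.mem_singleton_iff] at hu
        subst hu
        rcases hv with rfl | rfl | hv
        · exact (hzc _).symm
        · exact (hx₀c _).symm
        · rw [Set.mem_singleton_iff] at hv
          rw [hv]
    set E := closure ({z, x₀, y₁} : Set G) with hE
    have hEcomm : ∀ a ∈ E, ∀ b ∈ E, a * b = b * a := by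
      letI := Subgroup.closureCommGroupOfComm hk
      intro a ha b hb
      have h3 := mul_comm (⟨a, ha⟩ : closure ({z, x₀, y₁} : Set G)) ⟨b, hb⟩
      exact congrArg Subtype.val h3
    have hEsq : ∀ a ∈ E, a ^ 2 = 1 := by
      intro a ha
      induction ha using Subgroup.closure_induction with
      | mem w hw =>
        rcases hw with rfl | rfl | hw
        · exact hz2
        · exact hx₀2
        · rw [Set.mem_singleton_iff] at hw
          rw [hw]
          exact hy₁2
      | one => simp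
      | mul a b ha hb h1 h2 =>
        have : Commute a b := hEcomm a ha b hb
        rw [this.mul_pow, h1, h2, one_mul]
      | inv a _ h1 => rw [inv_pow, h1, inv_one]
    have hEcard := prank_self hr E ⟨⟨fun a b => Subtype.ext (hEcomm a a.2 b b.2)⟩⟩ hEsq
    -- the chain of subgroups
    have hzE : z ∈ E := Subgroup.subset_closure (by simp)
    have hxE : x₀ ∈ E := Subgroup.subset_closure (by simp)
    have hyE : y₁ ∈ E := Subgroup.subset_closure (by simp)
    have hA₃E : (N ⊔ zpowers x₀) ⊔ zpowers y₁ ≤ E := by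
      refine sup_le (sup_le ?_ ?_) ?_ <;> rw [zpowers_le] <;> assumption
    have h1 : N < N ⊔ zpowers x₀ := by
      refine lt_of_le_of_ne le_sup_left ?_
      intro h
      apply hx₀N
      rw [h]
      exact (le_sup_right : zpowers x₀ ≤ _) (Subgroup.mem_zpowers x₀)
    have h2 : N ⊔ zpowers x₀ < (N ⊔ zpowers x₀) ⊔ zpowers y₁ := by
      refine lt_of_le_of_ne le_sup_left ?_
      intro h
      have hy1' : y₁ ∈ N ⊔ zpowers x₀ := by
        rw [h]
        exact (le_sup_right : zpowers y₁ ≤ _) (Subgroup.mem_zpowers y₁)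
      apply hy0M
      have hle : N ⊔ zpowers x₀ ≤ M₁ := by
        refine sup_le le_sup_left ?_
        rw [zpowers_le]
        exact Subgroup.pow_mem _ hxM _
      exact hle hy1'
    have h3 := card_two_mul_le_of_lt h1
    have h4 := card_two_mul_le_of_lt h2
    have h5 : Nat.card N = 2 := by
      rw [hNdef, Nat.card_zpowers]
      exact orderOf_eq_prime hz2 hz1
    have h6 := Subgroup.card_le_of_le hA₃E
    omega

end class2

section lift

variable {G : Type*} [Group G] [Finite G]

/-- The lifting step: if `G / ⟨z⟩` is metacyclic, with `z` central and in `G'`, then either the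
preimage of the cyclic normal subgroup is cyclic or `G' = ⟨z⟩`. -/
theorem lift_step (hG : IsPGroup 2 G) {z : G} (hz1 : z ≠ 1) (hz2 : z ^ 2 = 1)
    (hzc : ∀ g, z * g = g * z) (hzG : z ∈ commutator G)
    {A : Subgroup G} [A.Normal] {a₀ b₀ : G} (ha₀ : a₀ ∈ A)
    (hA : ∀ u ∈ A, ∃ k : ℤ, ∃ e ∈ zpowers z, u = a₀ ^ k * e)
    (hb : ∀ g, ∃ k : ℤ, ∃ u ∈ A, g = u * b₀ ^ k) (hza : z ∉ zpowers a₀) :
    commutator G ≤ zpowers z := by
  classical
  haveI : Fact (Nat.Prime 2) := ⟨Nat.prime_two⟩
  have hNcen : ∀ t ∈ zpowers z, ∀ g, t * g = g * t := by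
    rintro _ ⟨i, rfl⟩ g
    exact ((show Commute z g from hzc g).zpow_left i).eq
  have hNsq : ∀ t ∈ zpowers z, t ^ 2 = 1 := by
    rintro _ ⟨i, rfl⟩
    show (z ^ i) ^ 2 = 1
    rw [← zpow_natCast, ← zpow_mul, mul_comm, zpow_mul, zpow_natCast, hz2, one_zpow]
  -- `A` is abelian
  have hAc : ∀ u ∈ A, ∀ v ∈ A, u * v = v * u := by
    intro u hu v hv
    obtain ⟨k, e, he, rfl⟩ := hA u hu
    obtain ⟨l, e', he', rfl⟩ := hA v hv
    calc a₀ ^ k * e * (a₀ ^ l * e') = a₀ ^ k * (e * a₀ ^ l) * e' := by group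
      _ = a₀ ^ k * (a₀ ^ l * e) * e' := by rw [hNcen e he]
      _ = a₀ ^ (k + l) * e * e' := by rw [zpow_add]; group
      _ = a₀ ^ (l + k) * (e * e') := by rw [add_comm]; group
      _ = a₀ ^ (l + k) * (e' * e) := by rw [hNcen e he]
      _ = a₀ ^ l * (a₀ ^ k * e') * e := by rw [zpow_add]; group
      _ = a₀ ^ l * (e' * a₀ ^ k) * e := by rw [hNcen e' he']
      _ = _ := by group
  set c := b₀ * a₀ * b₀⁻¹ * a₀⁻¹ with hc
  have hbA : b₀ * a₀ * b₀⁻¹ ∈ A := (inferInstance : A.Normal).conj_mem _ ha₀ b₀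
  have hcA : c ∈ A := A.mul_mem hbA (A.inv_mem ha₀)
  obtain ⟨k₀, e₀, he₀, hce⟩ := hA c hcA
  have hca : b₀ * a₀ * b₀⁻¹ = c * a₀ := by
    rw [hc]
    group
  have hτ : ∀ u ∈ A, ∃ i : ℤ, b₀ * u * b₀⁻¹ = c ^ i * u := by
    intro u hu
    obtain ⟨i, e, he, rfl⟩ := hA u hu
    refine ⟨i, ?_⟩
    have h1 : b₀ * (a₀ ^ i * e) * b₀⁻¹ = (b₀ * a₀ * b₀⁻¹) ^ i * e := by
      rw [conj_zpow]
      calc b₀ * (a₀ ^ i * e) * b₀⁻¹ = b₀ * a₀ ^ i * (e * b₀⁻¹) := by group
        _ = b₀ * a₀ ^ i * (b₀⁻¹ * e) := by rw [hNcen e he]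
        _ = _ := by group
    rw [h1, hca]
    have hcomm : Commute c a₀ := hAc c hcA a₀ ha₀
    rw [hcomm.mul_zpow]
    group
  -- `⟨c⟩` is normal
  have hbN : b₀ ∈ normalizer ((zpowers c : Subgroup G) : Set G) := by
    apply Struct.Eigen.mem_normalizer_of_conj_mem
    rintro _ ⟨j, rfl⟩
    obtain ⟨i, hi⟩ := hτ c hcA
    show b₀ * c ^ j * b₀⁻¹ ∈ _
    rw [← conj_zpow, hi]
    apply Subgroup.zpow_mem
    exact Subgroup.mul_mem _ (Subgroup.zpow_mem _ (Subgroup.mem_zpowers c) _) (Subgroup.mem_zpowers c)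
  have hAN : A ≤ normalizer ((zpowers c : Subgroup G) : Set G) := by
    intro u hu
    apply Struct.Eigen.mem_normalizer_of_conj_mem
    rintro _ ⟨j, rfl⟩
    have hcj : c ^ j ∈ A := Subgroup.zpow_mem _ hcA j
    show u * c ^ j * u⁻¹ ∈ _
    rw [hAc u hu _ hcj, mul_inv_cancel_right]
    exact Subgroup.zpow_mem _ (Subgroup.mem_zpowers c) j
  haveI hCn : (zpowers c).Normal := by
    apply Subgroup.normalizer_eq_top_iff.mp
    rw [eq_top_iff]
    intro g _
    obtain ⟨k, u, hu, rfl⟩ := hb g
    exact Subgroup.mul_mem _ (hAN hu) (Subgroup.zpow_mem _ hbN k)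
  let ρ := QuotientGroup.mk' (zpowers c)
  have hρ1 : ∀ g, ρ g = 1 ↔ g ∈ zpowers c := by
    intro g
    rw [← MonoidHom.mem_ker, QuotientGroup.ker_mk']
  have hρc : ρ c = 1 := (hρ1 c).2 (Subgroup.mem_zpowers c)
  have hρu : ∀ u ∈ A, Commute (ρ b₀) (ρ u) := by
    intro u hu
    obtain ⟨i, hi⟩ := hτ u hu
    have h1 := congrArg ρ hi
    rw [map_mul, map_mul, map_mul, map_zpow, hρc, one_zpow, one_mul, map_inv] at h1
    show ρ b₀ * ρ u = ρ u * ρ b₀
    calc ρ b₀ * ρ u = (ρ b₀ * ρ u * (ρ b₀)⁻¹) * ρ b₀ := by group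
      _ = ρ u * ρ b₀ := by rw [h1]
  have hcomm : commutator G ≤ zpowers c := by
    rw [_root_.commutator_def, Subgroup.commutator_le]
    intro g _ h _
    rw [← hρ1, commutatorElement_def, map_mul, map_mul, map_mul, map_inv, map_inv]
    obtain ⟨k, u, hu, rfl⟩ := hb g
    obtain ⟨l, v, hv, rfl⟩ := hb h
    have h1 : Commute (ρ (u * b₀ ^ k)) (ρ (v * b₀ ^ l)) := by
      rw [map_mul, map_mul, map_zpow, map_zpow]
      have huv : Commute (ρ u) (ρ v) := by
        show ρ u * ρ v = ρ v * ρ u
        rw [← map_mul, ← map_mul, hAc u hu v hv]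
      have h2 := hρu u hu
      have h3 := hρu v hv
      apply Commute.mul_left
      · apply Commute.mul_right huv
        exact (h2.zpow_left l).symm
      · apply Commute.mul_right
        · exact h3.zpow_left k
        · exact ((Commute.refl _).zpow_zpow k l)
    rw [h1.eq]
    group
  have hzC : z ∈ zpowers c := hcomm hzG
  obtain ⟨j, hj⟩ := hzC
  have hj' : c ^ j = z := hj
  -- `c² = 1`
  have hc2 : c ^ 2 = 1 := by
    by_contra hne
    obtain ⟨s, hs⟩ := (IsPGroup.iff_orderOf.mp hG) c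
    have hs2 : 2 ≤ s := by
      by_contra hlt
      apply hne
      have : s = 0 ∨ s = 1 := by omega
      rcases this with rfl | rfl
      · rw [pow_zero, orderOf_eq_one_iff] at hs
        rw [hs]
        simp
      · rw [pow_one] at hs
        rw [← hs]
        exact pow_orderOf_eq_one c
    have h4 : (4 : ℕ) ∣ orderOf c := by
      rw [hs]
      exact pow_dvd_pow 2 hs2
    have h5 : c ^ (2 * j) = 1 := by
      rw [mul_comm, zpow_mul, hj']
      exact_mod_cast hz2
    have h6 := orderOf_dvd_iff_zpow_eq_one.mpr h5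
    have h7 : (4 : ℤ) ∣ 2 * j := dvd_trans (by exact_mod_cast h4) h6
    obtain ⟨t, rfl⟩ : (2 : ℤ) ∣ j := by omega
    apply hza
    have h8 : c ^ (2 : ℤ) ∈ zpowers a₀ := by
      have h9 : c ^ 2 = a₀ ^ (2 * k₀) := by
        rw [hce]
        have hcomm' : Commute (a₀ ^ k₀) e₀ := (hNcen e₀ he₀ _).symm
        rw [hcomm'.mul_pow, hNsq e₀ he₀, mul_one, mul_comm, zpow_mul]
        norm_cast
      have h10 : c ^ (2 : ℤ) = c ^ 2 := by norm_cast
      rw [h10, h9]
      exact Subgroup.zpow_mem _ (Subgroup.mem_zpowers _) _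
    rw [← hj', zpow_mul]
    exact Subgroup.zpow_mem _ h8 _
  -- conclusion
  have hcz : c = z := by
    rcases Int.even_or_odd j with ⟨t, rfl⟩ | ⟨t, rfl⟩
    · exfalso
      apply hz1
      rw [← hj', ← two_mul, zpow_mul]
      have : c ^ (2 : ℤ) = 1 := by exact_mod_cast hc2
      rw [this, one_zpow]
    · rw [← hj', zpow_add, zpow_mul]
      have : c ^ (2 : ℤ) = 1 := by exact_mod_cast hc2
      rw [this, one_zpow, one_mul, zpow_one]
  rwa [hcz] at hcomm

end lift

universe u

/-- A finite `2`-group of sectional rank at most two is metacyclic. -/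
theorem metacyclic_main : ∀ (n : ℕ) (G : Type u) [Group G] [Finite G], Nat.card G = n →
    IsPGroup 2 G → SectionalPRankLE 2 2 G → IsMetacyclic G := by
  intro n
  induction n using Nat.strong_induction_on with
  | _ n ih =>
  intro G _ _ hn hG hr
  classical
  haveI : Fact (Nat.Prime 2) := ⟨Nat.prime_two⟩
  haveI : Group.IsNilpotent G := hG.isNilpotent
  by_cases hab : ∀ a b : G, a * b = b * a
  · -- abelian case
    have hc : commutator G ≤ ⊥ := by
      rw [_root_.commutator_def, Subgroup.commutator_le]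
      intro g _ h _
      rw [commutatorElement_def, hab g h]
      simp
    by_cases hΦ : ∃ x, x ∉ frattini G
    · obtain ⟨x, hx⟩ := hΦ
      obtain ⟨y, hy⟩ := exists_y hG (prank_quot hr (frattini G)) hx
      exact finish hy (hc.trans bot_le)
    · push Not at hΦ
      have h1 : closure {(1 : G), 1} = ⊤ := by
        apply eq_top_of_sup_eq_top_of_le_frattini (L := frattini G) le_rfl
        rw [eq_top_iff]
        intro g _
        exact (le_sup_right : frattini G ≤ _) (hΦ g)
      exact finish h1 (hc.trans bot_le)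
  · push Not at hab
    obtain ⟨a, b, hab⟩ := hab
    have hG' : commutator G ≠ ⊥ := by
      intro h
      apply hab
      have h1 : a * b * a⁻¹ * b⁻¹ ∈ commutator G := comm_elt_mem le_rfl a b
      rw [h, Subgroup.mem_bot] at h1
      have h2 : a * b = a * b * a⁻¹ * b⁻¹ * (b * a) := by group
      rw [h2, h1, one_mul]
    have hne := normal_inf_center_ne_bot (commutator G) hG'
    have hp : IsPGroup 2 (commutator G ⊓ center G : Subgroup G) := hG.to_subgroup _
    have h2d : 2 ∣ Nat.card (commutator G ⊓ center G : Subgroup G) := by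
      obtain ⟨k, hk⟩ := IsPGroup.iff_card.mp hp
      rw [hk]
      refine dvd_pow_self 2 ?_
      rintro rfl
      apply hne
      rw [pow_zero] at hk
      exact Subgroup.eq_bot_of_card_eq _ hk
    obtain ⟨t, ht⟩ := exists_prime_orderOf_dvd_card' 2 h2d
    set z : G := (t : G) with hz
    have hzo : orderOf z = 2 := by rw [hz, Subgroup.orderOf_coe, ht]
    have hz1 : z ≠ 1 := by
      intro h
      rw [h, orderOf_one] at hzo
      omega
    have hz2 : z ^ 2 = 1 := by
      rw [← hzo]
      exact pow_orderOf_eq_one z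
    have hzG : z ∈ commutator G := t.2.1
    have hzc : ∀ g, z * g = g * z := fun g => (Subgroup.mem_center_iff.mp t.2.2 g).symm
    have hNcen : ∀ t ∈ zpowers z, ∀ g, t * g = g * t := by
      rintro _ ⟨i, rfl⟩ g
      exact ((show Commute z g from hzc g).zpow_left i).eq
    haveI hNn : (zpowers z).Normal := by
      constructor
      intro t ht g
      have : g * t * g⁻¹ = t := by
        rw [← hNcen t ht g]
        group
      rwa [this]
    have hcardN : Nat.card (zpowers z) = 2 := by
      rw [Nat.card_zpowers, hzo]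
    have hlt : Nat.card (G ⧸ zpowers z) < n := by
      have h1 := Subgroup.card_mul_index (zpowers z)
      have h2 : (zpowers z).index = Nat.card (G ⧸ zpowers z) := rfl
      rw [hcardN, hn, h2] at h1
      have : 0 < Nat.card (G ⧸ zpowers z) := Nat.card_pos
      omega
    obtain ⟨Nb, hNb, hc₁, hc₂⟩ := ih _ hlt (G ⧸ zpowers z) rfl (hG.to_quotient _) (sec_quot hr _)
    let π := QuotientGroup.mk' (zpowers z)
    have hπ : Function.Surjective π := QuotientGroup.mk'_surjective _
    have hπ1 : ∀ g, π g = 1 ↔ g ∈ zpowers z := by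
      intro g
      rw [← MonoidHom.mem_ker, QuotientGroup.ker_mk']
    haveI hAn : (Nb.comap π).Normal := Subgroup.Normal.comap hNb π
    set A := Nb.comap π with hA
    obtain ⟨ab, hab'⟩ := hc₁.exists_generator
    obtain ⟨a₀, ha₀⟩ := hπ (ab : G ⧸ zpowers z)
    have ha₀A : a₀ ∈ A := by
      rw [hA, Subgroup.mem_comap, ha₀]
      exact ab.2
    have hAelt : ∀ u ∈ A, ∃ k : ℤ, ∃ e ∈ zpowers z, u = a₀ ^ k * e := by
      intro u hu
      obtain ⟨k, hk⟩ := hab' ⟨π u, hu⟩
      have hk' : (ab : G ⧸ zpowers z) ^ k = π u := by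
        have := congrArg Subtype.val hk
        simpa using this
      refine ⟨k, (a₀ ^ k)⁻¹ * u, ?_, by group⟩
      rw [← hπ1, map_mul, map_inv, map_zpow, ha₀, hk', inv_mul_cancel]
    obtain ⟨bb, hbb⟩ := hc₂.exists_generator
    obtain ⟨b1, hb1⟩ := QuotientGroup.mk'_surjective Nb bb
    obtain ⟨b₀, hb₀⟩ := hπ b1
    have hbelt : ∀ g, ∃ k : ℤ, ∃ u ∈ A, g = u * b₀ ^ k := by
      intro g
      obtain ⟨k, hk⟩ := hbb (QuotientGroup.mk' Nb (π g))
      have hk' : (QuotientGroup.mk' Nb (π b₀)) ^ k = QuotientGroup.mk' Nb (π g) := by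
        rw [hb₀, hb1]
        exact hk
      refine ⟨k, g * (b₀ ^ k)⁻¹, ?_, by group⟩
      have h3 : QuotientGroup.mk' Nb (π (g * (b₀ ^ k)⁻¹)) = 1 := by
        rw [map_mul, map_mul, map_inv, map_inv, map_zpow, map_zpow, hk', mul_inv_cancel]
      rw [← MonoidHom.mem_ker, QuotientGroup.ker_mk'] at h3
      exact h3
    by_cases hza : z ∈ zpowers a₀
    · -- the preimage is cyclic
      have hAeq : A = zpowers a₀ := by
        apply le_antisymm
        · intro u hu
          obtain ⟨k, e, he, rfl⟩ := hAelt u hu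
          refine Subgroup.mul_mem _ (Subgroup.zpow_mem _ (Subgroup.mem_zpowers a₀) k) ?_
          have hle : zpowers z ≤ zpowers a₀ := by
            rw [zpowers_le]
            exact hza
          exact hle he
        · rw [zpowers_le]
          exact ha₀A
      refine ⟨A, hAn, ?_, ?_⟩
      · rw [hAeq]
        infer_instance
      · rw [isCyclic_iff_exists_zpowers_eq_top]
        refine ⟨QuotientGroup.mk' A b₀, ?_⟩
        rw [eq_top_iff]
        intro g _
        obtain ⟨g, rfl⟩ := QuotientGroup.mk'_surjective A g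
        obtain ⟨k, u, hu, rfl⟩ := hbelt g
        have h1 : QuotientGroup.mk' A u = 1 := by
          rw [← MonoidHom.mem_ker, QuotientGroup.ker_mk']
          exact hu
        rw [map_mul, h1, one_mul, map_zpow]
        exact Subgroup.zpow_mem _ (Subgroup.mem_zpowers _) k
    · have h3 := lift_step hG hz1 hz2 hzc hzG ha₀A hAelt hbelt hza
      exact meta_class2 hG hr hz1 hz2 hzc h3 ⟨a, b, hab⟩

end Cfsg.Agent.Lib.Struct.Blackburn
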