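import Cfsg.Agent.Lib.Struct.Basic
import Cfsg.Agent.Lib.Basic.Core
import Cfsg.Agent.Lib.Basic.Nilpotent
import Cfsg.Agent.Lib.Coprime.Conj
import Cfsg.Agent.Lib.LocalEven.Basic

/-! The Fitting subgroup: membership via powers into subgroups. -/

namespace Cfsg.Agent.Lib.Struct

open Cfsg

/-- An element outside a subgroup has a power of prime-power order outside the subgroup. -/
theorem exists_prime_pow_mem_zpowers_not_mem {G : Type*} [Group G] [Finite G] (H : Subgroup G) (x : G)
    (hx : x ∉ H) :
    ∃ y ∈ Subgroup.zpowers x, y ∉ H ∧ ∃ p k : ℕ, p.Prime ∧ orderOf y = p ^ k := by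
  induction hn : orderOf x using Nat.strong_induction_on generalizing x with
  | _ n ih =>
    have hpos : 0 < orderOf x := orderOf_pos x
    have hne1 : orderOf x ≠ 1 := by
      intro h1
      rw [orderOf_eq_one_iff] at h1
      exact hx (h1 ▸ H.one_mem)
    obtain ⟨p, hp, hpd⟩ := Nat.exists_prime_and_dvd hne1
    haveI : Fact p.Prime := ⟨hp⟩
    obtain ⟨u, v, huv, hu, hv, ⟨k, hk⟩, hvc, _⟩ := LocalEven.exists_p_decomp (p := p) x
      (isOfFinOrder_of_finite x)
    have hud : orderOf u ∣ orderOf x := orderOf_dvd_of_mem_zpowers hu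
    have hvd : orderOf v ∣ orderOf x := orderOf_dvd_of_mem_zpowers hv
    by_cases hv1 : v = 1
    · -- x is a p-element
      refine ⟨x, Subgroup.mem_zpowers x, hx, p, k, hp, ?_⟩
      rw [hv1, mul_one] at huv
      rw [huv]; exact hk
    have hu_or : u ∉ H ∨ v ∉ H := by
      by_contra hcon
      push Not at hcon
      exact hx (huv ▸ H.mul_mem hcon.1 hcon.2)
    have hvne : orderOf v ≠ 1 := by
      intro h; exact hv1 (orderOf_eq_one_iff.mp h)
    have hult : orderOf u < orderOf x := by
      refine lt_of_le_of_ne (Nat.le_of_dvd hpos hud) ?_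
      intro heq
      -- then v has order coprime to p and dividing p^k, hence trivial
      have : orderOf v ∣ p ^ k := by rw [← hk, heq]; exact hvd
      have hc : (orderOf v).Coprime (p ^ k) := hvc.pow_right k
      exact hvne (Nat.Coprime.eq_one_of_dvd hc this)
    have hvlt : orderOf v < orderOf x := by
      refine lt_of_le_of_ne (Nat.le_of_dvd hpos hvd) ?_
      intro heq
      rw [heq] at hvc
      exact (Nat.Prime.coprime_iff_not_dvd hp).mp hvc.symm hpd
    rcases hu_or with hu' | hv'
    · obtain ⟨y, hy, hyH, hyp⟩ := ih (orderOf u) (hn ▸ hult) u hu' rfl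
      exact ⟨y, (Subgroup.zpowers_le.mpr hu) hy, hyH, hyp⟩
    · obtain ⟨y, hy, hyH, hyp⟩ := ih (orderOf v) (hn ▸ hvlt) v hv' rfl
      exact ⟨y, (Subgroup.zpowers_le.mpr hv) hy, hyH, hyp⟩

/-- In a finite nilpotent group `x ^ [F : L] ∈ L` for every subgroup `L`. -/
theorem pow_index_mem_of_isNilpotent {F : Type*} [Group F] [Finite F] [Group.IsNilpotent F]
    (L : Subgroup F) (x : F) : x ^ L.index ∈ L := by
  induction hn : L.index using Nat.strong_induction_on generalizing L with
  | _ n ih =>
    by_cases hL : L = ⊤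
    · rw [hL]; trivial
    · have hlt := Basic.lt_normalizer_of_isSubnormal (Basic.isSubnormal_of_isNilpotent L) hL
      set L1 := Subgroup.normalizer (L : Set F) with hL1
      have hle : L ≤ L1 := hlt.le
      have hmul := Subgroup.relIndex_mul_index hle
      have hrel : 1 < L.relIndex L1 := by
        have h0 : L.relIndex L1 ≠ 0 := by
          intro h0
          rw [h0, zero_mul] at hmul
          exact Subgroup.index_ne_zero_of_finite hmul.symm
        have h1 : L.relIndex L1 ≠ 1 := by
          intro h1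
          rw [Subgroup.relIndex_eq_one] at h1
          exact absurd hlt.2 (not_not.mpr h1)
        omega
      have hpos : 0 < L1.index := Nat.pos_of_ne_zero Subgroup.index_ne_zero_of_finite
      have hlt2 : L1.index < n := by
        rw [← hn, ← hmul]
        nlinarith
      have h2 := ih L1.index hlt2 L1 rfl
      -- `L` is normal in `L1`
      have hNorm : (L.subgroupOf L1).Normal := Subgroup.normal_in_normalizer
      set y : L1 := ⟨x ^ L1.index, h2⟩ with hy
      have h3 := Subgroup.pow_index_mem (L.subgroupOf L1) y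
      have h4 : ((y ^ (L.subgroupOf L1).index : L1) : F) ∈ L := Subgroup.mem_subgroupOf.mp h3
      rw [← hn, ← hmul, mul_comm, pow_mul]
      simpa [y, Subgroup.relIndex] using h4

theorem pow_index_mem_of_mem_fitting {G : Type*} [Group G] [Finite G] {x : G}
    (hx : x ∈ fittingSubgroup G) (H : Subgroup G) : x ^ H.index ∈ H := by
  haveI : Group.IsNilpotent (fittingSubgroup G) := Basic.fittingSubgroup_isNilpotent
  have h1 := pow_index_mem_of_isNilpotent (H.subgroupOf (fittingSubgroup G)) ⟨x, hx⟩
  have h2 : x ^ (H.relIndex (fittingSubgroup G)) ∈ H := by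
    simpa [Subgroup.relIndex] using Subgroup.mem_subgroupOf.mp h1
  have h3 : H.relIndex (fittingSubgroup G) ∣ H.index := by
    rw [relIndex_eq_relIndex_sup (fittingSubgroup G) H]
    exact Subgroup.relIndex_dvd_index_of_le le_sup_right
  obtain ⟨k, hk⟩ := h3
  rw [hk, pow_mul]
  exact H.pow_mem h2 k

theorem mem_fitting_of_forall_pow_index_mem {G : Type*} [Group G] [Finite G] {x : G}
    (hx : ∀ H : Subgroup G, x ^ H.index ∈ H) : x ∈ fittingSubgroup G := by
  by_contra hcon
  obtain ⟨y, hy, hyF, p, k, hp, hk⟩ := exists_prime_pow_mem_zpowers_not_mem _ x hcon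
  haveI : Fact p.Prime := ⟨hp⟩
  apply hyF
  refine Basic.pCore_le_fittingSubgroup p ?_
  rw [Basic.pCore_eq_iInf_sylow]
  refine Subgroup.mem_iInf.mpr fun P => ?_
  -- `y` is a power of `x`, hence `y ^ [G : P] ∈ P`
  have h1 : y ^ (P : Subgroup G).index ∈ (P : Subgroup G) := by
    obtain ⟨m, rfl⟩ := hy
    have h2 := (P : Subgroup G).zpow_mem (hx P) m
    simpa [← zpow_natCast, ← zpow_mul, mul_comm] using h2
  have hcop : (orderOf y).Coprime (P : Subgroup G).index := by
    rw [hk]
    exact Nat.Coprime.pow_left _ ((Nat.Prime.coprime_iff_not_dvd hp).mpr P.not_dvd_index)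
  exact mem_of_pow_mem_of_coprime _ hcop h1

end Cfsg.Agent.Lib.Struct
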