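import Cfsg.Agent.S2119

set_option autoImplicit false
open Cfsg

namespace Cfsg.Agent.Lib.Struct.AutAlt

open Equiv Equiv.Perm Cfsg.Agent.Lib.KnownSimple.ThreeCycles Cfsg.Agent.S2119

theorem exists_conj_of_preserve (n : ℕ) (hn : 4 ≤ n) (φ : MulAut ↥(alternatingGroup (Fin n)))
    (hφ : ∀ x : alternatingGroup (Fin n), (x : Perm (Fin n)).IsThreeCycle →
      ((φ x : alternatingGroup (Fin n)) : Perm (Fin n)).IsThreeCycle) :
    ∃ π : Perm (Fin n), (MulAut.conjNormal π : MulAut ↥(alternatingGroup (Fin n))) = φ := by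
  let a₀ : Fin n := ⟨0, by omega⟩
  let b₀ : Fin n := ⟨1, by omega⟩
  let i₀ : Fin n := ⟨2, by omega⟩
  let j₀ : Fin n := ⟨3, by omega⟩
  have hab₀ : a₀ ≠ b₀ := by simp [a₀, b₀, Fin.ext_iff]
  have hai₀ : a₀ ≠ i₀ := by simp [a₀, i₀, Fin.ext_iff]
  have haj₀ : a₀ ≠ j₀ := by simp [a₀, j₀, Fin.ext_iff]
  have hbi₀ : b₀ ≠ i₀ := by simp [b₀, i₀, Fin.ext_iff]
  have hbj₀ : b₀ ≠ j₀ := by simp [b₀, j₀, Fin.ext_iff]
  have hij₀ : i₀ ≠ j₀ := by simp [i₀, j₀, Fin.ext_iff]
  -- the generators
  let C : (i : Fin n) → a₀ ≠ i → b₀ ≠ i → alternatingGroup (Fin n) := fun i h h' =>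
    ⟨cyc a₀ b₀ i, (isThreeCycle_cyc hab₀ h h').mem_alternatingGroup⟩
  have hC3 : ∀ i h h', ((φ (C i h h') : alternatingGroup (Fin n)) : Perm (Fin n)).IsThreeCycle :=
    fun i h h' => hφ _ (isThreeCycle_cyc hab₀ h h')
  have hadj : ∀ i j h h' k k', i ≠ j →
      (((φ (C i h h') : alternatingGroup (Fin n)) : Perm (Fin n)) *
        ((φ (C j k k') : alternatingGroup (Fin n)) : Perm (Fin n))) ^ 2 = 1 := by
    intro i j h h' k k' ij
    have h1 : (C i h h' * C j k k') ^ 2 = 1 := Subtype.ext (cyc_adj hab₀ h k h' k' ij)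
    have h2 := congrArg φ h1
    rw [map_pow, map_mul, map_one] at h2
    exact congrArg Subtype.val h2
  have hadj' : ∀ i j h h' k k', i ≠ j →
      ((φ (C i h h') : alternatingGroup (Fin n)) : Perm (Fin n)) *
        ((φ (C j k k') : alternatingGroup (Fin n)) : Perm (Fin n)) ≠ 1 := by
    intro i j h h' k k' ij e
    have h1 : φ (C i h h') * φ (C j k k') = 1 := Subtype.ext e
    rw [← map_mul, map_eq_one_iff φ φ.injective] at h1
    exact cyc_adj_ne hab₀ h k h' (congrArg Subtype.val h1)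
  obtain ⟨a, b, c, d, ab, ac, ad, bc, bd, cd, hxc, hyd⟩ :=
    adj_form (hC3 i₀ hai₀ hbi₀) (hC3 j₀ haj₀ hbj₀) (hadj i₀ j₀ hai₀ hbi₀ haj₀ hbj₀ hij₀) (hadj' i₀ j₀ hai₀ hbi₀ haj₀ hbj₀ hij₀)
  -- all images have the form (a b e)
  have hall : ∀ i (h : a₀ ≠ i) (h' : b₀ ≠ i), ∃ e, ((φ (C i h h') : alternatingGroup (Fin n)) :
      Perm (Fin n)) = cyc a b e ∧ a ≠ e ∧ b ≠ e := by
    intro i h h'
    by_cases hi : i = i₀
    · subst hi
      exact ⟨c, hxc, ac, bc⟩
    by_cases hj : i = j₀
    · subst hj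
      exact ⟨d, hyd, ad, bd⟩
    have h1 := hadj i₀ i hai₀ hbi₀ h h' (Ne.symm hi)
    have h2 := hadj' i₀ i hai₀ hbi₀ h h' (Ne.symm hi)
    have h3 := hadj j₀ i haj₀ hbj₀ h h' (Ne.symm hj)
    rw [hxc] at h1 h2
    rw [hyd] at h3
    obtain ⟨e, he, e1, e2, _, _⟩ := triangle ab ac ad bc bd cd (hC3 i h h') h1 h2 h3
    exact ⟨e, he, e1, e2⟩
  -- define the permutation
  have hf : ∀ t : Fin n, ∃ v : Fin n, (t = a₀ → v = a) ∧ (t = b₀ → v = b) ∧
      ∀ (h : a₀ ≠ t) (h' : b₀ ≠ t), ((φ (C t h h') : alternatingGroup (Fin n)) :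
      Perm (Fin n)) = cyc a b v ∧ a ≠ v ∧ b ≠ v := by
    intro t
    by_cases t1 : t = a₀
    · exact ⟨a, fun _ => rfl, fun e => absurd (t1.symm.trans e) hab₀, fun h => absurd t1.symm h⟩
    by_cases t2 : t = b₀
    · exact ⟨b, fun e => absurd (t2.symm.trans e) hab₀.symm, fun _ => rfl, fun _ h => absurd t2.symm h⟩
    obtain ⟨e, he⟩ := hall t (Ne.symm t1) (Ne.symm t2)
    exact ⟨e, fun e' => absurd e' t1, fun e' => absurd e' t2, fun _ _ => he⟩
  choose f hfa hfb hfo using hf
  have hf0 : f a₀ = a := hfa _ rfl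
  have hf1 : f b₀ = b := hfb _ rfl
  have hfinj : Function.Injective f := by
    have key : ∀ t t' : Fin n, f t = f t' → t = a₀ → t' = a₀ := by
      intro t t' e ht
      rw [ht, hf0] at e
      by_contra hne
      by_cases h2 : t' = b₀
      · rw [h2, hf1] at e
        exact ab e
      · exact (hfo t' (Ne.symm hne) (Ne.symm h2)).2.1 e
    have key' : ∀ t t' : Fin n, f t = f t' → t = b₀ → t' = b₀ := by
      intro t t' e ht
      rw [ht, hf1] at e
      by_contra hne
      by_cases h2 : t' = a₀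
      · rw [h2, hf0] at e
        exact ab e.symm
      · exact (hfo t' (Ne.symm h2) (Ne.symm hne)).2.2 e
    intro t t' e
    by_cases h1 : t = a₀
    · rw [h1, key t t' e h1]
    by_cases h2 : t = b₀
    · rw [h2, key' t t' e h2]
    have h1' : t' ≠ a₀ := fun h => h1 (key t' t e.symm h)
    have h2' : t' ≠ b₀ := fun h => h2 (key' t' t e.symm h)
    have e1 := (hfo t (Ne.symm h1) (Ne.symm h2)).1
    have e2 := (hfo t' (Ne.symm h1') (Ne.symm h2')).1
    rw [e, ← e2] at e1
    have e3 : φ (C t (Ne.symm h1) (Ne.symm h2)) = φ (C t' (Ne.symm h1') (Ne.symm h2')) :=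
      Subtype.ext e1
    have e4 := congrArg Subtype.val (φ.injective e3)
    have e5 := congrArg (fun g : Perm (Fin n) => g b₀) e4
    simp only [C] at e5
    rwa [cyc_mid (Ne.symm h1).symm.symm (Ne.symm h2), cyc_mid (Ne.symm h1') (Ne.symm h2')] at e5
  let π : Perm (Fin n) := Equiv.ofBijective f (Finite.injective_iff_bijective.mp hfinj)
  have hπ : ∀ t, π t = f t := fun t => rfl
  refine ⟨π, ?_⟩
  -- agreement on generators
  let E : Subgroup (alternatingGroup (Fin n)) :=
    MonoidHom.eqLocus (MulAut.conjNormal π : MulAut (alternatingGroup (Fin n))).toMonoidHom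
      φ.toMonoidHom
  have hgen : ∀ i h h', C i h h' ∈ E := by
    intro i h h'
    apply Subtype.ext
    change ((MulAut.conjNormal π (C i h h') : alternatingGroup (Fin n)) : Perm (Fin n)) = _
    rw [MulAut.conjNormal_apply]
    change π * cyc a₀ b₀ i * π⁻¹ = _
    rw [conj_cyc, hπ, hπ, hπ, hf0, hf1]
    exact ((hfo i h h').1).symm
  have hcl : Subgroup.closure {g : Perm (Fin n) | ∃ i, a₀ ≠ i ∧ b₀ ≠ i ∧ g = cyc a₀ b₀ i} ≤
      E.map (alternatingGroup (Fin n)).subtype := by
    rw [Subgroup.closure_le]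
    rintro _ ⟨i, h, h', rfl⟩
    exact ⟨C i h h', hgen i h h', rfl⟩
  have htop : alternatingGroup (Fin n) ≤
      Subgroup.closure {g : Perm (Fin n) | ∃ i, a₀ ≠ i ∧ b₀ ≠ i ∧ g = cyc a₀ b₀ i} := by
    rw [← closure_three_cycles_eq_alternating, Subgroup.closure_le]
    intro x hx
    exact mem_closure_cyc hab₀ hx
  refine MulEquiv.ext fun y => ?_
  have hy : (y : Perm (Fin n)) ∈ E.map (alternatingGroup (Fin n)).subtype := hcl (htop y.2)
  obtain ⟨z, hz, hzy⟩ := hy
  have hzy' : z = y := Subtype.ext hzy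
  subst hzy'
  exact hz


/-- An element of order 3 in `Perm (Fin 6)` is a 3-cycle or has cycle type `{3,3}`. -/
lemma order_three_type (y : Perm (Fin 6)) (hy : orderOf y = 3) :
    y.IsThreeCycle ∨ y.cycleType = {3, 3} := by
  have hcy : ∀ m ∈ y.cycleType, m = 3 := by
    intro m hm
    have h1 := dvd_of_mem_cycleType hm
    rw [hy] at h1
    have h2 := two_le_of_mem_cycleType hm
    rcases (Nat.dvd_prime Nat.prime_three).mp h1 with e | e <;> omega
  set k := Multiset.card y.cycleType with hk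
  have hrep : y.cycleType = Multiset.replicate k 3 := Multiset.eq_replicate_card.mpr hcy
  have hk0 : k ≠ 0 := by
    intro e
    rw [e, Multiset.replicate_zero, cycleType_eq_zero] at hrep
    rw [hrep] at hy
    simp at hy
  have hsum : 3 * k ≤ 6 := by
    have h1 : y.cycleType.sum = 3 * k := by
      rw [hrep, Multiset.sum_replicate, smul_eq_mul, mul_comm]
    rw [← h1, sum_cycleType]
    simpa using Finset.card_le_univ y.support
  have : k = 1 ∨ k = 2 := by omega
  rcases this with e | e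
  · left
    rw [IsThreeCycle, hrep, e, Multiset.replicate_one]
  · right
    rw [hrep, e]
    rfl

lemma isConj_type33 (x y : alternatingGroup (Fin 6)) (hx : (x : Perm (Fin 6)).cycleType = {3, 3})
    (hy : (y : Perm (Fin 6)).cycleType = {3, 3}) : IsConj x y := by
  obtain ⟨π, hπ⟩ := isConj_iff.1 (isConj_iff_cycleType_eq.2 (hx.trans hy.symm))
  have hc : ¬ Subgroup.centralizer {(x : Perm (Fin 6))} ≤ alternatingGroup (Fin 6) := by
    rw [centralizer_le_alternating_iff, hx]
    intro h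
    have := h.2.2 3
    have e : Multiset.count 3 ({3, 3} : Multiset ℕ) = 2 := by decide
    rw [e] at this
    omega
  obtain ⟨c, hc1, hc2⟩ := SetLike.not_le_iff_exists.mp hc
  have hc3 : c * (x : Perm (Fin 6)) = (x : Perm (Fin 6)) * c :=
    (Subgroup.mem_centralizer_singleton_iff.mp hc1)
  have hsc : sign c = -1 := by
    rcases Int.units_eq_one_or (sign c) with e | e
    · exact absurd e hc2
    · exact e
  rcases Int.units_eq_one_or (sign π) with h | h
  · rw [isConj_iff]
    exact ⟨⟨π, mem_alternatingGroup.mp h⟩, Subtype.ext hπ⟩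
  · rw [isConj_iff]
    refine ⟨⟨π * c, ?_⟩, Subtype.ext ?_⟩
    · rw [mem_alternatingGroup, map_mul, h, hsc]
      rfl
    · change π * c * (x : Perm (Fin 6)) * (π * c)⁻¹ = (y : Perm (Fin 6))
      rw [mul_inv_rev, ← hπ]
      have : π * c * (x : Perm (Fin 6)) * (c⁻¹ * π⁻¹) = π * (c * (x : Perm (Fin 6)) * c⁻¹) * π⁻¹ := by
        group
      rw [this, hc3]
      simp

lemma three_not_33 (x : Perm (Fin 6)) (hx : x.IsThreeCycle) : x.cycleType ≠ {3, 3} := by
  intro h
  rw [IsThreeCycle] at hx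
  rw [hx] at h
  exact absurd h (by decide)

/-- An automorphism of `A₆` of odd order preserves the 3-cycles. -/
lemma odd_preserve (φ : MulAut (alternatingGroup (Fin 6))) (hodd : Odd (orderOf φ))
    (x : alternatingGroup (Fin 6)) (hx : (x : Perm (Fin 6)).IsThreeCycle) :
    ((φ x : alternatingGroup (Fin 6)) : Perm (Fin 6)).IsThreeCycle := by
  have ho : ∀ z : alternatingGroup (Fin 6), orderOf z = 3 →
      orderOf ((φ z : alternatingGroup (Fin 6)) : Perm (Fin 6)) = 3 := by
    intro z hz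
    rw [Subgroup.orderOf_coe, MulEquiv.orderOf_eq, hz]
  have ho3 : ∀ z : alternatingGroup (Fin 6), (z : Perm (Fin 6)).IsThreeCycle → orderOf z = 3 := by
    intro z hz
    rw [← Subgroup.orderOf_coe, hz.orderOf]
  have ho33 : ∀ z : alternatingGroup (Fin 6), (z : Perm (Fin 6)).cycleType = {3, 3} → orderOf z = 3 := by
    intro z hz
    rw [← Subgroup.orderOf_coe, ← lcm_cycleType, hz]
    decide
  by_contra hcon
  have h1 : ((φ x : alternatingGroup (Fin 6)) : Perm (Fin 6)).cycleType = {3, 3} :=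
    (order_three_type _ (ho x (ho3 x hx))).resolve_left hcon
  -- all 3-cycles are sent to type (3,3)
  have h5 : (5 : ℕ) ≤ Nat.card (Fin 6) := by simp
  have hX : ∀ z : alternatingGroup (Fin 6), (z : Perm (Fin 6)).IsThreeCycle →
      ((φ z : alternatingGroup (Fin 6)) : Perm (Fin 6)).cycleType = {3, 3} := by
    intro z hz
    obtain ⟨c, hc⟩ := isConj_iff.1 (alternatingGroup.isThreeCycle_isConj h5 hx hz)
    rw [← hc, map_mul, map_mul, map_inv]
    have : ((φ c * φ x * (φ c)⁻¹ : alternatingGroup (Fin 6)) : Perm (Fin 6)) =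
        (φ c : Perm (Fin 6)) * (φ x : Perm (Fin 6)) * (φ c : Perm (Fin 6))⁻¹ := rfl
    rw [this, cycleType_conj, h1]
  -- all type (3,3) are sent to 3-cycles
  have hY : ∀ z : alternatingGroup (Fin 6), (z : Perm (Fin 6)).cycleType = {3, 3} →
      ((φ z : alternatingGroup (Fin 6)) : Perm (Fin 6)).IsThreeCycle := by
    intro z hz
    by_contra hz'
    have h2 : ((φ z : alternatingGroup (Fin 6)) : Perm (Fin 6)).cycleType = {3, 3} :=
      (order_three_type _ (ho z (ho33 z hz))).resolve_left hz'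
    have hYY : ∀ w : alternatingGroup (Fin 6), (w : Perm (Fin 6)).cycleType = {3, 3} →
        ((φ w : alternatingGroup (Fin 6)) : Perm (Fin 6)).cycleType = {3, 3} := by
      intro w hw
      obtain ⟨c, hc⟩ := isConj_iff.1 (isConj_type33 z w hz hw)
      rw [← hc, map_mul, map_mul, map_inv]
      have : ((φ c * φ z * (φ c)⁻¹ : alternatingGroup (Fin 6)) : Perm (Fin 6)) =
          (φ c : Perm (Fin 6)) * (φ z : Perm (Fin 6)) * (φ c : Perm (Fin 6))⁻¹ := rfl
      rw [this, cycleType_conj, h2]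
    -- φ restricted to type (3,3) is a bijection, but x is sent inside
    let Y := {w : alternatingGroup (Fin 6) // (w : Perm (Fin 6)).cycleType = {3, 3}}
    let f : Y → Y := fun w => ⟨φ w.1, hYY w.1 w.2⟩
    have hf : Function.Injective f := by
      intro a b hab
      apply Subtype.ext
      exact φ.injective (congrArg Subtype.val hab)
    obtain ⟨w, hw⟩ := (Finite.injective_iff_surjective.mp hf) ⟨φ x, h1⟩
    have e : w.1 = x := φ.injective (congrArg Subtype.val hw)
    have := w.2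
    rw [e] at this
    exact three_not_33 _ hx this
  -- so odd powers send 3-cycles to type (3,3)
  have hpow : ∀ k : ℕ, ∀ z : alternatingGroup (Fin 6), (z : Perm (Fin 6)).IsThreeCycle →
      (((φ ^ (2 * k + 1)) z : alternatingGroup (Fin 6)) : Perm (Fin 6)).cycleType = {3, 3} := by
    intro k
    induction k with
    | zero =>
      intro z hz
      simpa using hX z hz
    | succ k ih =>
      intro z hz
      have e : φ ^ (2 * (k + 1) + 1) = φ ^ (2 * k + 1) * (φ * φ) := by
        rw [show 2 * (k + 1) + 1 = (2 * k + 1) + 2 by ring, pow_add, pow_two]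
      rw [e]
      have e2 : (φ ^ (2 * k + 1) * (φ * φ)) z = (φ ^ (2 * k + 1)) (φ (φ z)) := rfl
      rw [e2]
      exact ih _ (hY _ (hX z hz))
  obtain ⟨k, hk⟩ := hodd
  have h3 := hpow k x hx
  rw [← hk, pow_orderOf_eq_one] at h3
  exact three_not_33 _ hx h3

/-- An automorphism of `A_n`, `n ≥ 5`, of odd order is induced by a permutation. -/
lemma exists_conj_of_odd (n : ℕ) (hn : 5 ≤ n) (φ : MulAut (alternatingGroup (Fin n)))
    (hodd : Odd (orderOf φ)) :
    ∃ π : Perm (Fin n), (MulAut.conjNormal π : MulAut ↥(alternatingGroup (Fin n))) = φ := by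
  by_cases h6 : n = 6
  · subst h6
    exact exists_conj_of_preserve 6 (by norm_num) φ (odd_preserve φ hodd)
  · exact (Cfsg.Agent.S2119.result n (by omega) h6).2 φ

/-- A `r`-group of permutations of fewer than `r²` points is commutative. -/
lemma comm_of_small {α : Type*} [Fintype α] [DecidableEq α] (r : ℕ) [hr : Fact r.Prime]
    (T : Subgroup (Perm α)) (hT : IsPGroup r T) (hn : Fintype.card α < r ^ 2)
    (a b : Perm α) (ha : a ∈ T) (hb : b ∈ T) : a * b = b * a := by
  classical
  ext x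
  let O := MulAction.orbit T x
  obtain ⟨j, hj⟩ := hT.card_orbit x
  have hle : Nat.card O ≤ Fintype.card α := by
    rw [← Nat.card_eq_fintype_card]
    exact Nat.card_le_card_of_injective (fun y : O => (y : α)) Subtype.val_injective
  have hj1 : j ≤ 1 := by
    by_contra h
    have h2 : 2 ≤ j := by omega
    have : r ^ 2 ≤ r ^ j := Nat.pow_le_pow_right hr.out.pos h2
    have e : Nat.card (MulAction.orbit T x) = Nat.card O := rfl
    omega
  have hOr : Nat.card O ≤ r := by
    have e : Nat.card (MulAction.orbit T x) = Nat.card O := rfl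
    rw [← e, hj]
    calc r ^ j ≤ r ^ 1 := Nat.pow_le_pow_right hr.out.pos hj1
      _ = r := pow_one r
  let ρ : T →* Perm O := MulAction.toPermHom T O
  have hI' : IsPGroup r ρ.range := by
    intro g
    obtain ⟨t, ht⟩ := g.2
    obtain ⟨k, hk⟩ := hT t
    refine ⟨k, Subtype.ext ?_⟩
    have h0 : ρ (t ^ r ^ k) = 1 := by rw [hk, map_one]
    rw [map_pow, ht] at h0
    simpa using h0
  obtain ⟨k, hk⟩ := IsPGroup.iff_card.mp hI'
  have hdiv : Nat.card ρ.range ∣ r.factorial := by
    have h1 : Nat.card ρ.range ∣ Nat.card (Perm O) := Subgroup.card_subgroup_dvd_card _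
    rw [Nat.card_perm] at h1
    exact h1.trans (Nat.factorial_dvd_factorial hOr)
  have hk1 : k ≤ 1 := by
    by_contra h
    have h2 : 2 ≤ k := by omega
    have h3 : r ^ 2 ∣ r.factorial := by
      refine dvd_trans (pow_dvd_pow r h2) ?_
      rw [← hk]; exact hdiv
    obtain ⟨s, hs⟩ : ∃ s, r = s + 1 := ⟨r - 1, by have := hr.out.pos; omega⟩
    have h4 : r ∣ s.factorial := by
      have e : r.factorial = r * s.factorial := by rw [hs, Nat.factorial_succ]
      rw [e, pow_two] at h3
      exact Nat.dvd_of_mul_dvd_mul_left hr.out.pos h3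
    have h5 := (hr.out.dvd_factorial).mp h4
    omega
  have hcomm : ∀ u v : ρ.range, u * v = v * u := by
    have : k = 0 ∨ k = 1 := by omega
    rcases this with e | e
    · rw [e, pow_zero] at hk
      have hs : Subsingleton ρ.range := (Nat.card_eq_one_iff_unique.mp hk).1
      intro u v
      exact Subsingleton.elim _ _
    · rw [e, pow_one] at hk
      haveI : Fact (Nat.card ρ.range).Prime := ⟨hk ▸ hr.out⟩
      haveI : IsCyclic ρ.range := isCyclic_of_prime_card rfl
      intro u v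
      exact IsCyclic.commGroup.mul_comm u v
  have hc := hcomm ⟨ρ ⟨a, ha⟩, ⟨_, rfl⟩⟩ ⟨ρ ⟨b, hb⟩, ⟨_, rfl⟩⟩
  have hc2 : ρ ⟨a, ha⟩ * ρ ⟨b, hb⟩ = ρ ⟨b, hb⟩ * ρ ⟨a, ha⟩ := congrArg Subtype.val hc
  have hx : x ∈ MulAction.orbit T x := MulAction.mem_orbit_self x
  have hc3 := congrArg (fun g : Perm O => ((g ⟨x, hx⟩ : O) : α)) hc2
  exact hc3

/-- Sylow `r`-subgroups of groups of automorphisms of `A_n` are commutative when `n < r²`, `r` odd. -/
lemma sylow_comm_of_small (n : ℕ) (hn : 5 ≤ n) (G : Subgroup (MulAut (alternatingGroup (Fin n))))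
    (r : ℕ) [hr : Fact r.Prime] (hr2 : r ≠ 2) (hsm : n < r ^ 2) (P : Sylow r G) :
    IsMulCommutative (P : Subgroup G) := by
  have hinj : Function.Injective (MulAut.conjNormal : Perm (Fin n) →* MulAut ↥(alternatingGroup (Fin n))) :=
    conj_injective (by omega)
  let P' : Subgroup (MulAut (alternatingGroup (Fin n))) := (P : Subgroup G).map G.subtype
  have hP' : IsPGroup r P' := P.isPGroup'.map _
  let T : Subgroup (Perm (Fin n)) := P'.comap MulAut.conjNormal
  have hT : IsPGroup r T := hP'.comap_of_injective _ hinj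
  have hodd : ∀ a : (P : Subgroup G), ∃ π : Perm (Fin n), π ∈ T ∧ (MulAut.conjNormal π : MulAut ↥(alternatingGroup (Fin n))) = ((a : G) : MulAut (alternatingGroup (Fin n))) := by
    intro a
    have hp := P.isPGroup' a
    obtain ⟨k, hk⟩ := hp
    have ho : orderOf (((a : G) : MulAut (alternatingGroup (Fin n)))) ∣ r ^ k := by
      rw [orderOf_dvd_iff_pow_eq_one]
      have := congrArg (fun y : (P : Subgroup G) => ((y : G) : MulAut (alternatingGroup (Fin n)))) hk
      simpa using this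
    have hodd' : Odd (orderOf (((a : G) : MulAut (alternatingGroup (Fin n))))) := by
      obtain ⟨m, _, hm⟩ := (Nat.dvd_prime_pow hr.out).mp ho
      rw [hm]
      exact (hr.out.odd_of_ne_two hr2).pow
    obtain ⟨π, hπ⟩ := exists_conj_of_odd n hn _ hodd'
    refine ⟨π, ?_, hπ⟩
    change MulAut.conjNormal π ∈ P'
    rw [hπ]
    exact ⟨a, a.2, rfl⟩
  refine ⟨⟨fun a b => ?_⟩⟩
  obtain ⟨πa, ha, ea⟩ := hodd a
  obtain ⟨πb, hb, eb⟩ := hodd b
  have hab := comm_of_small r T hT (by simpa using hsm) πa πb ha hb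
  apply Subtype.ext
  apply Subtype.ext
  have := congrArg (MulAut.conjNormal : Perm (Fin n) →* MulAut ↥(alternatingGroup (Fin n))) hab
  rw [map_mul, map_mul, ea, eb] at this
  exact this

/-- Elements of `A_n` give elements of the same order in `G`. -/
lemma exists_order_of_perm (n : ℕ) (hn : 5 ≤ n) (G : Subgroup (MulAut (alternatingGroup (Fin n))))
    (hG : (MulAut.conj : alternatingGroup (Fin n) →* MulAut (alternatingGroup (Fin n))).range ≤ G)
    (a : Perm (Fin n)) (ha : a ∈ alternatingGroup (Fin n)) : ∃ g : G, orderOf g = orderOf a := by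
  have hinj : Function.Injective (MulAut.conjNormal : Perm (Fin n) →* MulAut ↥(alternatingGroup (Fin n))) :=
    conj_injective (by omega)
  refine ⟨⟨MulAut.conj (⟨a, ha⟩ : alternatingGroup (Fin n)), hG ⟨_, rfl⟩⟩, ?_⟩
  have e : (MulAut.conj (⟨a, ha⟩ : alternatingGroup (Fin n)) : MulAut (alternatingGroup (Fin n))) =
      MulAut.conjNormal a := by
    ext y
    simp [MulAut.conjNormal_apply]
  rw [← Subgroup.orderOf_coe]
  change orderOf (MulAut.conj (⟨a, ha⟩ : alternatingGroup (Fin n)) : MulAut (alternatingGroup (Fin n))) = _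
  rw [e]
  exact orderOf_injective _ hinj a

lemma exists_perm_odd_odd (n p q : ℕ) (hp : p.Prime) (hq : q.Prime) (hp2 : p ≠ 2) (hq2 : q ≠ 2)
    (hpq : p ≠ q) (hn : p + q ≤ n) : ∃ a : Perm (Fin n), a ∈ alternatingGroup (Fin n) ∧ orderOf a = p * q := by
  obtain ⟨a, ha⟩ := (exists_with_cycleType_iff (Fin n) (m := {p, q})).2 ⟨by simpa using hn, by
    intro x hx
    simp only [Multiset.insert_eq_cons, Multiset.mem_cons, Multiset.mem_singleton] at hx
    rcases hx with rfl | rfl
    · exact hp.two_le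
    · exact hq.two_le⟩
  refine ⟨a, ?_, ?_⟩
  · rw [mem_alternatingGroup, sign_of_cycleType, ha]
    obtain ⟨s, hs⟩ := hp.odd_of_ne_two hp2
    obtain ⟨t, ht⟩ := hq.odd_of_ne_two hq2
    have e : ({p, q} : Multiset ℕ).sum + Multiset.card ({p, q} : Multiset ℕ) = 2 * (s + t + 2) := by
      simp [hs, ht]
      ring
    rw [e, pow_mul]
    simp
  · rw [← lcm_cycleType, ha]
    simp only [Multiset.insert_eq_cons, Multiset.lcm_cons, Multiset.lcm_singleton]
    have hc : Nat.Coprime p q := (Nat.coprime_primes hp hq).2 hpq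
    have e : lcm p q = p * q := hc.lcm_eq_mul
    simp [e]

lemma exists_perm_two_odd (n q : ℕ) (hq : q.Prime) (hq2 : q ≠ 2)
    (hn : q + 4 ≤ n) : ∃ a : Perm (Fin n), a ∈ alternatingGroup (Fin n) ∧ orderOf a = 2 * q := by
  obtain ⟨a, ha⟩ := (exists_with_cycleType_iff (Fin n) (m := {2, 2, q})).2 ⟨by
      simp
      omega, by
    intro x hx
    simp only [Multiset.insert_eq_cons, Multiset.mem_cons, Multiset.mem_singleton] at hx
    rcases hx with rfl | rfl | rfl
    · omega
    · omega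
    · exact hq.two_le⟩
  refine ⟨a, ?_, ?_⟩
  · rw [mem_alternatingGroup, sign_of_cycleType, ha]
    obtain ⟨t, ht⟩ := hq.odd_of_ne_two hq2
    have e : ({2, 2, q} : Multiset ℕ).sum + Multiset.card ({2, 2, q} : Multiset ℕ) = 2 * (t + 4) := by
      simp [ht]
      ring
    rw [e, pow_mul]
    simp
  · rw [← lcm_cycleType, ha]
    simp only [Multiset.insert_eq_cons, Multiset.lcm_cons, Multiset.lcm_singleton]
    have hc : Nat.Coprime 2 q := (Nat.coprime_primes Nat.prime_two hq).2 (Ne.symm hq2)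
    have e : lcm 2 q = 2 * q := hc.lcm_eq_mul
    have e2 : lcm 2 (2 * q) = 2 * q := by
      change Nat.lcm 2 (2 * q) = 2 * q
      exact Nat.lcm_eq_right (Dvd.intro q rfl)
    simp [e, e2]

end Cfsg.Agent.Lib.Struct.AutAlt
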