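import Mathlib
import Cfsg.Agent.Lib.PGroups.Miller
import Cfsg.Agent.Lib.PGroups.Wielandt
import Cfsg.Agent.Lib.Basic.Frattini

/-!
# Kulakoff's theorem on the number of subgroups of order `p ^ k` of a non-cyclic `p`-group, `p` odd
-/

set_option autoImplicit false
set_option linter.unusedSectionVars false
set_option linter.style.haveILetI false

namespace Cfsg.Agent.Lib.Struct.Kulakoff

open Subgroup Finset
open Cfsg.Agent.Lib.PGroups (card_index_prime_modEq card_subgroups_modEq subgroup_eq_of_card_eq_of_isCyclic)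

universe u

section Hom

variable {p : ℕ} [hpf : Fact p.Prime] {R : Type*} [Group R] [Finite R]

local notation "𝔸" p => Multiplicative (ZMod p)

theorem card_A : Nat.card (𝔸 p) = p := by
  rw [Nat.card_congr Multiplicative.toAdd, Nat.card_zmod]

/-- Homomorphisms trivial on `V`. -/
def homsOn (p : ℕ) [Fact p.Prime] (V : Subgroup R) : Subgroup (R →* 𝔸 p) where
  carrier := {φ | V ≤ φ.ker}
  mul_mem' := by
    intro a b ha hb x hx
    have h1 : a x = 1 := ha hx
    have h2 : b x = 1 := hb hx
    rw [MonoidHom.mem_ker, MonoidHom.mul_apply, h1, h2, one_mul]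
  one_mem' := by
    intro x _
    rw [MonoidHom.mem_ker, MonoidHom.one_apply]
  inv_mem' := by
    intro a ha x hx
    have h1 : a x = 1 := ha hx
    rw [MonoidHom.mem_ker, MonoidHom.inv_apply, h1, inv_one]

theorem finite_homs : Finite (R →* 𝔸 p) :=
  Finite.of_injective (fun f => (f : R → 𝔸 p)) DFunLike.coe_injective

theorem isPGroup_homs : IsPGroup p (R →* 𝔸 p) := by
  intro φ
  refine ⟨1, ?_⟩
  rw [pow_one]
  apply MonoidHom.ext
  intro x
  show (φ x) ^ p = 1
  have := pow_card_eq_one' (x := φ x)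
  rwa [card_A] at this

theorem exists_hom_ker_eq' (hR : IsPGroup p R) {M : Subgroup R} (hM : M.index = p) :
    ∃ φ : R →* 𝔸 p, φ.ker = M := by
  have hp : p.Prime := hpf.out
  have hco : IsCoatom M := Cfsg.Agent.Lib.Transfer.isCoatom_of_index_prime (by rw [hM]; exact hp)
  obtain ⟨hn, -⟩ := Cfsg.Agent.Lib.Transfer.normal_and_index_of_isCoatom hR hco
  haveI := hn
  have hcard : Nat.card (R ⧸ M) = p := by rw [← Subgroup.index_eq_card, hM]
  let e : (R ⧸ M) ≃* 𝔸 p := mulEquivOfPrimeCardEq hcard card_A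
  refine ⟨(e.toMonoidHom).comp (QuotientGroup.mk' M), ?_⟩
  ext x
  rw [MonoidHom.mem_ker, MonoidHom.comp_apply]
  simp only [MulEquiv.toMonoidHom_eq_coe, MonoidHom.coe_coe, map_eq_one_iff _ e.injective,
    QuotientGroup.mk'_apply, QuotientGroup.eq_one_iff]

theorem index_ker_eq' {φ : R →* 𝔸 p} (hφ : φ ≠ 1) : φ.ker.index = p := by
  have hp : p.Prime := hpf.out
  rw [Subgroup.index_ker]
  have hd : Nat.card φ.range ∣ p := by
    have := Subgroup.card_subgroup_dvd_card φ.range
    rwa [card_A] at this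
  rcases (Nat.dvd_prime hp).mp hd with h | h
  · exfalso
    have := Subgroup.card_eq_one.mp h
    apply hφ
    rw [MonoidHom.range_eq_bot_iff] at this
    exact this
  · exact h

/-- Exactly `p` homomorphisms are trivial on a subgroup of index `p`. -/
theorem card_homsOn_of_index (hR : IsPGroup p R) {M : Subgroup R} (hM : M.index = p) :
    Nat.card (homsOn p M) = p := by
  haveI : Finite (R →* 𝔸 p) := finite_homs
  have hp : p.Prime := hpf.out
  have hco : IsCoatom M := Cfsg.Agent.Lib.Transfer.isCoatom_of_index_prime (by rw [hM]; exact hp)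
  obtain ⟨g₀, hg₀⟩ : ∃ g₀, g₀ ∉ M := by
    by_contra h
    push Not at h
    exact hco.1 (eq_top_iff.2 (fun x _ => h x))
  have hle : Nat.card (homsOn p M) ≤ p := by
    have hinj : Function.Injective (fun φ : homsOn p M => (φ : R →* 𝔸 p) g₀) := by
      intro φ ψ h
      apply Subtype.ext
      have hh : (φ : R →* 𝔸 p) g₀ = (ψ : R →* 𝔸 p) g₀ := h
      let χ : R →* 𝔸 p := (φ : R →* 𝔸 p) / ψ
      have hχM : M ≤ χ.ker := by
        intro x hx
        have h1 : (φ : R →* 𝔸 p) x = 1 := φ.2 hx
        have h2 : (ψ : R →* 𝔸 p) x = 1 := ψ.2 hx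
        show (φ : R →* 𝔸 p) x / (ψ : R →* 𝔸 p) x = 1
        rw [h1, h2, div_one]
      have hχg : g₀ ∈ χ.ker := by
        show (φ : R →* 𝔸 p) g₀ / (ψ : R →* 𝔸 p) g₀ = 1
        rw [hh, div_self']
      have htop : χ.ker = ⊤ := by
        rcases hco.le_iff.1 hχM with h1 | h1
        · exact h1
        · exact absurd (h1 ▸ hχg) hg₀
      apply MonoidHom.ext
      intro x
      have hx : χ x = 1 := by
        have : x ∈ χ.ker := htop ▸ Subgroup.mem_top x
        exact this
      have : (φ : R →* 𝔸 p) x / (ψ : R →* 𝔸 p) x = 1 := hx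
      exact div_eq_one.1 this
    have := Nat.card_le_card_of_injective _ hinj
    rwa [card_A] at this
  obtain ⟨φ, hφ⟩ := exists_hom_ker_eq' hR hM
  have hφ1 : φ ≠ 1 := by
    rintro rfl
    rw [MonoidHom.ker_one] at hφ
    exact hco.1 hφ.symm
  have hpg : IsPGroup p (homsOn p M) := isPGroup_homs.to_subgroup _
  obtain ⟨r, hr⟩ := IsPGroup.iff_card.mp hpg
  rw [hr] at hle ⊢
  have hr1 : r ≠ 0 := by
    rintro rfl
    rw [pow_zero] at hr
    have hbot := Subgroup.card_eq_one.mp hr
    have : φ ∈ homsOn p M := show M ≤ φ.ker from hφ.ge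
    rw [hbot] at this
    exact hφ1 (Subgroup.mem_bot.mp this)
  have hr2 : r ≤ 1 := by
    by_contra hcon
    have : p ^ 2 ≤ p ^ r := Nat.pow_le_pow_right hp.pos (by omega)
    have h2 : p < p ^ 2 := by
      have := hp.two_le
      nlinarith
    omega
  have : r = 1 := by omega
  rw [this, pow_one]

/-- Counting maximal subgroups above `U`: `h (p - 1) + 1 = p ^ r`. -/
theorem card_max_over (hR : IsPGroup p R) (U : Subgroup R) (hU : U ≠ ⊤) :
    ∃ r, 1 ≤ r ∧ Nat.card {M : Subgroup R // M.index = p ∧ U ≤ M} * (p - 1) + 1 = p ^ r := by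
  classical
  haveI : Finite (R →* 𝔸 p) := finite_homs
  haveI := Fintype.ofFinite (R →* 𝔸 p)
  haveI := Fintype.ofFinite (Subgroup R)
  have hp : p.Prime := hpf.out
  rw [Nat.subtype_card (univ.filter (fun M : Subgroup R => M.index = p ∧ U ≤ M)) (by simp)]
  set 𝓗 := univ.filter (fun M : Subgroup R => M.index = p ∧ U ≤ M) with h𝓗
  let S : Subgroup R → Finset (R →* 𝔸 p) :=
    fun V => univ.filter (fun φ : R →* 𝔸 p => V ≤ φ.ker ∧ φ ≠ 1)
  have hS1 : ∀ V : Subgroup R, Nat.card (homsOn p V) = (S V).card + 1 := by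
    intro V
    have h2 : Nat.card (homsOn p V) = (insert (1 : R →* 𝔸 p) (S V)).card := by
      apply Nat.subtype_card
      intro φ
      simp only [S, Finset.mem_insert, Finset.mem_filter, Finset.mem_univ, true_and]
      constructor
      · rintro (rfl | h)
        · exact (homsOn p V).one_mem
        · exact h.1
      · intro h
        by_cases hφ : φ = 1
        · exact Or.inl hφ
        · exact Or.inr ⟨h, hφ⟩
    rw [h2, Finset.card_insert_of_notMem]
    simp [S]
  have hSM : ∀ M ∈ 𝓗, (S M).card = p - 1 := by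
    intro M hM
    have hMi : M.index = p := (Finset.mem_filter.mp hM).2.1
    have := hS1 M
    rw [card_homsOn_of_index hR hMi] at this
    omega
  have hpart : (S U).card = ∑ M ∈ 𝓗, (S M).card := by
    rw [Finset.card_eq_sum_card_fiberwise (f := fun φ => φ.ker) (t := 𝓗)]
    · apply Finset.sum_congr rfl
      intro M hM
      have hMi : M.index = p := (Finset.mem_filter.mp hM).2.1
      have hUM : U ≤ M := (Finset.mem_filter.mp hM).2.2
      congr 1
      ext φ
      simp only [S, Finset.mem_filter, Finset.mem_univ, true_and]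
      constructor
      · rintro ⟨⟨-, h2⟩, h3⟩
        exact ⟨h3.ge, h2⟩
      · rintro ⟨h1, h2⟩
        refine ⟨⟨le_trans hUM h1, h2⟩, ?_⟩
        have hco : IsCoatom M := Cfsg.Agent.Lib.Transfer.isCoatom_of_index_prime (by rw [hMi]; exact hp)
        rcases (hco.le_iff.mp h1) with h | h
        · exfalso
          apply h2
          apply MonoidHom.ext
          intro x
          have : x ∈ φ.ker := by rw [h]; trivial
          simpa using this
        · exact h
    · intro φ hφ
      have hφ' := (Finset.mem_filter.mp hφ).2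
      exact Finset.mem_filter.mpr ⟨Finset.mem_univ _, index_ker_eq' hφ'.2, hφ'.1⟩
  have hpg : IsPGroup p (homsOn p U) := isPGroup_homs.to_subgroup _
  obtain ⟨r, hr⟩ := IsPGroup.iff_card.mp hpg
  -- `U` lies in a maximal subgroup, giving `r ≥ 1`
  have hr1 : 1 ≤ r := by
    by_contra hcon
    have hr0 : r = 0 := by omega
    rw [hr0, pow_zero] at hr
    have hbot := Subgroup.card_eq_one.mp hr
    rcases eq_top_or_exists_le_coatom U with h | ⟨M, hM, hUM⟩
    · exact hU h
    · obtain ⟨-, hi⟩ := Cfsg.Agent.Lib.Transfer.normal_and_index_of_isCoatom hR hM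
      obtain ⟨φ, hφ⟩ := exists_hom_ker_eq' hR hi
      have hφ1 : φ ≠ 1 := by
        rintro rfl
        rw [MonoidHom.ker_one] at hφ
        exact hM.1 hφ.symm
      have : φ ∈ homsOn p U := show U ≤ φ.ker from hφ ▸ hUM
      rw [hbot] at this
      exact hφ1 (Subgroup.mem_bot.mp this)
  refine ⟨r, hr1, ?_⟩
  rw [← hr, hS1 U, hpart, Finset.sum_congr rfl hSM, Finset.sum_const, smul_eq_mul]

/-- The number of maximal subgroups above `U` is `1` or `≡ 1 + p` modulo `p ^ 2`. -/
theorem card_max_over_mod (hR : IsPGroup p R) (U : Subgroup R) (hU : U ≠ ⊤) :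
    Nat.card {M : Subgroup R // M.index = p ∧ U ≤ M} = 1 ∨
      Nat.card {M : Subgroup R // M.index = p ∧ U ≤ M} ≡ 1 + p [MOD p ^ 2] := by
  obtain ⟨r, hr1, hr⟩ := card_max_over hR U hU
  have hp : p.Prime := hpf.out
  set h := Nat.card {M : Subgroup R // M.index = p ∧ U ≤ M} with hh
  have hp1 : 1 ≤ p - 1 := by have := hp.two_le; omega
  rcases Nat.lt_or_ge r 2 with hr2 | hr2
  · left
    have : r = 1 := by omega
    rw [this, pow_one] at hr
    have h2 : h * (p - 1) = 1 * (p - 1) := by
      have : p = (p - 1) + 1 := by omega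
      omega
    exact Nat.eq_of_mul_eq_mul_right (by omega) h2
  · right
    have e1 : h * (p - 1) + 1 ≡ (1 + p) * (p - 1) + 1 [MOD p ^ 2] := by
      have e2 : (1 + p) * (p - 1) + 1 = p ^ 2 := by
        obtain ⟨q, rfl⟩ : ∃ q, p = q + 1 := ⟨p - 1, by omega⟩
        simp only [Nat.add_sub_cancel]
        ring
      rw [hr, e2]
      have : p ^ 2 ∣ p ^ r := pow_dvd_pow p hr2
      exact (Nat.modEq_zero_iff_dvd.2 this).trans (Nat.modEq_zero_iff_dvd.2 dvd_rfl).symm
    have e3 : h * (p - 1) ≡ (1 + p) * (p - 1) [MOD p ^ 2] := Nat.ModEq.add_right_cancel' 1 e1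
    have hc : Nat.gcd (p ^ 2) (p - 1) = 1 := by
      have : Nat.Coprime p (p - 1) :=
        (Nat.Prime.coprime_iff_not_dvd hp).2 (fun h => by
          have := Nat.le_of_dvd (by omega) h
          omega)
      exact Nat.Coprime.pow_left 2 this
    exact Nat.ModEq.cancel_right_of_coprime hc e3

end Hom

section Main

variable {p : ℕ} [hpf : Fact p.Prime]

/-- Subgroups of order `n` of a subgroup `M`. -/
def subEquiv {R : Type*} [Group R] (M : Subgroup R) (n : ℕ) :
    {H : Subgroup ↥M // Nat.card H = n} ≃ {H : Subgroup R // H ≤ M ∧ Nat.card H = n} where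
  toFun H := ⟨H.1.map M.subtype, map_subtype_le _, by
    rw [Subgroup.card_map_of_injective M.subtype_injective]; exact H.2⟩
  invFun H := ⟨H.1.subgroupOf M, by
    rw [Nat.card_congr (Subgroup.subgroupOfEquivOfLe H.2.1).toEquiv]; exact H.2.2⟩
  left_inv H := by
    apply Subtype.ext
    exact Subgroup.comap_map_eq_self_of_injective M.subtype_injective _
  right_inv H := by
    apply Subtype.ext
    exact Subgroup.subgroupOf_map_subtype _ _ |>.trans (inf_eq_left.2 H.2.1)

theorem card_cyclic_subgroups {X : Type*} [Group X] [Finite X] [IsCyclic X] {n : ℕ}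
    (hn : n ∣ Nat.card X) : Nat.card {H : Subgroup X // Nat.card H = n} = 1 := by
  classical
  haveI := Fintype.ofFinite X
  obtain ⟨g, hg⟩ := IsCyclic.exists_ofOrder_eq_natCard (α := X)
  have hpos := Nat.card_pos (α := X)
  obtain ⟨m, hm⟩ := hn
  have hm0 : m ≠ 0 := by
    rintro rfl
    rw [mul_zero] at hm
    omega
  have hord : orderOf (g ^ m) = n := by
    rw [orderOf_pow' g hm0, hg, hm, Nat.gcd_mul_left_left, Nat.mul_div_cancel _ (Nat.pos_of_ne_zero hm0)]
  rw [Nat.card_eq_one_iff_unique]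
  refine ⟨⟨fun a b => Subtype.ext (subgroup_eq_of_card_eq_of_isCyclic (a.2.trans b.2.symm))⟩,
    ⟨⟨zpowers (g ^ m), by rw [Nat.card_zpowers, hord]⟩⟩⟩

theorem card_subgroups_index {R : Type*} [Group R] [Finite R] (H : Subgroup R) {p a : ℕ}
    (hp : p.Prime) (hcard : Nat.card R = p ^ (a + 1)) : H.index = p ↔ Nat.card H = p ^ a := by
  have h := H.card_mul_index
  rw [hcard] at h
  constructor
  · intro hi
    rw [hi, pow_succ] at h
    exact Nat.eq_of_mul_eq_mul_right hp.pos h
  · intro hc
    rw [hc, pow_succ] at h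
    exact Nat.eq_of_mul_eq_mul_left (pow_pos hp.pos a) h

/-- Avoiding an element by a maximal subgroup over the Frattini subgroup. -/
theorem exists_max_avoid {R : Type*} [Group R] [Finite R] (hR : IsPGroup p R) (W : Subgroup R)
    (hW : frattini R ≤ W) (x : R) (hx : x ∉ W) : ∃ M : Subgroup R, M.index = p ∧ W ≤ M ∧ x ∉ M := by
  classical
  have hp : p.Prime := hpf.out
  haveI hnil : Group.IsNilpotent R := hR.isNilpotent
  let P : Subgroup R → Prop := fun T => W ≤ T ∧ x ∉ T
  obtain ⟨M, -, hM⟩ := Finite.exists_le_maximal (p := P) (a := W) ⟨le_rfl, hx⟩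
  have hWM : W ≤ M := hM.prop.1
  have hxM : x ∉ M := hM.prop.2
  have hFM : frattini R ≤ M := hW.trans hWM
  have hMn : M.Normal := by
    constructor
    intro m hm g
    have h1 : g * m * g⁻¹ * m⁻¹ ∈ commutator R :=
      Subgroup.commutator_mem_commutator (Subgroup.mem_top g) (Subgroup.mem_top m)
    have h2 := hFM (Cfsg.Agent.Lib.Basic.commutator_le_frattini_of_isNilpotent h1)
    have e : g * m * g⁻¹ = (g * m * g⁻¹ * m⁻¹) * m := by group
    rw [e]
    exact M.mul_mem h2 hm
  have hco : IsCoatom M := by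
    refine ⟨fun h => hxM (h ▸ Subgroup.mem_top x), ?_⟩
    intro T hMT
    have hinT : ∀ T', M < T' → x ∈ T' := by
      intro T' hMT'
      by_contra hxT'
      have := hM.le_of_ge ⟨hWM.trans hMT'.le, hxT'⟩ hMT'.le
      exact absurd this (not_le_of_gt hMT')
    have hxT := hinT T hMT
    rw [eq_top_iff]
    intro g _
    by_cases hg : g ∈ M
    · exact hMT.le hg
    have hlt : M < M ⊔ zpowers g := by
      refine lt_of_le_of_ne le_sup_left ?_
      intro h
      apply hg
      rw [h]
      exact Subgroup.mem_sup_right (mem_zpowers g)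
    have hx1 := hinT _ hlt
    rw [← SetLike.mem_coe, Subgroup.normal_mul] at hx1
    obtain ⟨m, hm, h, hh, rfl⟩ := hx1
    obtain ⟨i, rfl⟩ := mem_zpowers_iff.1 hh
    have hgp : g ^ p ∈ M := hFM (Cfsg.Agent.Lib.Basic.pow_mem_frattini_of_isPGroup hR g)
    have hnd : ¬ (p : ℤ) ∣ i := by
      rintro ⟨j, rfl⟩
      apply hxM
      refine M.mul_mem hm ?_
      rw [zpow_mul, zpow_natCast]
      exact M.zpow_mem hgp j
    have hgi : g ^ i ∈ T := by
      have : g ^ i = m⁻¹ * (m * g ^ i) := by group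
      rw [this]
      exact T.mul_mem (T.inv_mem (hMT.le hm)) hxT
    have hcop : IsCoprime (p : ℤ) i :=
      (Int.prime_iff_natAbs_prime.2 (by simpa using hp)).coprime_iff_not_dvd.2 hnd
    obtain ⟨a, b, hab⟩ := hcop
    have : g = (g ^ p) ^ a * (g ^ i) ^ b := by
      rw [← zpow_natCast g p, ← zpow_mul, ← zpow_mul, ← zpow_add]
      have e : (p : ℤ) * a + i * b = 1 := by linarith
      rw [e, zpow_one]
    rw [this]
    exact T.mul_mem (T.zpow_mem (hMT.le hgp) a) (T.zpow_mem hgi b)
  obtain ⟨-, hi⟩ := Cfsg.Agent.Lib.Transfer.normal_and_index_of_isCoatom hR hco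
  exact ⟨M, hi, hWM, hxM⟩

/-- A `p`-group with a unique maximal subgroup is cyclic. -/
theorem isCyclic_of_card_max_eq_one {R : Type*} [Group R] [Finite R] (hR : IsPGroup p R)
    (h : Nat.card {M : Subgroup R // M.index = p ∧ (⊥ : Subgroup R) ≤ M} = 1) : IsCyclic R := by
  have hp : p.Prime := hpf.out
  obtain ⟨⟨M₀, hM₀⟩, hu⟩ := (Nat.card_eq_one_iff_exists).1 h
  have hne : M₀ ≠ ⊤ := by
    rintro rfl
    rw [Subgroup.index_top] at hM₀
    exact hp.one_lt.ne hM₀.1
  obtain ⟨x, hx⟩ : ∃ x, x ∉ M₀ := by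
    by_contra hcon
    push Not at hcon
    exact hne (eq_top_iff.2 (fun y _ => hcon y))
  rw [isCyclic_iff_exists_zpowers_eq_top]
  refine ⟨x, ?_⟩
  by_contra hz
  obtain ⟨M, hM, hle⟩ := Cfsg.Agent.Lib.Basic.exists_isCoatom_ge hz
  obtain ⟨-, hi⟩ := Cfsg.Agent.Lib.Transfer.normal_and_index_of_isCoatom hR hM
  have := hu ⟨M, hi, bot_le⟩
  have hMe : M = M₀ := congrArg Subtype.val this
  exact hx (hMe ▸ hle (mem_zpowers x))

/-- Subgroups `H` of order `p ^ k` with `H ⊔ D = ⊤`, `D` proper: the number is divisible by `p`. -/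
theorem card_sup_top_dvd {X : Type*} [Group X] [Finite X] (hX : IsPGroup p X) (k : ℕ)
    (D : Subgroup X) (hD : D ≠ ⊤) (hk : p ^ (k + 1) ∣ Nat.card X) :
    p ∣ Nat.card {H : Subgroup X // Nat.card H = p ^ k ∧ H ⊔ D = ⊤} := by
  classical
  haveI := Fintype.ofFinite (Subgroup X)
  have hp : p.Prime := hpf.out
  set S := univ.filter (fun H : Subgroup X => Nat.card H = p ^ k) with hS
  set 𝓛 := univ.filter (fun L : Subgroup X => L.index = p ∧ D ≤ L) with h𝓛
  have hswap := Finset.sum_card_bipartiteAbove_eq_sum_card_bipartiteBelow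
    (s := 𝓛) (t := S) (fun L H => H ≤ L)
  have hL1 : (𝓛.card : ZMod p) = 1 := by
    have h := card_index_prime_modEq hX D hD
    rw [Nat.subtype_card 𝓛 (by simp [𝓛])] at h
    have := (ZMod.natCast_eq_natCast_iff _ _ p).2 h
    simpa using this
  have hS1 : ((S.card : ℕ) : ZMod p) = 1 := by
    have h := card_subgroups_modEq hp (dvd_trans (pow_dvd_pow p (Nat.le_succ k)) hk)
    rw [Nat.subtype_card S (by simp [S])] at h
    have := (ZMod.natCast_eq_natCast_iff _ _ p).2 h
    simpa using this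
  have hLHS : ((∑ L ∈ 𝓛, (S.bipartiteAbove (fun L H => H ≤ L) L).card : ℕ) : ZMod p) = 1 := by
    rw [Nat.cast_sum, Finset.sum_congr rfl (g := fun _ => (1 : ZMod p)), Finset.sum_const,
      nsmul_eq_mul, hL1, mul_one]
    intro L hL
    have hLi : L.index = p := (Finset.mem_filter.1 hL).2.1
    have hcardL : Nat.card L * p = Nat.card X := by
      rw [← hLi]; exact L.card_mul_index
    have hdvd : p ^ k ∣ Nat.card L := by
      rw [← hcardL, pow_succ] at hk
      exact Nat.dvd_of_mul_dvd_mul_right hp.pos hk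
    have h1 := card_subgroups_modEq hp hdvd
    have h2 : Nat.card {H : Subgroup ↥L // Nat.card H = p ^ k} =
        (S.bipartiteAbove (fun L H => H ≤ L) L).card := by
      rw [Nat.card_congr (subEquiv L (p ^ k))]
      apply Nat.subtype_card
      intro H
      simp [Finset.bipartiteAbove, S, and_comm]
    rw [h2] at h1
    have := (ZMod.natCast_eq_natCast_iff _ _ p).2 h1
    simpa using this
  have hRHS : ((∑ H ∈ S, (𝓛.bipartiteBelow (fun L H => H ≤ L) H).card : ℕ) : ZMod p) =
      ((S.filter (fun H => H ⊔ D ≠ ⊤)).card : ℕ) := by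
    rw [Nat.cast_sum, Finset.sum_congr rfl (g := fun H => if H ⊔ D ≠ ⊤ then (1 : ZMod p) else 0),
      Finset.sum_ite, Finset.sum_const_zero, add_zero, Finset.sum_const, nsmul_eq_mul, mul_one]
    intro H _
    have h2 : (𝓛.bipartiteBelow (fun L H => H ≤ L) H).card =
        Nat.card {M : Subgroup X // M.index = p ∧ H ⊔ D ≤ M} := by
      symm
      apply Nat.subtype_card
      intro M
      simp only [Finset.bipartiteBelow, 𝓛, Finset.mem_filter, Finset.mem_univ, true_and, sup_le_iff]
      tauto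
    rw [h2]
    by_cases hsup : H ⊔ D = ⊤
    · rw [hsup, if_neg (by simp)]
      have : IsEmpty {M : Subgroup X // M.index = p ∧ (⊤ : Subgroup X) ≤ M} := by
        refine ⟨fun M => ?_⟩
        have : M.1 = ⊤ := top_le_iff.1 M.2.2
        have h3 := M.2.1
        rw [this, Subgroup.index_top] at h3
        exact hp.one_lt.ne h3
      rw [Nat.card_of_isEmpty]
      simp
    · rw [if_pos hsup]
      have h := card_index_prime_modEq hX (H ⊔ D) hsup
      have := (ZMod.natCast_eq_natCast_iff _ _ p).2 h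
      simpa using this
  have hne : ((S.filter (fun H => H ⊔ D ≠ ⊤)).card : ZMod p) = 1 := by
    rw [← hRHS, ← hswap, hLHS]
  have hsplit := Finset.card_filter_add_card_filter_not (s := S) (fun H => H ⊔ D = ⊤)
  have h0 : ((S.filter (fun H => H ⊔ D = ⊤)).card : ZMod p) = 0 := by
    have := congrArg (Nat.cast : ℕ → ZMod p) hsplit
    push_cast at this
    rw [hS1, hne] at this
    simpa using this
  have h1 : Nat.card {H : Subgroup X // Nat.card H = p ^ k ∧ H ⊔ D = ⊤} =
      (S.filter (fun H => H ⊔ D = ⊤)).card := by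
    apply Nat.subtype_card
    intro H
    simp [S]
  rw [h1]
  exact (ZMod.natCast_eq_zero_iff _ _).1 h0

/-- Subgroups of order `p ^ k` contained in the maximal subgroup `M` and in no other one. -/
theorem card_unique_max_dvd {R : Type*} [Group R] [Finite R] (hR : IsPGroup p R) (hnc : ¬ IsCyclic R)
    (k : ℕ) (M : Subgroup R) (hM : M.index = p) (hk : p ^ (k + 1) ∣ Nat.card M) :
    p ∣ Nat.card {H : Subgroup R // Nat.card H = p ^ k ∧ H ≤ M ∧
      Nat.card {N : Subgroup R // N.index = p ∧ H ≤ N} = 1} := by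
  classical
  have hp : p.Prime := hpf.out
  have hco : IsCoatom M := Cfsg.Agent.Lib.Transfer.isCoatom_of_index_prime (by rw [hM]; exact hp)
  set D := frattini R with hDdef
  have hDM : D ≤ M := frattini_le_coatom hco
  have hcoN : ∀ N : Subgroup R, N.index = p → IsCoatom N := fun N hN =>
    Cfsg.Agent.Lib.Transfer.isCoatom_of_index_prime (by rw [hN]; exact hp)
  have hiff : ∀ H : Subgroup R, H ≤ M →
      (Nat.card {N : Subgroup R // N.index = p ∧ H ≤ N} = 1 ↔ H ⊔ D = M) := by
    intro H hHM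
    constructor
    · intro h1
      by_contra hne
      have hlt : H ⊔ D < M := lt_of_le_of_ne (sup_le hHM hDM) hne
      obtain ⟨x, hxM, hxW⟩ := SetLike.exists_of_lt hlt
      obtain ⟨M₁, hi, hW, hx⟩ := exists_max_avoid hR (H ⊔ D) le_sup_right x hxW
      have hsub := ((Nat.card_eq_one_iff_unique).1 h1).1
      have he := @Subsingleton.elim _ hsub ⟨M₁, hi, le_sup_left.trans hW⟩ ⟨M, hM, hHM⟩
      have he' : M₁ = M := congrArg Subtype.val he
      exact hx (he' ▸ hxM)
    · intro h1
      rw [Nat.card_eq_one_iff_unique]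
      refine ⟨⟨?_⟩, ⟨⟨M, hM, hHM⟩⟩⟩
      have hall : ∀ N : {N : Subgroup R // N.index = p ∧ H ≤ N}, N = ⟨M, hM, hHM⟩ := by
        rintro ⟨N, hN, hHN⟩
        apply Subtype.ext
        have hDN : D ≤ N := frattini_le_coatom (hcoN N hN)
        have hMN : M ≤ N := by rw [← h1]; exact sup_le hHN hDN
        rcases hco.le_iff.1 hMN with h | h
        · exfalso
          have := hN
          rw [h, Subgroup.index_top] at this
          exact hp.one_lt.ne this
        · exact h
      intro a b
      rw [hall a, hall b]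
  have hD' : D.subgroupOf M ≠ ⊤ := by
    intro htop
    have hMD : M ≤ D := (Subgroup.subgroupOf_eq_top).1 htop
    apply hnc
    apply isCyclic_of_card_max_eq_one hR
    rw [Nat.card_eq_one_iff_unique]
    refine ⟨⟨?_⟩, ⟨⟨M, hM, bot_le⟩⟩⟩
    have hall : ∀ N : {N : Subgroup R // N.index = p ∧ (⊥ : Subgroup R) ≤ N}, N = ⟨M, hM, bot_le⟩ := by
      rintro ⟨N, hN, -⟩
      apply Subtype.ext
      have hDN : D ≤ N := frattini_le_coatom (hcoN N hN)
      rcases hco.le_iff.1 (hMD.trans hDN) with h | h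
      · exfalso
        have := hN
        rw [h, Subgroup.index_top] at this
        exact hp.one_lt.ne this
      · exact h
    intro a b
    rw [hall a, hall b]
  have hmain := card_sup_top_dvd (hR.to_subgroup M) k (D.subgroupOf M) hD' hk
  have hmaptop : (⊤ : Subgroup ↥M).map M.subtype = M := by
    rw [← MonoidHom.range_eq_map, Subgroup.range_subtype]
  let e : {H : Subgroup ↥M // Nat.card H = p ^ k ∧ H ⊔ D.subgroupOf M = ⊤} ≃
      {H : Subgroup R // Nat.card H = p ^ k ∧ H ≤ M ∧
        Nat.card {N : Subgroup R // N.index = p ∧ H ≤ N} = 1} :=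
    { toFun := fun H => ⟨H.1.map M.subtype, by
          rw [Subgroup.card_map_of_injective M.subtype_injective]; exact H.2.1,
        map_subtype_le _, (hiff _ (map_subtype_le _)).2 (by
          have := congrArg (Subgroup.map M.subtype) H.2.2
          rwa [Subgroup.map_sup, Subgroup.map_subgroupOf_eq_of_le hDM, hmaptop] at this)⟩
      invFun := fun H => ⟨H.1.subgroupOf M, by
          rw [Nat.card_congr (Subgroup.subgroupOfEquivOfLe H.2.2.1).toEquiv]; exact H.2.1, by
          apply Subgroup.map_injective M.subtype_injective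
          rw [Subgroup.map_sup, Subgroup.map_subgroupOf_eq_of_le hDM,
            Subgroup.map_subgroupOf_eq_of_le H.2.2.1, hmaptop]
          exact (hiff _ H.2.2.1).1 H.2.2.2⟩
      left_inv := fun H => by
        apply Subtype.ext
        exact Subgroup.comap_map_eq_self_of_injective M.subtype_injective _
      right_inv := fun H => by
        apply Subtype.ext
        exact Subgroup.map_subgroupOf_eq_of_le H.2.2.1 }
  rwa [Nat.card_congr e] at hmain

/-- `p` divides the number of cyclic maximal subgroups of a non-cyclic `p`-group of order at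
least `p ^ 3`, `p` odd. -/
theorem dvd_card_cyclic_max (hp2 : p ≠ 2) {R : Type u} [Group R] [Finite R] (hR : IsPGroup p R)
    (hnc : ¬ IsCyclic R) (s : ℕ) (hs : 2 ≤ s) (hcard : Nat.card R = p ^ (s + 1)) :
    p ∣ Nat.card {M : Subgroup R // M.index = p ∧ IsCyclic M} := by
  classical
  haveI := Fintype.ofFinite R
  haveI := Fintype.ofFinite (Subgroup R)
  have hp : p.Prime := hpf.out
  set E := univ.filter (fun x : R => orderOf x = p ^ s) with hE
  set C := univ.filter (fun M : Subgroup R => M.index = p ∧ IsCyclic M) with hC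
  have hE1 : Nat.card {x : R // orderOf x = p ^ s} = E.card := Nat.subtype_card _ (by simp [E])
  have hC1 : Nat.card {M : Subgroup R // M.index = p ∧ IsCyclic M} = C.card :=
    Nat.subtype_card _ (by simp [C])
  have hmaps : ∀ x ∈ E, (zpowers x : Subgroup R) ∈ C := by
    intro x hx
    have hxo : orderOf x = p ^ s := (Finset.mem_filter.1 hx).2
    refine Finset.mem_filter.2 ⟨Finset.mem_univ _, ?_, inferInstance⟩
    rw [card_subgroups_index _ hp hcard, Nat.card_zpowers, hxo]
  have hfib : E.card = ∑ M ∈ C, (E.filter (fun x => (zpowers x : Subgroup R) = M)).card :=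
    Finset.card_eq_sum_card_fiberwise hmaps
  have hfib2 : ∀ M ∈ C, (E.filter (fun x => (zpowers x : Subgroup R) = M)).card = (p ^ s).totient := by
    intro M hM
    obtain ⟨hMi, hMc⟩ := (Finset.mem_filter.1 hM).2
    obtain ⟨⟨u, huM⟩, hu⟩ := hMc.exists_generator
    have hMz : M = zpowers u := by
      apply le_antisymm
      · intro y hy
        obtain ⟨i, hi⟩ := mem_zpowers_iff.1 (hu ⟨y, hy⟩)
        have := congrArg Subtype.val hi
        exact mem_zpowers_iff.2 ⟨i, by simpa using this⟩
      · rw [zpowers_le]; exact huM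
    have hMcard : Nat.card M = p ^ s := (card_subgroups_index M hp hcard).1 hMi
    have huo : orderOf u = p ^ s := by
      rw [← Nat.card_zpowers, ← hMz, hMcard]
    rw [hMz]
    exact Cfsg.Agent.Lib.PGroups.card_generators huo
  have h1 : p ^ s ∣ E.card := by
    rw [← hE1]
    exact Cfsg.Agent.Lib.PGroups.miller hp2 hR hnc hs
  rw [hfib, Finset.sum_congr rfl hfib2, Finset.sum_const, smul_eq_mul,
    Nat.totient_prime_pow hp (by omega)] at h1
  rw [hC1]
  obtain ⟨t, rfl⟩ : ∃ t, s = t + 1 := ⟨s - 1, by omega⟩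
  simp only [Nat.add_sub_cancel] at h1
  have h2 : p ^ t * p ∣ p ^ t * (C.card * (p - 1)) := by
    have e : p ^ t * (C.card * (p - 1)) = C.card * (p ^ t * (p - 1)) := by ring
    rw [e, ← pow_succ]
    exact h1
  have h3 : p ∣ C.card * (p - 1) := Nat.dvd_of_mul_dvd_mul_left (pow_pos hp.pos t) h2
  rcases (Nat.Prime.dvd_mul hp).1 h3 with h | h
  · exact h
  · exfalso
    have := Nat.le_of_dvd (by have := hp.two_le; omega) h
    have := hp.two_le
    omega

/-- Kulakoff's theorem. -/
theorem kulakoff_aux (hp2 : p ≠ 2) (k : ℕ) (hk : 1 ≤ k) :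
    ∀ (n : ℕ) (R : Type u) [Group R] [Finite R], Nat.card R = n → IsPGroup p R → ¬ IsCyclic R →
      p ^ k < n → Nat.card {H : Subgroup R // Nat.card H = p ^ k} ≡ 1 + p [MOD p ^ 2] := by
  intro n
  induction n using Nat.strong_induction_on with
  | _ n IH =>
  intro R _ _ hn hR hnc hkn
  classical
  haveI := Fintype.ofFinite (Subgroup R)
  have hp : p.Prime := hpf.out
  obtain ⟨m, hm⟩ := IsPGroup.iff_card.1 hR
  have hkm : k < m := by
    rw [← hn, hm] at hkn
    exact (Nat.pow_lt_pow_iff_right hp.one_lt).1 hkn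
  obtain ⟨m', rfl⟩ : ∃ m', m = m' + 1 := ⟨m - 1, by omega⟩
  have hbot : (⊥ : Subgroup R) ≠ ⊤ := by
    intro h
    have h2 := Subgroup.card_top (G := R)
    rw [← h, Subgroup.card_bot, hm] at h2
    have := Nat.one_lt_pow (by omega : m' + 1 ≠ 0) hp.one_lt
    omega
  -- number of maximal subgroups
  have hmax : Nat.card {M : Subgroup R // M.index = p ∧ (⊥ : Subgroup R) ≤ M} ≡ 1 + p [MOD p ^ 2] := by
    rcases card_max_over_mod hR ⊥ hbot with h | h
    · exact absurd (isCyclic_of_card_max_eq_one hR h) hnc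
    · exact h
  rcases Nat.lt_or_ge (k + 1) (m' + 1) with hcase | hcase
  swap
  · -- `k = m'`
    have hkm' : k = m' := by omega
    subst hkm'
    have e : Nat.card {H : Subgroup R // Nat.card H = p ^ k} =
        Nat.card {M : Subgroup R // M.index = p ∧ (⊥ : Subgroup R) ≤ M} := by
      apply Nat.card_congr
      apply Equiv.subtypeEquivRight
      intro H
      rw [← card_subgroups_index H hp hm]
      simp
    rw [e]
    exact hmax
  -- the general case
  set S := univ.filter (fun H : Subgroup R => Nat.card H = p ^ k) with hS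
  set 𝓜 := univ.filter (fun M : Subgroup R => M.index = p) with h𝓜
  have hScard : Nat.card {H : Subgroup R // Nat.card H = p ^ k} = S.card :=
    Nat.subtype_card _ (by simp [S])
  have h𝓜card : Nat.card {M : Subgroup R // M.index = p ∧ (⊥ : Subgroup R) ≤ M} = 𝓜.card :=
    Nat.subtype_card _ (by simp [𝓜])
  rw [hScard]
  rw [h𝓜card] at hmax
  -- cardinalities
  have hcardM : ∀ M ∈ 𝓜, Nat.card M = p ^ m' := fun M hM =>
    (card_subgroups_index M hp hm).1 (Finset.mem_filter.1 hM).2
  let c : Subgroup R → ℕ := fun M => (S.filter (fun H => H ≤ M)).card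
  let h : Subgroup R → ℕ := fun H => (𝓜.filter (fun M => H ≤ M)).card
  have hswap : ∑ M ∈ 𝓜, c M = ∑ H ∈ S, h H :=
    Finset.sum_card_bipartiteAbove_eq_sum_card_bipartiteBelow (s := 𝓜) (t := S) (fun M H => H ≤ M)
  have hcsub : ∀ M, c M = Nat.card {H : Subgroup ↥M // Nat.card H = p ^ k} := by
    intro M
    rw [Nat.card_congr (subEquiv M (p ^ k))]
    symm
    apply Nat.subtype_card
    intro H
    simp [S, and_comm]
  have hcmod : ∀ M ∈ 𝓜, (IsCyclic M ∧ c M = 1) ∨ (¬ IsCyclic M ∧ c M ≡ 1 + p [MOD p ^ 2]) := by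
    intro M hM
    have hcM := hcardM M hM
    by_cases hcyc : IsCyclic M
    · left
      refine ⟨hcyc, ?_⟩
      rw [hcsub]
      apply card_cyclic_subgroups
      rw [hcM]
      exact pow_dvd_pow p (by omega)
    · right
      refine ⟨hcyc, ?_⟩
      rw [hcsub]
      have hlt : p ^ m' < n := by
        rw [← hn, hm]
        exact Nat.pow_lt_pow_right hp.one_lt (by omega)
      refine IH (p ^ m') hlt M hcM (hR.to_subgroup M) hcyc ?_
      exact Nat.pow_lt_pow_right hp.one_lt (by omega)
  have hhmod : ∀ H ∈ S, h H = 1 ∨ h H ≡ 1 + p [MOD p ^ 2] := by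
    intro H hH
    have hHc : Nat.card H = p ^ k := (Finset.mem_filter.1 hH).2
    have hne : H ≠ ⊤ := by
      rintro rfl
      rw [Subgroup.card_top, hm] at hHc
      have := (Nat.pow_right_injective hp.two_le) hHc
      omega
    have e : Nat.card {M : Subgroup R // M.index = p ∧ H ≤ M} = h H := by
      apply Nat.subtype_card
      intro M
      simp [𝓜]
    rw [← e]
    exact card_max_over_mod hR H hne
  -- `p` divides the number of cyclic maximal subgroups
  set 𝓒 := 𝓜.filter (fun M : Subgroup R => IsCyclic ↥M) with h𝓒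
  set 𝓝 := 𝓜.filter (fun M : Subgroup R => ¬ IsCyclic ↥M) with h𝓝
  have h𝓒dvd : p ∣ 𝓒.card := by
    have h1 := dvd_card_cyclic_max hp2 hR hnc m' (by omega) hm
    have e : Nat.card {M : Subgroup R // M.index = p ∧ IsCyclic M} = 𝓒.card := by
      apply Nat.subtype_card
      intro M
      simp [𝓒, 𝓜]
    rwa [e] at h1
  -- subgroups in a unique maximal subgroup
  set 𝓐 := S.filter (fun H => h H = 1) with h𝓐
  set 𝓑 := S.filter (fun H => ¬ h H = 1) with h𝓑
  have hABcard : 𝓐.card + 𝓑.card = S.card := Finset.card_filter_add_card_filter_not _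
  have hAdvd : p ∣ 𝓐.card := by
    have hswap2 := Finset.sum_card_bipartiteAbove_eq_sum_card_bipartiteBelow
      (s := 𝓜) (t := 𝓐) (fun M H => H ≤ M)
    have e1 : ∑ H ∈ 𝓐, (𝓜.bipartiteBelow (fun M H => H ≤ M) H).card = 𝓐.card := by
      rw [Finset.card_eq_sum_ones]
      apply Finset.sum_congr rfl
      intro H hH
      exact (Finset.mem_filter.1 hH).2
    rw [← e1, ← hswap2]
    apply Finset.dvd_sum
    intro M hM
    have hMi : M.index = p := (Finset.mem_filter.1 hM).2
    have hkM : p ^ (k + 1) ∣ Nat.card M := by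
      rw [hcardM M hM]
      exact pow_dvd_pow p (by omega)
    have h1 := card_unique_max_dvd hR hnc k M hMi hkM
    have e2 : Nat.card {H : Subgroup R // Nat.card H = p ^ k ∧ H ≤ M ∧
        Nat.card {N : Subgroup R // N.index = p ∧ H ≤ N} = 1} =
        (𝓐.bipartiteAbove (fun M H => H ≤ M) M).card := by
      apply Nat.subtype_card
      intro H
      have e3 : Nat.card {N : Subgroup R // N.index = p ∧ H ≤ N} = h H := by
        apply Nat.subtype_card
        intro N
        simp [𝓜]
      rw [e3]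
      simp only [Finset.bipartiteAbove, 𝓐, S, Finset.mem_filter, Finset.mem_univ, true_and]
      tauto
    rwa [e2] at h1
  have hSmod : S.card ≡ 1 [MOD p] := by
    have h1 := card_subgroups_modEq (G := R) hp (β := k) (by
      rw [hm]; exact pow_dvd_pow p (by omega))
    rwa [hScard] at h1
  have hBmod : 𝓑.card ≡ 1 [MOD p] := by
    rw [← hABcard] at hSmod
    have h2 : 𝓐.card ≡ 0 [MOD p] := Nat.modEq_zero_iff_dvd.2 hAdvd
    have h3 : 𝓐.card + 𝓑.card ≡ 0 + 𝓑.card [MOD p] := h2.add_right _
    rw [zero_add] at h3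
    exact h3.symm.trans hSmod
  -- computing in `ZMod (p ^ 2)`
  have cast : ∀ a b : ℕ, a ≡ b [MOD p ^ 2] → (a : ZMod (p ^ 2)) = b := fun a b hab =>
    (ZMod.natCast_eq_natCast_iff _ _ _).2 hab
  have hpsq : (p : ZMod (p ^ 2)) * p = 0 := by
    have := ZMod.natCast_self (p ^ 2)
    push_cast at this
    rw [← pow_two]
    exact this
  have hsumL : ((∑ M ∈ 𝓜, c M : ℕ) : ZMod (p ^ 2)) = 𝓒.card + 𝓝.card * (1 + p) := by
    rw [← Finset.sum_filter_add_sum_filter_not 𝓜 (fun M : Subgroup R => IsCyclic ↥M), Nat.cast_add, Nat.cast_sum,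
      Nat.cast_sum]
    congr 1
    · rw [Finset.sum_congr rfl (g := fun _ => (1 : ZMod (p ^ 2))), Finset.sum_const, nsmul_eq_mul, mul_one]
      intro M hM
      obtain ⟨hM1, hM2⟩ := Finset.mem_filter.1 hM
      rcases hcmod M hM1 with ⟨-, h3⟩ | ⟨h3, -⟩
      · rw [h3, Nat.cast_one]
      · exact absurd hM2 h3
    · rw [Finset.sum_congr rfl (g := fun _ => (1 + p : ZMod (p ^ 2))), Finset.sum_const, nsmul_eq_mul]
      intro M hM
      obtain ⟨hM1, hM2⟩ := Finset.mem_filter.1 hM
      rcases hcmod M hM1 with ⟨h3, -⟩ | ⟨-, h3⟩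
      · exact absurd h3 hM2
      · have := cast _ _ h3
        push_cast at this
        exact this
  have hsumR : ((∑ H ∈ S, h H : ℕ) : ZMod (p ^ 2)) = 𝓐.card + 𝓑.card * (1 + p) := by
    rw [← Finset.sum_filter_add_sum_filter_not S (fun H => h H = 1), Nat.cast_add, Nat.cast_sum,
      Nat.cast_sum]
    congr 1
    · rw [Finset.sum_congr rfl (g := fun _ => (1 : ZMod (p ^ 2))), Finset.sum_const, nsmul_eq_mul, mul_one]
      intro H hH
      rw [(Finset.mem_filter.1 hH).2, Nat.cast_one]
    · rw [Finset.sum_congr rfl (g := fun _ => (1 + p : ZMod (p ^ 2))), Finset.sum_const, nsmul_eq_mul]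
      intro H hH
      obtain ⟨hH1, hH2⟩ := Finset.mem_filter.1 hH
      rcases hhmod H hH1 with h3 | h3
      · exact absurd h3 hH2
      · have := cast _ _ h3
        push_cast at this
        exact this
  have h𝓜split : (𝓒.card : ZMod (p ^ 2)) + 𝓝.card = 1 + p := by
    have h1 : 𝓒.card + 𝓝.card = 𝓜.card := Finset.card_filter_add_card_filter_not _
    have := cast _ _ hmax
    rw [← h1] at this
    push_cast at this
    exact this
  have h𝓒p : (𝓒.card : ZMod (p ^ 2)) * p = 0 := by
    obtain ⟨t, ht⟩ := h𝓒dvd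
    rw [ht]
    push_cast
    calc (p : ZMod (p ^ 2)) * t * p = t * (p * p) := by ring
      _ = 0 := by rw [hpsq, mul_zero]
  have h𝓑p : (𝓑.card : ZMod (p ^ 2)) * p = p := by
    have h1 : 𝓑.card * p ≡ 1 * p [MOD p ^ 2] := by
      have := Nat.ModEq.mul_right' p hBmod
      rwa [← pow_two] at this
    have := cast _ _ h1
    push_cast at this
    rwa [one_mul] at this
  have hfinal : ((S.card : ℕ) : ZMod (p ^ 2)) = 1 + p := by
    have h0 := congrArg (Nat.cast : ℕ → ZMod (p ^ 2)) hswap
    rw [hsumL, hsumR] at h0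
    have hSc : ((S.card : ℕ) : ZMod (p ^ 2)) = 𝓐.card + 𝓑.card := by
      rw [← hABcard]; push_cast; rfl
    have h2 : (𝓒.card : ZMod (p ^ 2)) + 𝓝.card * (1 + p) =
        ((𝓒.card : ZMod (p ^ 2)) + 𝓝.card) * (1 + p) - 𝓒.card * p := by ring
    rw [h2, h𝓜split, h𝓒p] at h0
    have h3 : (𝓐.card : ZMod (p ^ 2)) + 𝓑.card * (1 + p) = 𝓐.card + 𝓑.card + 𝓑.card * p := by ring
    rw [h3, h𝓑p, ← hSc] at h0
    have h4 : ((S.card : ℕ) : ZMod (p ^ 2)) = (1 + (p : ZMod (p ^ 2))) * (1 + p) - 0 - p := by
      rw [h0]; ring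
    rw [h4]
    have : (1 + (p : ZMod (p ^ 2))) * (1 + p) - 0 - p = 1 + p + p * p := by ring
    rw [this, hpsq, add_zero]
  have : ((S.card : ℕ) : ZMod (p ^ 2)) = ((1 + p : ℕ) : ZMod (p ^ 2)) := by
    rw [hfinal]; push_cast; rfl
  exact (ZMod.natCast_eq_natCast_iff _ _ _).1 this

end Main

end Cfsg.Agent.Lib.Struct.Kulakoff
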