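import Mathlib
import Cfsg.Agent.Lib.Struct.Kulakoff
import Cfsg.Agent.Lib.Struct.Basic
import Cfsg.Agent.Lib.Struct.Eigen

/-!
# The number of subgroups of order `p ^ a` of a finite group modulo `p ^ 2`
-/

set_option autoImplicit false
set_option linter.unusedSectionVars false
set_option linter.style.haveILetI false

namespace Cfsg.Agent.Lib.Struct.Kulakoff

open Subgroup Finset MulAction
open scoped Pointwise
open Cfsg.Agent.Lib.PGroups (card_index_prime_modEq card_subgroups_modEq dvd_card_subtype_of_orbit)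

universe u

section Reduce

variable {G : Type*} [Group G] [Finite G] {p : ℕ} [hpf : Fact p.Prime]

/-- Conjugation action of a subgroup on the subgroups. -/
@[reducible] def actP (P : Subgroup G) : MulAction ↥P (Subgroup G) :=
  MulAction.compHom _ ((MulAut.conj : G →* MulAut G).comp P.subtype)

theorem actP_smul (P : Subgroup G) (a : ↥P) (H : Subgroup G) :
    (letI := actP P; a • H) = H.map (MulAut.conj (a : G)).toMonoidHom :=
  Cfsg.Agent.Lib.Struct.conj_smul_eq_map (a : G) H

theorem card_orbit_actP (P H : Subgroup G) :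
    Nat.card (letI := actP P; orbit ↥P H) = ((normalizer (H : Set G)).subgroupOf P).index := by
  letI := actP P
  rw [Nat.card_coe_set_eq, ← index_stabilizer]
  congr 1
  ext a
  rw [mem_stabilizer_iff, Subgroup.mem_subgroupOf, Subgroup.mem_normalizer_iff_map_conj_eq]
  exact iff_of_eq (by rw [actP_smul]; rfl)

theorem card_orbit_eq_one_iff (P H : Subgroup G) :
    Nat.card (letI := actP P; orbit ↥P H) = 1 ↔ P ≤ normalizer (H : Set G) := by
  rw [card_orbit_actP, Subgroup.index_eq_one, Subgroup.subgroupOf_eq_top]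

theorem card_orbit_pow (P H : Subgroup G) (hP : IsPGroup p P) :
    ∃ j, Nat.card (letI := actP P; orbit ↥P H) = p ^ j := by
  rw [card_orbit_actP]
  obtain ⟨j, hj⟩ := hP.index ((normalizer (H : Set G)).subgroupOf P)
  exact ⟨j, hj⟩

theorem card_act_smul (P : Subgroup G) (a : ↥P) (H : Subgroup G) :
    Nat.card ↥(letI := actP P; a • H) = Nat.card H := by
  rw [actP_smul]
  exact Subgroup.card_map_of_injective (MulAut.conj (a : G)).injective

/-- The number of `P`-invariant subgroups of given order inside a `P`-invariant subgroup. -/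
theorem fixed_count (P W : Subgroup G) (hP : IsPGroup p P)
    (hW : ∀ a ∈ P, ∀ w ∈ W, a * w * a⁻¹ ∈ W) (b : ℕ) (hb : p ^ b ∣ Nat.card W) :
    Nat.card {H : Subgroup G // Nat.card H = p ^ b ∧ H ≤ W ∧ P ≤ normalizer (H : Set G)} ≡ 1 [MOD p] := by
  classical
  haveI := Fintype.ofFinite (Subgroup G)
  have hp : p.Prime := hpf.out
  letI := actP P
  have h1 : p ∣ Nat.card {H : Subgroup G // Nat.card H = p ^ b ∧ H ≤ W ∧
      Nat.card (orbit ↥P H) ≠ 1} := by
    apply dvd_card_subtype_of_orbit (A := ↥P)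
    · rintro a H ⟨h1, h2, h3⟩
      refine ⟨by rw [card_act_smul]; exact h1, ?_, by rwa [orbit_smul]⟩
      rw [actP_smul]
      rintro _ ⟨x, hx, rfl⟩
      exact hW _ a.2 _ (h2 hx)
    · rintro H ⟨-, -, h3⟩
      obtain ⟨j, hj⟩ := card_orbit_pow P H hP
      rw [hj] at h3 ⊢
      exact dvd_pow_self p (by rintro rfl; exact h3 (pow_zero p))
  have h2 := card_subgroups_modEq hp hb
  rw [Nat.card_congr (subEquiv W (p ^ b))] at h2
  set S := univ.filter (fun H : Subgroup G => H ≤ W ∧ Nat.card H = p ^ b) with hS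
  have e0 : Nat.card {H : Subgroup G // H ≤ W ∧ Nat.card H = p ^ b} = S.card :=
    Nat.subtype_card _ (by simp [S])
  have e1 : Nat.card {H : Subgroup G // Nat.card H = p ^ b ∧ H ≤ W ∧ P ≤ normalizer (H : Set G)} =
      (S.filter (fun H : Subgroup G => P ≤ normalizer (H : Set G))).card := by
    apply Nat.subtype_card
    intro H
    simp only [S, Finset.mem_filter, Finset.mem_univ, true_and]
    tauto
  have e2 : Nat.card {H : Subgroup G // Nat.card H = p ^ b ∧ H ≤ W ∧ Nat.card (orbit ↥P H) ≠ 1} =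
      (S.filter (fun H : Subgroup G => ¬ P ≤ normalizer (H : Set G))).card := by
    apply Nat.subtype_card
    intro H
    simp only [S, Finset.mem_filter, Finset.mem_univ, true_and, ne_eq, card_orbit_eq_one_iff]
    tauto
  rw [e0] at h2
  rw [e1]
  rw [e2] at h1
  have hsplit := Finset.card_filter_add_card_filter_not (s := S) (fun H : Subgroup G => P ≤ normalizer (H : Set G))
  have h3 : (S.filter (fun H : Subgroup G => ¬ P ≤ normalizer (H : Set G))).card ≡ 0 [MOD p] :=
    Nat.modEq_zero_iff_dvd.2 h1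
  rw [← hsplit] at h2
  have h4 := (Nat.ModEq.add_left (S.filter (fun H : Subgroup G => P ≤ normalizer (H : Set G))).card h3).symm.trans h2
  simpa using h4

theorem le_sylow_of_normalizes (Q : Sylow p G) {H : Subgroup G} (hH : IsPGroup p H)
    (hQ : (Q : Subgroup G) ≤ normalizer (H : Set G)) : H ≤ Q := by
  have h := IsPGroup.to_sup_of_normal_right' Q.isPGroup' hH hQ
  have := Q.3 h le_sup_left
  rw [← this]
  exact le_sup_right

theorem eq_or_eq_of_relIndex {P M L : Subgroup G} (hM : M.relIndex P = p) (h1 : M ≤ L) (h2 : L ≤ P) :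
    L = M ∨ L = P := by
  have hp : p.Prime := hpf.out
  have h := Subgroup.relIndex_mul_relIndex M L P h1 h2
  rw [hM] at h
  rcases (Nat.Prime.eq_one_or_self_of_dvd hp _ ⟨_, h.symm⟩) with h3 | h3
  · left
    exact le_antisymm (Subgroup.relIndex_eq_one.1 h3) h1
  · right
    have h4 : L.relIndex P = 1 := by
      rw [h3] at h
      have := hp.pos
      nlinarith
    exact le_antisymm h2 (Subgroup.relIndex_eq_one.1 h4)

theorem card_mul_relIndex' {M P : Subgroup G} (h : M ≤ P) : Nat.card M * M.relIndex P = Nat.card P := by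
  have := (M.subgroupOf P).card_mul_index
  rwa [Nat.card_congr (Subgroup.subgroupOfEquivOfLe h).toEquiv] at this

/-- A subgroup of index `p` of a `p`-group is normalized by it. -/
theorem le_normalizer_of_relIndex {M Q : Subgroup G} (hQ : IsPGroup p Q) (hMQ : M ≤ Q)
    (hM : M.relIndex Q = p) : Q ≤ normalizer (M : Set G) := by
  have hp : p.Prime := hpf.out
  have hi : (M.subgroupOf Q).index = p := hM
  have hco : IsCoatom (M.subgroupOf Q) :=
    Cfsg.Agent.Lib.Transfer.isCoatom_of_index_prime (by rw [hi]; exact hp)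
  obtain ⟨hn, -⟩ := Cfsg.Agent.Lib.Transfer.normal_and_index_of_isCoatom hQ hco
  intro x hx
  apply Cfsg.Agent.Lib.Struct.Eigen.mem_normalizer_of_conj_mem
  intro m hm
  have h1 : (⟨m, hMQ hm⟩ : Q) ∈ M.subgroupOf Q := hm
  have h2 := hn.conj_mem _ h1 ⟨x, hx⟩
  exact h2

theorem exists_conj_in (P Q : Sylow p G) {Y : Subgroup G} (hP : (P : Subgroup G) ≤ Y)
    (hQ : (Q : Subgroup G) ≤ Y) :
    ∃ y ∈ Y, (Q : Subgroup G) = (P : Subgroup G).map (MulAut.conj y).toMonoidHom := by
  obtain ⟨y, hy⟩ := MulAction.exists_smul_eq Y (P.subtype hP) (Q.subtype hQ)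
  refine ⟨y, y.2, ?_⟩
  rw [Sylow.smul_subtype] at hy
  have h2 : (y : G) • P = Q := Sylow.subtype_injective hy
  rw [← h2, Sylow.coe_subgroup_smul, Cfsg.Agent.Lib.Struct.conj_smul_eq_map]

/-- The set of `H`. -/
theorem map_Aprop {M Q₁ Q₂ H : Subgroup G} {n : ℕ} (y : G)
    (hM : M.map (MulAut.conj y).toMonoidHom = M) (hQ : Q₂ = Q₁.map (MulAut.conj y).toMonoidHom)
    (h : Nat.card H = n ∧ H ≤ Q₁ ∧ Q₁ ≤ normalizer (H : Set G) ∧ ¬ H ≤ M) :
    Nat.card ↥(H.map (MulAut.conj y).toMonoidHom) = n ∧ H.map (MulAut.conj y).toMonoidHom ≤ Q₂ ∧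
      Q₂ ≤ normalizer ((H.map (MulAut.conj y).toMonoidHom : Subgroup G) : Set G) ∧
      ¬ H.map (MulAut.conj y).toMonoidHom ≤ M := by
  obtain ⟨h1, h2, h3, h4⟩ := h
  have hinj : Function.Injective (MulAut.conj y).toMonoidHom := (MulAut.conj y).injective
  refine ⟨by rw [Subgroup.card_map_of_injective hinj]; exact h1, ?_, ?_, ?_⟩
  · rw [hQ]; exact Subgroup.map_mono h2
  · rw [hQ]
    exact (Subgroup.map_mono h3).trans (Subgroup.le_normalizer_map _)
  · intro h5
    have h6 : H.map (MulAut.conj y).toMonoidHom ≤ M.map (MulAut.conj y).toMonoidHom := by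
      rw [hM]; exact h5
    exact h4 ((Subgroup.map_le_map_iff_of_injective hinj).1 h6)

theorem map_conj_inv_map (y : G) (H : Subgroup G) :
    (H.map (MulAut.conj y).toMonoidHom).map (MulAut.conj y⁻¹).toMonoidHom = H := by
  ext x
  rw [Cfsg.Agent.Lib.Struct.mem_map_conj, Cfsg.Agent.Lib.Struct.mem_map_conj]
  simp [mul_assoc]

theorem map_inv_conj_map (y : G) (H : Subgroup G) :
    (H.map (MulAut.conj y⁻¹).toMonoidHom).map (MulAut.conj y).toMonoidHom = H := by
  have := map_conj_inv_map y⁻¹ H
  rwa [inv_inv] at this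

theorem core_dvd (P : Sylow p G) (M : Subgroup G) (hMP : M ≤ P) (hM : M.relIndex P = p) (a : ℕ)
    (ha : p ^ a ∣ Nat.card M) :
    p ^ 2 ∣ Nat.card {H : Subgroup G // Nat.card H = p ^ a ∧ ¬ H ≤ P ∧
      (P : Subgroup G) ⊓ normalizer (H : Set G) = M} := by
  classical
  haveI := Fintype.ofFinite (Subgroup G)
  haveI := Fintype.ofFinite (Sylow p G)
  have hp : p.Prime := hpf.out
  have hMN : (P : Subgroup G) ≤ normalizer (M : Set G) :=
    le_normalizer_of_relIndex P.isPGroup' hMP hM
  have hMp : IsPGroup p M := P.isPGroup'.to_le hMP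
  have hcardP : Nat.card M * p = Nat.card P := by
    have := card_mul_relIndex' hMP
    rwa [hM] at this
  have hcardQ : ∀ Q : Sylow p G, Nat.card (Q : Subgroup G) = Nat.card (P : Subgroup G) := by
    intro Q
    rw [Sylow.card_eq_multiplicity, Sylow.card_eq_multiplicity]
  set Ps : Finset (Sylow p G) :=
    univ.filter (fun Q : Sylow p G => Q ≠ P ∧ (Q : Subgroup G) ≤ normalizer (M : Set G)) with hPs
  let Apr : Subgroup G → Subgroup G → Prop := fun Q H =>
    Nat.card H = p ^ a ∧ H ≤ Q ∧ Q ≤ normalizer (H : Set G) ∧ ¬ H ≤ M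
  let A : Subgroup G → Finset (Subgroup G) := fun Q => univ.filter (fun H => Apr Q H)
  set X : Finset (Subgroup G) := univ.filter (fun H : Subgroup G => Nat.card H = p ^ a ∧ ¬ H ≤ P ∧
      (P : Subgroup G) ⊓ normalizer (H : Set G) = M) with hX
  have hXcard : Nat.card {H : Subgroup G // Nat.card H = p ^ a ∧ ¬ H ≤ P ∧
      (P : Subgroup G) ⊓ normalizer (H : Set G) = M} = X.card :=
    Nat.subtype_card _ (by simp [X])
  rw [hXcard]
  -- `M` lies in each relevant Sylow subgroup
  have hMQ : ∀ Q ∈ Ps, M ≤ Q := fun Q hQ =>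
    le_sylow_of_normalizes Q hMp (Finset.mem_filter.1 hQ).2.2
  -- a `p`-subgroup properly containing `M` is a Sylow subgroup
  have hbig : ∀ (K : Subgroup G), IsPGroup p K → M < K → Nat.card M * p ≤ Nat.card K := by
    intro K hK hlt
    have h1 := card_mul_relIndex' hlt.le
    obtain ⟨j, hj⟩ := hK.index (M.subgroupOf K)
    have hj' : M.relIndex K = p ^ j := hj
    rw [hj'] at h1
    have hj0 : j ≠ 0 := by
      rintro rfl
      rw [pow_zero, mul_one] at h1
      exact hlt.ne (Subgroup.eq_of_le_of_card_ge hlt.le h1.symm.le)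
    rw [← h1]
    exact Nat.mul_le_mul_left _ (Nat.le_self_pow hj0 p)
  have hswap := Finset.sum_card_bipartiteAbove_eq_sum_card_bipartiteBelow
    (s := Ps) (t := X) (fun (Q : Sylow p G) (H : Subgroup G) => H ≤ (Q : Subgroup G))
  -- each `H ∈ X` lies in a unique `Q`
  have ha1 : ∀ H ∈ X, (Ps.bipartiteBelow (fun (Q : Sylow p G) (H : Subgroup G) => H ≤ (Q : Subgroup G)) H).card = 1 := by
    intro H hH
    obtain ⟨hH1, hH2, hH3⟩ := (Finset.mem_filter.1 hH).2
    have hHp : IsPGroup p H := IsPGroup.of_card hH1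
    have hMNH : M ≤ normalizer (H : Set G) := by
      rw [← hH3]; exact inf_le_right
    have hK := IsPGroup.to_sup_of_normal_left' hHp hMp hMNH
    obtain ⟨Q, hQ⟩ := hK.exists_le_sylow
    have hHM : ¬ H ≤ M := fun h => hH2 (h.trans hMP)
    have hlt : M < H ⊔ M := lt_of_le_of_ne le_sup_right (fun h => hHM (by
      rw [h]; exact le_sup_left))
    have hcK := hbig _ hK hlt
    have hKQ : H ⊔ M = Q := Subgroup.eq_of_le_of_card_ge hQ (by
      rw [hcardQ Q, ← hcardP]; exact hcK)
    have hQP : Q ≠ P := by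
      rintro rfl
      exact hH2 (le_sup_left.trans hQ)
    have hrelQ : M.relIndex Q = p := by
      have h1 := card_mul_relIndex' (le_sup_right.trans hQ : M ≤ Q)
      rw [hcardQ Q, ← hcardP] at h1
      exact Nat.eq_of_mul_eq_mul_left Nat.card_pos h1
    have hQN : (Q : Subgroup G) ≤ normalizer (M : Set G) :=
      le_normalizer_of_relIndex Q.isPGroup' (le_sup_right.trans hQ) hrelQ
    rw [Finset.card_eq_one]
    refine ⟨Q, ?_⟩
    ext Q'
    simp only [Finset.bipartiteBelow, Finset.mem_filter, Finset.mem_singleton, Ps, Finset.mem_univ,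
      true_and]
    constructor
    · rintro ⟨⟨h1, h2⟩, h3⟩
      have hMQ' : M ≤ Q' := le_sylow_of_normalizes Q' hMp h2
      apply Sylow.ext
      have hle : (Q : Subgroup G) ≤ Q' := by rw [← hKQ]; exact sup_le h3 hMQ'
      exact (Subgroup.eq_of_le_of_card_ge hle (by rw [hcardQ Q, hcardQ Q'])).symm
    · rintro rfl
      exact ⟨⟨hQP, hQN⟩, le_sup_left.trans hQ⟩
  -- the fibres
  have hb1 : ∀ Q ∈ Ps, X.bipartiteAbove (fun (Q : Sylow p G) (H : Subgroup G) => H ≤ (Q : Subgroup G)) Q = A Q := by
    intro Q hQ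
    obtain ⟨hQP, hQN⟩ := (Finset.mem_filter.1 hQ).2
    have hMQ' := hMQ Q hQ
    have hrelQ : M.relIndex Q = p := by
      have h1 := card_mul_relIndex' hMQ'
      rw [hcardQ Q, ← hcardP] at h1
      exact Nat.eq_of_mul_eq_mul_left Nat.card_pos h1
    ext H
    simp only [Finset.bipartiteAbove, Finset.mem_filter, X, A, Apr, Finset.mem_univ, true_and]
    constructor
    · rintro ⟨⟨h1, h2, h3⟩, h4⟩
      have hHp : IsPGroup p H := IsPGroup.of_card h1
      have hMNH : M ≤ normalizer (H : Set G) := by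
        rw [← h3]; exact inf_le_right
      have hHM : ¬ H ≤ M := fun h => h2 (h.trans hMP)
      have hK := IsPGroup.to_sup_of_normal_left' hHp hMp hMNH
      have hlt : M < H ⊔ M := lt_of_le_of_ne le_sup_right (fun h => hHM (by
        rw [h]; exact le_sup_left))
      have hcK := hbig _ hK hlt
      have hKQ : H ⊔ M = Q := Subgroup.eq_of_le_of_card_ge (sup_le h4 hMQ') (by
        rw [hcardQ Q, ← hcardP]; exact hcK)
      refine ⟨h1, h4, ?_, hHM⟩
      rw [← hKQ]
      exact sup_le Subgroup.le_normalizer hMNH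
    · rintro ⟨h1, h2, h3, h4⟩
      have hHP : ¬ H ≤ P := by
        intro h5
        rcases eq_or_eq_of_relIndex hM (le_inf hMP hMQ') (inf_le_left : (P : Subgroup G) ⊓ Q ≤ P) with h6 | h6
        · exact h4 (by rw [← h6]; exact le_inf h5 h2)
        · apply hQP
          have hPQ : (P : Subgroup G) ≤ Q := by
            rw [← h6]; exact inf_le_right
          apply Sylow.ext
          exact (Subgroup.eq_of_le_of_card_ge hPQ (by rw [hcardQ Q])).symm
      refine ⟨⟨h1, hHP, ?_⟩, h2⟩
      have hle : M ≤ (P : Subgroup G) ⊓ normalizer (H : Set G) := le_inf hMP (hMQ'.trans h3)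
      rcases eq_or_eq_of_relIndex hM hle inf_le_left with h6 | h6
      · exact h6
      · exfalso
        have h7 : (P : Subgroup G) ≤ normalizer (H : Set G) := by
          rw [← h6]; exact inf_le_right
        exact hHP (le_sylow_of_normalizes P (IsPGroup.of_card h1) h7)
  -- all fibres have the same size
  have hc1 : ∀ Q ∈ Ps, (A Q).card = (A P).card := by
    intro Q hQ
    obtain ⟨hQP, hQN⟩ := (Finset.mem_filter.1 hQ).2
    obtain ⟨y, hyY, hyQ⟩ := exists_conj_in P Q hMN hQN
    have hyM : M.map (MulAut.conj y).toMonoidHom = M := (Subgroup.mem_normalizer_iff_map_conj_eq).1 hyY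
    have hyM' : M.map (MulAut.conj y⁻¹).toMonoidHom = M :=
      (Subgroup.mem_normalizer_iff_map_conj_eq).1 (Subgroup.inv_mem _ hyY)
    have hyQ' : (P : Subgroup G) = (Q : Subgroup G).map (MulAut.conj y⁻¹).toMonoidHom := by
      rw [hyQ, map_conj_inv_map]
    symm
    apply Finset.card_bij (fun H _ => H.map (MulAut.conj y).toMonoidHom)
    · intro H hH
      exact Finset.mem_filter.2 ⟨Finset.mem_univ _,
        map_Aprop y hyM hyQ (Finset.mem_filter.1 hH).2⟩
    · intro H₁ _ H₂ _ h
      exact Subgroup.map_injective (MulAut.conj y).injective h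
    · intro H hH
      refine ⟨H.map (MulAut.conj y⁻¹).toMonoidHom, Finset.mem_filter.2 ⟨Finset.mem_univ _,
        map_Aprop y⁻¹ hyM' hyQ' (Finset.mem_filter.1 hH).2⟩, ?_⟩
      exact map_inv_conj_map y H
  -- divisibility
  have hd : p ∣ (A P).card := by
    have hM' : ∀ b ∈ (P : Subgroup G), ∀ w ∈ M, b * w * b⁻¹ ∈ M := fun b hb w hw =>
      (Subgroup.mem_normalizer_iff.1 (hMN hb) w).1 hw
    have hP' : ∀ b ∈ (P : Subgroup G), ∀ w ∈ (P : Subgroup G), b * w * b⁻¹ ∈ (P : Subgroup G) :=
      fun b hb w hw => (P : Subgroup G).mul_mem ((P : Subgroup G).mul_mem hb hw) ((P : Subgroup G).inv_mem hb)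
    have h1 := fixed_count (P : Subgroup G) M P.isPGroup' hM' a ha
    have h2 := fixed_count (P : Subgroup G) (P : Subgroup G) P.isPGroup' hP' a (by
      rw [← hcardP]; exact ha.trans (Nat.dvd_mul_right _ _))
    set F : Finset (Subgroup G) := univ.filter (fun H : Subgroup G => Nat.card H = p ^ a ∧
      H ≤ P ∧ (P : Subgroup G) ≤ normalizer (H : Set G)) with hF
    have e1 : Nat.card {H : Subgroup G // Nat.card H = p ^ a ∧ H ≤ (P : Subgroup G) ∧
        (P : Subgroup G) ≤ normalizer (H : Set G)} = F.card := Nat.subtype_card _ (by simp [F])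
    have e2 : Nat.card {H : Subgroup G // Nat.card H = p ^ a ∧ H ≤ M ∧
        (P : Subgroup G) ≤ normalizer (H : Set G)} = (F.filter (fun H => H ≤ M)).card := by
      apply Nat.subtype_card
      intro H
      simp only [F, Finset.mem_filter, Finset.mem_univ, true_and]
      constructor
      · rintro ⟨⟨h3, -, h4⟩, h5⟩
        exact ⟨h3, h5, h4⟩
      · rintro ⟨h3, h5, h4⟩
        exact ⟨⟨h3, h5.trans hMP, h4⟩, h5⟩
    have e3 : (A P).card = (F.filter (fun H => ¬ H ≤ M)).card := by
      congr 1
      ext H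
      simp only [A, Apr, F, Finset.mem_filter, Finset.mem_univ, true_and]
      tauto
    rw [e1] at h2
    rw [e2] at h1
    rw [e3]
    have hsplit := Finset.card_filter_add_card_filter_not (s := F) (fun H => H ≤ M)
    have h4 : (F.filter (fun H => H ≤ M)).card + (F.filter (fun H => ¬ H ≤ M)).card ≡
        1 + 0 [MOD p] := by
      rw [hsplit]
      exact h2
    have h5 := (Nat.ModEq.add_right _ h1).symm.trans h4
    have h6 := Nat.ModEq.add_left_cancel' 1 h5
    exact Nat.modEq_zero_iff_dvd.1 h6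
  have he : p ∣ Ps.card := by
    letI : MulAction ↥(P : Subgroup G) (Sylow p G) := inferInstance
    have h1 : p ∣ Nat.card {Q : Sylow p G // Q ≠ P ∧ (Q : Subgroup G) ≤ normalizer (M : Set G)} := by
      apply dvd_card_subtype_of_orbit (A := ↥(P : Subgroup G))
      · rintro b Q ⟨h1, h2⟩
        constructor
        · intro h3
          apply h1
          have h4 : (b : G) • Q = P := h3
          rw [← h4]
          have h5 : (b : G)⁻¹ • P = P := Sylow.smul_eq_iff_mem_normalizer.2
            (Subgroup.inv_mem _ (Subgroup.le_normalizer b.2))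
          calc Q = (b : G)⁻¹ • ((b : G) • Q) := by rw [inv_smul_smul]
            _ = (b : G)⁻¹ • P := by rw [h4]
            _ = P := h5
            _ = (b : G) • Q := h4.symm
        · have h4 : ((b • Q : Sylow p G) : Subgroup G) = MulAut.conj (b : G) • (Q : Subgroup G) :=
            Sylow.coe_subgroup_smul
          rw [h4, Cfsg.Agent.Lib.Struct.conj_smul_eq_map]
          rintro _ ⟨x, hx, rfl⟩
          exact Subgroup.mul_mem _ (Subgroup.mul_mem _ (hMN b.2) (h2 hx)) (Subgroup.inv_mem _ (hMN b.2))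
      · rintro Q ⟨h1, h2⟩
        rw [Nat.card_coe_set_eq, ← index_stabilizer]
        obtain ⟨j, hj⟩ := (P.isPGroup').index (stabilizer ↥(P : Subgroup G) Q)
        rw [hj]
        apply dvd_pow_self
        rintro rfl
        rw [pow_zero, Subgroup.index_eq_one] at hj
        apply h1
        have hPN : (P : Subgroup G) ≤ normalizer ((Q : Subgroup G) : Set G) := by
          intro b hb
          have h3 : (⟨b, hb⟩ : ↥(P : Subgroup G)) ∈ stabilizer ↥(P : Subgroup G) Q := by
            rw [hj]; exact Subgroup.mem_top _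
          have h4 : b • Q = Q := h3
          exact Sylow.smul_eq_iff_mem_normalizer.1 h4
        have hle := le_sylow_of_normalizes P Q.isPGroup' hPN
        apply Sylow.ext
        exact Subgroup.eq_of_le_of_card_ge hle (by rw [hcardQ Q])
    have e : Nat.card {Q : Sylow p G // Q ≠ P ∧ (Q : Subgroup G) ≤ normalizer (M : Set G)} = Ps.card :=
      Nat.subtype_card _ (by simp [Ps])
    rwa [e] at h1
  have htotal : X.card = Ps.card * (A P).card := by
    have e1 : ∑ H ∈ X, (Ps.bipartiteBelow (fun (Q : Sylow p G) (H : Subgroup G) => H ≤ (Q : Subgroup G)) H).card = X.card := by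
      rw [Finset.card_eq_sum_ones]
      exact Finset.sum_congr rfl ha1
    have e2 : ∑ Q ∈ Ps, (X.bipartiteAbove (fun (Q : Sylow p G) (H : Subgroup G) => H ≤ (Q : Subgroup G)) Q).card =
        Ps.card * (A P).card := by
      rw [Finset.sum_congr rfl (fun Q hQ => by rw [hb1 Q hQ, hc1 Q hQ]), Finset.sum_const, smul_eq_mul]
    rw [← e1, ← hswap, e2]
  rw [htotal, pow_two]
  exact Nat.mul_dvd_mul he hd

/-- The number of subgroups of order `p ^ a` of `G` and of a Sylow `p`-subgroup agree modulo
`p ^ 2`, if `p ^ (a + 1)` divides the order of `G`. -/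
theorem card_subgroups_modEq_sylow (P : Sylow p G) (a : ℕ) (ha : p ^ (a + 1) ∣ Nat.card (P : Subgroup G)) :
    Nat.card {H : Subgroup G // Nat.card H = p ^ a} ≡
      Nat.card {H : Subgroup ↥(P : Subgroup G) // Nat.card H = p ^ a} [MOD p ^ 2] := by
  classical
  haveI := Fintype.ofFinite (Subgroup G)
  have hp : p.Prime := hpf.out
  letI := actP (P : Subgroup G)
  rw [Nat.card_congr (subEquiv (P : Subgroup G) (p ^ a))]
  set S := univ.filter (fun H : Subgroup G => Nat.card H = p ^ a) with hS
  have e0 : Nat.card {H : Subgroup G // Nat.card H = p ^ a} = S.card :=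
    Nat.subtype_card _ (by simp [S])
  have e1 : Nat.card {H : Subgroup G // H ≤ (P : Subgroup G) ∧ Nat.card H = p ^ a} =
      (S.filter (fun H : Subgroup G => H ≤ (P : Subgroup G))).card := by
    apply Nat.subtype_card
    intro H
    simp only [S, Finset.mem_filter, Finset.mem_univ, true_and]
    tauto
  rw [e0, e1]
  have hsplit := Finset.card_filter_add_card_filter_not (s := S)
    (fun H : Subgroup G => H ≤ (P : Subgroup G))
  set T := S.filter (fun H : Subgroup G => ¬ H ≤ (P : Subgroup G)) with hT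
  have hTdvd : p ^ 2 ∣ T.card := by
    have hsplit2 := Finset.card_filter_add_card_filter_not (s := T)
      (fun H : Subgroup G => Nat.card (orbit ↥(P : Subgroup G) H) = p)
    rw [← hsplit2]
    apply dvd_add
    · -- orbits of size `p`
      set 𝓜 := univ.filter (fun M : Subgroup G => M ≤ (P : Subgroup G) ∧ M.relIndex (P : Subgroup G) = p)
        with h𝓜
      have hmaps : ∀ H ∈ T.filter (fun H : Subgroup G => Nat.card (orbit ↥(P : Subgroup G) H) = p),
          (P : Subgroup G) ⊓ normalizer (H : Set G) ∈ 𝓜 := by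
        intro H hH
        have h1 := (Finset.mem_filter.1 hH).2
        rw [card_orbit_actP] at h1
        refine Finset.mem_filter.2 ⟨Finset.mem_univ _, inf_le_left, ?_⟩
        rw [Subgroup.inf_relIndex_left]
        exact h1
      rw [Finset.card_eq_sum_card_fiberwise hmaps]
      apply Finset.dvd_sum
      intro M hM
      obtain ⟨hM1, hM2⟩ := (Finset.mem_filter.1 hM).2
      have hMcard : Nat.card M * p = Nat.card (P : Subgroup G) := by
        have := card_mul_relIndex' hM1
        rwa [hM2] at this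
      have hdvd : p ^ a ∣ Nat.card M := by
        rw [← hMcard, pow_succ] at ha
        exact Nat.dvd_of_mul_dvd_mul_right hp.pos ha
      have h1 := core_dvd P M hM1 hM2 a hdvd
      have e : Nat.card {H : Subgroup G // Nat.card H = p ^ a ∧ ¬ H ≤ P ∧
          (P : Subgroup G) ⊓ normalizer (H : Set G) = M} =
          ((T.filter (fun H : Subgroup G => Nat.card (orbit ↥(P : Subgroup G) H) = p)).filter
            (fun H : Subgroup G => (P : Subgroup G) ⊓ normalizer (H : Set G) = M)).card := by
        apply Nat.subtype_card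
        intro H
        simp only [T, S, Finset.mem_filter, Finset.mem_univ, true_and]
        constructor
        · rintro ⟨⟨⟨h2, h3⟩, h4⟩, h5⟩
          exact ⟨h2, h3, h5⟩
        · rintro ⟨h2, h3, h5⟩
          refine ⟨⟨⟨h2, h3⟩, ?_⟩, h5⟩
          rw [card_orbit_actP]
          have : ((normalizer (H : Set G)).subgroupOf (P : Subgroup G)).index =
              (normalizer (H : Set G)).relIndex (P : Subgroup G) := rfl
          rw [this, ← Subgroup.inf_relIndex_left, h5, hM2]
      rwa [e] at h1
    · -- larger orbits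
      have h1 : p ^ 2 ∣ Nat.card {H : Subgroup G // Nat.card H = p ^ a ∧ ¬ H ≤ (P : Subgroup G) ∧
          Nat.card (orbit ↥(P : Subgroup G) H) ≠ p} := by
        apply dvd_card_subtype_of_orbit (A := ↥(P : Subgroup G))
        · rintro b H ⟨h1, h2, h3⟩
          refine ⟨by rw [card_act_smul]; exact h1, ?_, by rwa [orbit_smul]⟩
          intro h4
          apply h2
          have h5 : H.map (MulAut.conj (b : G)).toMonoidHom ≤ (P : Subgroup G) := by
            rw [← actP_smul]; exact h4
          intro x hx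
          have h6 : (b : G) * x * (b : G)⁻¹ ∈ (P : Subgroup G) := h5 ⟨x, hx, rfl⟩
          have e : x = (b : G)⁻¹ * ((b : G) * x * (b : G)⁻¹) * (b : G) := by group
          rw [e]
          exact (P : Subgroup G).mul_mem ((P : Subgroup G).mul_mem
            ((P : Subgroup G).inv_mem b.2) h6) b.2
        · rintro H ⟨h1, h2, h3⟩
          obtain ⟨j, hj⟩ := card_orbit_pow (P : Subgroup G) H P.isPGroup'
          rw [hj] at h3 ⊢
          have hj1 : j ≠ 0 := by
            rintro rfl
            rw [pow_zero, card_orbit_eq_one_iff] at hj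
            exact h2 (le_sylow_of_normalizes P (IsPGroup.of_card h1) hj)
          have hj2 : j ≠ 1 := by
            rintro rfl
            exact h3 (pow_one p)
          exact pow_dvd_pow p (by omega)
      have e : Nat.card {H : Subgroup G // Nat.card H = p ^ a ∧ ¬ H ≤ (P : Subgroup G) ∧
          Nat.card (orbit ↥(P : Subgroup G) H) ≠ p} =
          (T.filter (fun H : Subgroup G => ¬ Nat.card (orbit ↥(P : Subgroup G) H) = p)).card := by
        apply Nat.subtype_card
        intro H
        simp only [T, S, Finset.mem_filter, Finset.mem_univ, true_and, ne_eq]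
        tauto
      rwa [e] at h1
  rw [← hsplit]
  have h2 : T.card ≡ 0 [MOD p ^ 2] := Nat.modEq_zero_iff_dvd.2 hTdvd
  simpa using Nat.ModEq.add_left (S.filter (fun H : Subgroup G => H ≤ (P : Subgroup G))).card h2

end Reduce

/-- The main statement. -/
theorem main_count {G : Type u} [Group G] [Finite G] (p a : ℕ) (hp : p.Prime)
    (hdvd : p ^ (a + 1) ∣ Nat.card G) :
    Nat.card {H : Subgroup G // Nat.card H = p ^ a} ≡ 1 [MOD p ^ 2] ∨
      Nat.card {H : Subgroup G // Nat.card H = p ^ a} ≡ 1 + p [MOD p ^ 2] := by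
  haveI : Fact p.Prime := ⟨hp⟩
  by_cases hp2 : p = 2
  · subst hp2
    have h1 := card_subgroups_modEq (G := G) hp (β := a)
      (dvd_trans (pow_dvd_pow 2 (Nat.le_succ a)) hdvd)
    unfold Nat.ModEq at h1 ⊢
    omega
  obtain ⟨P⟩ : Nonempty (Sylow p G) := inferInstance
  have hdP : p ^ (a + 1) ∣ Nat.card (P : Subgroup G) := Sylow.pow_dvd_card_of_pow_dvd_card P hdvd
  have hred := card_subgroups_modEq_sylow P a hdP
  have hpos : 0 < Nat.card (P : Subgroup G) := Nat.card_pos
  by_cases hcyc : IsCyclic ↥(P : Subgroup G)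
  · left
    refine hred.trans ?_
    rw [card_cyclic_subgroups (dvd_trans (pow_dvd_pow p (Nat.le_succ a)) hdP)]
  by_cases ha : a = 0
  · left
    subst ha
    have : Nat.card {H : Subgroup G // Nat.card H = p ^ 0} = 1 := by
      rw [Nat.card_eq_one_iff_unique]
      refine ⟨⟨fun x y => Subtype.ext ?_⟩, ⟨⟨⊥, by simp⟩⟩⟩
      have hx : Nat.card ↥(x : Subgroup G) = 1 := x.2.trans (pow_zero p)
      have hy : Nat.card ↥(y : Subgroup G) = 1 := y.2.trans (pow_zero p)
      rw [(Subgroup.card_eq_one).1 hx, (Subgroup.card_eq_one).1 hy]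
    rw [this]
  · right
    refine hred.trans ?_
    have hlt : p ^ a < Nat.card (P : Subgroup G) := by
      have h1 := Nat.le_of_dvd hpos hdP
      have h2 : p ^ a < p ^ (a + 1) := Nat.pow_lt_pow_right hp.one_lt (Nat.lt_succ_self a)
      omega
    exact kulakoff_aux hp2 a (Nat.pos_of_ne_zero ha) _ _ rfl P.isPGroup' hcyc hlt

end Cfsg.Agent.Lib.Struct.Kulakoff
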