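import Mathlib
import Cfsg.Agent.Lib.Struct.Sec4b

/-!
# 2-groups of sectional rank at most four: the centralizer of the centre (continued)
-/

set_option autoImplicit false

namespace Cfsg.Agent.Lib.Struct

open Subgroup Cfsg
open scoped commutatorElement

variable {S : Type*} [Group S] [Finite S]

theorem comm_conj {g x b : S} (h : x * b = b * x) :
    (g * x * g⁻¹) * (g * b * g⁻¹) = (g * b * g⁻¹) * (g * x * g⁻¹) := by
  calc (g * x * g⁻¹) * (g * b * g⁻¹) = g * (x * b) * g⁻¹ := by group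
    _ = g * (b * x) * g⁻¹ := by rw [h]
    _ = _ := by group

theorem comm_of_conj {g x b : S} (h : (g * x * g⁻¹) * (g * b * g⁻¹) = (g * b * g⁻¹) * (g * x * g⁻¹)) :
    x * b = b * x := by
  have := comm_conj (g := g⁻¹) h
  simpa [mul_assoc] using this

theorem CData.conj {a : S} {P : Subgroup S} (hD : CData a P) (g : S) :
    CData (g * a * g⁻¹) (P.map (MulAut.conj g).toMonoidHom) := by
  refine ⟨?_, conj_mem_conj hD.mem, ?_, ?_, ?_⟩
  · intro h
    apply hD.ne
    have : a = g⁻¹ * (g * a * g⁻¹) * g := by group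
    rw [this, h]
    group
  · intro q hq
    rw [mem_conj] at hq
    have h1 := comm_conj (g := g) (hD.cen _ hq)
    have e : g * (g⁻¹ * q * g) * g⁻¹ = q := by group
    rwa [e] at h1
  · intro p hp hc
    rw [mem_conj] at hp
    have h1 := hD.uniq _ hp (fun q hq => by
      have h3 := hc _ (conj_mem_conj (g := g) hq)
      have e : g * (g⁻¹ * p * g) * g⁻¹ = p := by group
      exact comm_of_conj (g := g) (by rwa [e]))
    rcases h1 with h1 | h1
    · left
      have : p = g * (g⁻¹ * p * g) * g⁻¹ := by group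
      rw [this, h1]
      group
    · right
      have : p = g * (g⁻¹ * p * g) * g⁻¹ := by group
      rw [this, h1]
  · intro y hy x hx
    rw [mem_conj] at hx ⊢
    have h1 : (g⁻¹ * y * g) * a = a * (g⁻¹ * y * g) := comm_of_conj (g := g) (by
      have e : g * (g⁻¹ * y * g) * g⁻¹ = y := by group
      rwa [e])
    have h3 := hD.nor _ h1 _ hx
    have e : g⁻¹ * y * g * (g⁻¹ * x * g) * (g⁻¹ * y * g)⁻¹ = g⁻¹ * (y * x * y⁻¹) * g := by group
    rwa [e] at h3

theorem card_sqGen_conj_le (g : S) (D : Subgroup S) :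
    Nat.card (sqGen (D.map (MulAut.conj g).toMonoidHom)) ≤ Nat.card (sqGen D) := by
  have h1 : (sqGen (D.map (MulAut.conj g).toMonoidHom)).map (MulAut.conj g⁻¹).toMonoidHom ≤ sqGen D := by
    rintro _ ⟨x, hx, rfl⟩
    have h3 := sqGen_map_mem (D := D.map (MulAut.conj g).toMonoidHom) (E := D) (g := g⁻¹) (fun d hd => by
      rw [mem_conj] at hd
      simpa using hd) x hx
    simpa using h3
  have h3 := Subgroup.card_le_of_le h1
  rwa [card_conj] at h3

theorem card_sup_le_of_comm {A B : Subgroup S} (h : ∀ a ∈ A, ∀ b ∈ B, a * b = b * a) :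
    Nat.card ↥(A ⊔ B) ≤ Nat.card A * Nat.card B := by
  have h1 : B ≤ normalizer (A : Set S) := by
    rw [Subgroup.le_normalizer_iff]
    intro b hb a ha
    have : b * a * b⁻¹ = a := by
      rw [← h a ha b hb]
      group
    rwa [this]
  rw [← card_sup_mul_inf A B h1]
  exact Nat.le_mul_of_pos_right _ Nat.card_pos

theorem card_sup_eq_of_comm {A B : Subgroup S} (h : ∀ a ∈ A, ∀ b ∈ B, a * b = b * a) (hi : A ⊓ B = ⊥) :
    Nat.card ↥(A ⊔ B) = Nat.card A * Nat.card B := by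
  have h1 : B ≤ normalizer (A : Set S) := by
    rw [Subgroup.le_normalizer_iff]
    intro b hb a ha
    have : b * a * b⁻¹ = a := by
      rw [← h a ha b hb]
      group
    rwa [this]
  rw [← card_sup_mul_inf A B h1, hi, Subgroup.card_bot, mul_one]

theorem sqGen_sup_le {A B : Subgroup S} (h : ∀ a ∈ A, ∀ b ∈ B, a * b = b * a) :
    sqGen (A ⊔ B) ≤ sqGen A ⊔ sqGen B := by
  rw [sqGen, Subgroup.closure_le]
  rintro _ ⟨d, hd, rfl⟩
  obtain ⟨x, hx, y, hy, rfl⟩ := Cfsg.Agent.Lib.Components.exists_mul_of_mem_sup_of_commutes h hd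
  have e : (x * y) ^ 2 = x ^ 2 * y ^ 2 := by
    simp only [pow_two]
    calc x * y * (x * y) = x * (y * x) * y := by group
      _ = x * (x * y) * y := by rw [h x hx y hy]
      _ = _ := by group
  rw [e]
  exact Subgroup.mul_mem_sup (sq_mem_sqGen hx) (sq_mem_sqGen hy)

theorem sqGen_le_frattIn (h2 : IsPGroup 2 S) (P : Subgroup S) : sqGen P ≤ frattIn P := by
  rw [sqGen, Subgroup.closure_le]
  rintro _ ⟨d, hd, rfl⟩
  exact pow_two_mem_frattIn h2 hd

section F1

variable {a s g : S} {P : Subgroup S} {S₁ : Subgroup S}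

/-- Squeezing: conjugates of `a` by elements outside `S₁` lie outside `P ⊔ P^s`. -/
theorem CData.f1 (hD : CData a P) (h2 : IsPGroup 2 S)
    (hs1 : ∀ y, y * a = a * y → (s * y * s⁻¹) * a = a * (s * y * s⁻¹))
    (hs2 : ∀ y, y * a = a * y → (s⁻¹ * y * s) * a = a * (s⁻¹ * y * s))
    (hs3 : s ^ 2 * a = a * s ^ 2) (hsa : s * a ≠ a * s)
    (hCS₁ : ∀ y, y * a = a * y → y ∈ S₁) (hsS₁ : s ∈ S₁)
    (hS₁ : ∀ y ∈ S₁, y * a = a * y ∨ (s⁻¹ * y) * a = a * (s⁻¹ * y))
    (hg : g ∉ S₁) (hg1 : ∀ y ∈ S₁, g * y * g⁻¹ ∈ S₁) (hg2 : ∀ y ∈ S₁, g⁻¹ * y * g ∈ S₁)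
    {p q : S} (hp : p ∈ P) (hq : q ∈ P.map (MulAut.conj s).toMonoidHom) : g * a * g⁻¹ ≠ p * q := by
  intro hb
  obtain ⟨Q, hQdef⟩ : ∃ Q, Q = P.map (MulAut.conj s).toMonoidHom := ⟨_, rfl⟩
  rw [← hQdef] at hq
  obtain ⟨hQa, hQn, hinf, hcomm⟩ := hD.pair h2 hs1 hs2 hsa
  rw [← hQdef] at hQa hQn hinf hcomm
  have hD₂ : CData (s * a * s⁻¹) Q := hQdef ▸ hD.conj s
  obtain ⟨a₂, ha₂⟩ : ∃ a₂, a₂ = s * a * s⁻¹ := ⟨_, rfl⟩
  rw [← ha₂] at hD₂
  obtain ⟨b, hbdef⟩ : ∃ b, b = g * a * g⁻¹ := ⟨_, rfl⟩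
  rw [← hbdef] at hb
  have hCn : ∀ z ∈ S₁, ∀ y, y * a = a * y → (z * y * z⁻¹) * a = a * (z * y * z⁻¹) := by
    intro z hz y hy
    rcases hS₁ z hz with h1 | h1
    · exact (Commute.mul_left (Commute.mul_left h1 hy) (Commute.inv_left h1)).eq
    · have h3 : ((s⁻¹ * z) * y * (s⁻¹ * z)⁻¹) * a = a * ((s⁻¹ * z) * y * (s⁻¹ * z)⁻¹) :=
        (Commute.mul_left (Commute.mul_left h1 hy) (Commute.inv_left h1)).eq
      have h4 := hs1 _ h3
      have e : s * ((s⁻¹ * z) * y * (s⁻¹ * z)⁻¹) * s⁻¹ = z * y * z⁻¹ := by group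
      rwa [e] at h4
  have hCb : ∀ z ∈ S₁, ∀ x, x * b = b * x → (z * x * z⁻¹) * b = b * (z * x * z⁻¹) := by
    intro z hz x hx
    have h1 : (g⁻¹ * x * g) * a = a * (g⁻¹ * x * g) := comm_of_conj (g := g) (by
      have e1 : g * (g⁻¹ * x * g) * g⁻¹ = x := by group
      rw [e1, ← hbdef]
      exact hx)
    have h3 := hCn _ (hg2 z hz) _ h1
    have h4 := comm_conj (g := g) h3
    have e2 : g * ((g⁻¹ * z * g) * (g⁻¹ * x * g) * (g⁻¹ * z * g)⁻¹) * g⁻¹ = z * x * z⁻¹ := by group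
    rwa [e2, ← hbdef] at h4
  have hb2 : ∀ y ∈ S₁, y * b * y⁻¹ ≠ b → y * b * y⁻¹ = g * a₂ * g⁻¹ := by
    intro y hy hne
    rcases hS₁ _ (hg2 y hy) with h1 | h1
    · exfalso
      apply hne
      have h3 := comm_conj (g := g) h1
      have e : g * (g⁻¹ * y * g) * g⁻¹ = y := by group
      rw [e, ← hbdef] at h3
      rw [h3]
      group
    · obtain ⟨c, hc⟩ : ∃ c, c = s⁻¹ * (g⁻¹ * y * g) := ⟨_, rfl⟩
      rw [← hc] at h1
      have h3 : c * a * c⁻¹ = a := by
        rw [h1]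
        group
      have hy' : y = g * s * c * g⁻¹ := by
        rw [hc]
        group
      calc y * b * y⁻¹ = g * s * (c * a * c⁻¹) * s⁻¹ * g⁻¹ := by
            rw [hbdef, hy']
            group
        _ = g * a₂ * g⁻¹ := by
            rw [h3, ha₂]
            group
  have ha₂ne : a₂ ≠ a := by
    intro h
    apply hsa
    rw [ha₂] at h
    calc s * a = s * a * s⁻¹ * s := by group
      _ = a * s := by rw [h]
  by_cases hall : ∀ x ∈ P, x * b = b * x
  · have hall2 : ∀ x ∈ Q, x * b = b * x := by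
      intro x hx
      rw [hQdef, mem_conj] at hx
      have h3 := hCb s hsS₁ _ (hall _ hx)
      have e : s * (s⁻¹ * x * s) * s⁻¹ = x := by group
      rwa [e] at h3
    have hp1 : ∀ x ∈ P, x * p = p * x := by
      intro x hx
      have h3 := hall x hx
      rw [hb] at h3
      have h4 := hcomm x hx q hq
      have h5 : x * p * q = p * x * q := by
        calc x * p * q = x * (p * q) := by group
          _ = p * q * x := h3
          _ = p * (q * x) := by group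
          _ = p * (x * q) := by rw [h4]
          _ = p * x * q := by group
      exact mul_right_cancel h5
    have hq1 : ∀ x ∈ Q, x * q = q * x := by
      intro x hx
      have h3 := hall2 x hx
      rw [hb] at h3
      have h4 := hcomm p hp x hx
      have h5 : p * (x * q) = p * (q * x) := by
        calc p * (x * q) = (p * x) * q := by group
          _ = (x * p) * q := by rw [h4]
          _ = x * (p * q) := by group
          _ = p * q * x := h3
          _ = p * (q * x) := by group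
      exact mul_left_cancel h5
    have hfix : ∀ y ∈ S₁, y * (a * a₂) * y⁻¹ = a * a₂ := by
      have hcc : ∀ c, c * a = a * c → c * a₂ * c⁻¹ = a₂ := by
        intro c hc
        have h3 := hs2 c hc
        have h4 : (s⁻¹ * c * s) * a * (s⁻¹ * c * s)⁻¹ = a := by
          rw [h3]
          group
        calc c * a₂ * c⁻¹ = s * ((s⁻¹ * c * s) * a * (s⁻¹ * c * s)⁻¹) * s⁻¹ := by
              rw [ha₂]
              group
          _ = a₂ := by
              rw [h4, ha₂]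
      have hca₂ : a * a₂ = a₂ * a := (hQa a₂ hD₂.mem).symm
      have hcs : s * a₂ * s⁻¹ = a := by
        have h3 : s ^ 2 * a * (s ^ 2)⁻¹ = a := by
          rw [hs3]
          group
        calc s * a₂ * s⁻¹ = s ^ 2 * a * (s ^ 2)⁻¹ := by
              rw [ha₂]
              simp only [pow_two]
              group
          _ = a := h3
      intro y hy
      rcases hS₁ y hy with h1 | h1
      · have h3 := hcc y h1
        have h4 : y * a * y⁻¹ = a := by
          rw [h1]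
          group
        calc y * (a * a₂) * y⁻¹ = (y * a * y⁻¹) * (y * a₂ * y⁻¹) := by group
          _ = _ := by rw [h3, h4]
      · obtain ⟨c, hc⟩ : ∃ c, c = s⁻¹ * y := ⟨_, rfl⟩
        rw [← hc] at h1
        have h3 := hcc c h1
        have h4 : c * a * c⁻¹ = a := by
          rw [h1]
          group
        have hy' : y = s * c := by
          rw [hc]
          group
        calc y * (a * a₂) * y⁻¹ = s * (c * a * c⁻¹) * s⁻¹ * (s * (c * a₂ * c⁻¹) * s⁻¹) := by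
              rw [hy']
              group
          _ = a₂ * a := by
              rw [h3, h4, hcs, ← ha₂]
          _ = a * a₂ := hca₂.symm
    rcases hD.uniq p hp hp1 with hp0 | hp0 <;> rcases hD₂.uniq q hq hq1 with hq0 | hq0 <;>
      rw [hp0, hq0] at hb
    · -- `b = 1`
      have h3 : g * a * g⁻¹ = 1 := by rw [← hbdef, hb]; group
      apply hD.ne
      have : a = g⁻¹ * (g * a * g⁻¹) * g := by group
      rw [this, h3]
      group
    · -- `b = a₂`
      have h3 : g * a * g⁻¹ = s * a * s⁻¹ := by rw [← hbdef, hb, ha₂]; group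
      have h4 : (s⁻¹ * g) * a = a * (s⁻¹ * g) := by
        calc (s⁻¹ * g) * a = s⁻¹ * (g * a * g⁻¹) * g := by group
          _ = s⁻¹ * (s * a * s⁻¹) * g := by rw [h3]
          _ = _ := by group
      apply hg
      have h5 := S₁.mul_mem hsS₁ (hCS₁ _ h4)
      have e : s * (s⁻¹ * g) = g := by group
      rwa [e] at h5
    · -- `b = a`
      apply hg
      apply hCS₁
      have h3 : g * a * g⁻¹ = a := by rw [← hbdef, hb]; group
      calc g * a = g * a * g⁻¹ * g := by group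
        _ = a * g := by rw [h3]
    · -- `b = a * a₂`
      have h3 := hfix _ (hg1 s hsS₁)
      rw [← hb] at h3
      have h4 : (g * s * g⁻¹) * b * (g * s * g⁻¹)⁻¹ = g * a₂ * g⁻¹ := by
        rw [hbdef, ha₂]
        group
      rw [h4] at h3
      apply ha₂ne
      rw [hbdef] at h3
      have e : a₂ = g⁻¹ * (g * a₂ * g⁻¹) * g := by group
      rw [e, h3]
      group
  · push_neg at hall
    obtain ⟨x, hx, hxb⟩ := hall
    have hxQ : s * x * s⁻¹ ∈ Q := hQdef ▸ conj_mem_conj hx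
    have hx2 : (s * x * s⁻¹) * b ≠ b * (s * x * s⁻¹) := by
      intro h3
      have h4 := hCb s⁻¹ (S₁.inv_mem hsS₁) _ h3
      have e : s⁻¹ * (s * x * s⁻¹) * s⁻¹⁻¹ = x := by group
      rw [e] at h4
      exact hxb h4
    have hxS : x ∈ S₁ := hCS₁ _ (hD.cen x hx)
    have hx2S : s * x * s⁻¹ ∈ S₁ := hCS₁ _ (hQa _ hxQ)
    have h3 := hb2 x hxS (fun h => hxb (by
      calc x * b = x * b * x⁻¹ * x := by group
        _ = b * x := by rw [h]))
    have h4 := hb2 _ hx2S (fun h => hx2 (by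
      calc (s * x * s⁻¹) * b = (s * x * s⁻¹) * b * (s * x * s⁻¹)⁻¹ * (s * x * s⁻¹) := by group
        _ = b * (s * x * s⁻¹) := by rw [h]))
    obtain ⟨x₂, hx₂⟩ : ∃ x₂, x₂ = s * x * s⁻¹ := ⟨_, rfl⟩
    rw [← hx₂] at hxQ h4
    have h5 : x * b * x⁻¹ = x₂ * b * x₂⁻¹ := h3.trans h4.symm
    have hxq := hcomm x hx q hq
    have hpx₂ := hcomm p hp x₂ hxQ
    rw [hb] at h5
    have e1 : x * (p * q) * x⁻¹ = (x * p * x⁻¹) * q := by
      calc x * (p * q) * x⁻¹ = x * p * (q * x⁻¹) := by group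
        _ = x * p * (x⁻¹ * (x * q) * x⁻¹) := by group
        _ = x * p * (x⁻¹ * (q * x) * x⁻¹) := by rw [hxq]
        _ = _ := by group
    have e2 : x₂ * (p * q) * x₂⁻¹ = p * (x₂ * q * x₂⁻¹) := by
      calc x₂ * (p * q) * x₂⁻¹ = (x₂ * p) * q * x₂⁻¹ := by group
        _ = (p * x₂) * q * x₂⁻¹ := by rw [hpx₂]
        _ = _ := by group
    rw [e1, e2] at h5
    have h6 : p⁻¹ * (x * p * x⁻¹) = (x₂ * q * x₂⁻¹) * q⁻¹ := by
      calc p⁻¹ * (x * p * x⁻¹) = p⁻¹ * ((x * p * x⁻¹) * q) * q⁻¹ := by group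
        _ = p⁻¹ * (p * (x₂ * q * x₂⁻¹)) * q⁻¹ := by rw [h5]
        _ = _ := by group
    have h7 : p⁻¹ * (x * p * x⁻¹) ∈ P ⊓ Q := by
      constructor
      · exact P.mul_mem (P.inv_mem hp) (P.mul_mem (P.mul_mem hx hp) (P.inv_mem hx))
      · rw [SetLike.mem_coe, h6]
        exact Q.mul_mem (Q.mul_mem (Q.mul_mem hxQ hq) (Q.inv_mem hxQ)) (Q.inv_mem hq)
    rw [hinf, Subgroup.mem_bot] at h7
    have h8 : x * p * x⁻¹ = p := by
      have h9 : (x * p * x⁻¹) = p * (p⁻¹ * (x * p * x⁻¹)) := by group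
      rw [h9, h7, mul_one]
    apply hxb
    rw [hb]
    calc x * (p * q) = x * (p * q) * x⁻¹ * x := by group
      _ = (x * p * x⁻¹) * q * x := by rw [e1]
      _ = p * q * x := by rw [h8]

end F1

section F2

variable {a s t : S} {P : Subgroup S} {S₁ : Subgroup S}

theorem CData.mem_sqGen (hD : CData a P) (h2 : IsPGroup 2 S) (hP : ¬ IsMulCommutative ↥P)
    (huniq : Nat.card (center ↥P) = 2) : a ∈ sqGen P := by
  haveI : Fact (Nat.Prime 2) := ⟨Nat.prime_two⟩
  have h1 := center_le_frattini (h2.to_subgroup P) hP huniq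
  have h3 : (⟨a, hD.mem⟩ : ↥P) ∈ center ↥P := by
    rw [Subgroup.mem_center_iff]
    intro q
    exact Subtype.ext (hD.cen q q.2)
  exact frattIn_le_sqGen h2 P ⟨_, h1 h3, rfl⟩

/-- The index-two contradiction. -/
theorem CData.no_index (hD : CData a P) (h2 : IsPGroup 2 S) (hr : SectionalPRankLE 2 4 S)
    (hP : ¬ IsMulCommutative ↥P) (haP : a ∈ sqGen P)
    (hs1 : ∀ y, y * a = a * y → (s * y * s⁻¹) * a = a * (s * y * s⁻¹))
    (hs2 : ∀ y, y * a = a * y → (s⁻¹ * y * s) * a = a * (s⁻¹ * y * s))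
    (hs3 : s ^ 2 * a = a * s ^ 2) (hsa : s * a ≠ a * s)
    (hCS₁ : ∀ y, y * a = a * y → y ∈ S₁) (hsS₁ : s ∈ S₁)
    (hS₁ : ∀ y ∈ S₁, y * a = a * y ∨ (s⁻¹ * y) * a = a * (s⁻¹ * y))
    (ht : t ∉ S₁) (ht1 : ∀ y ∈ S₁, t * y * t⁻¹ ∈ S₁) (ht2 : ∀ y ∈ S₁, t⁻¹ * y * t ∈ S₁) (ht3 : t ^ 2 ∈ S₁) :
    False := by
  have hF1 := fun g hg hg1 hg2 p hp q hq => CData.f1 (g := g) hD h2 hs1 hs2 hs3 hsa hCS₁ hsS₁ hS₁ hg hg1 hg2
    (p := p) (q := q) hp hq
  obtain ⟨Q, hQdef⟩ : ∃ Q, Q = P.map (MulAut.conj s).toMonoidHom := ⟨_, rfl⟩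
  obtain ⟨hQa, hQn, hinf, hcomm⟩ := hD.pair h2 hs1 hs2 hsa
  rw [← hQdef] at hQa hQn hinf hcomm hF1
  have hD₂ : CData (s * a * s⁻¹) Q := hQdef ▸ hD.conj s
  obtain ⟨a₂, ha₂⟩ : ∃ a₂, a₂ = s * a * s⁻¹ := ⟨_, rfl⟩
  rw [← ha₂] at hD₂
  have hPS : P ≤ S₁ := fun x hx => hCS₁ x (hD.cen x hx)
  have hQS : Q ≤ S₁ := fun x hx => hCS₁ x (hQa x hx)
  obtain ⟨D, hDdef⟩ : ∃ D, D = P ⊔ Q := ⟨_, rfl⟩
  have hDS : D ≤ S₁ := by
    rw [hDdef]
    exact sup_le hPS hQS
  have hsQ : ∀ x ∈ Q, s * x * s⁻¹ ∈ P := by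
    intro x hx
    rw [hQdef, mem_conj] at hx
    have h3 := hD.nor _ hs3 _ hx
    have e : s ^ 2 * (s⁻¹ * x * s) * (s ^ 2)⁻¹ = s * x * s⁻¹ := by
      simp only [pow_two]
      group
    rwa [e] at h3
  have hDl1 : ∀ l ∈ S₁, ∀ x ∈ P, l * x * l⁻¹ ∈ D := by
    intro l hl x hx
    rw [hDdef]
    rcases hS₁ l hl with h1 | h1
    · exact Subgroup.mem_sup_left (hD.nor l h1 x hx)
    · obtain ⟨c, hc⟩ : ∃ c, c = s⁻¹ * l := ⟨_, rfl⟩
      rw [← hc] at h1
      have hl' : l = s * c := by rw [hc]; group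
      have h3 := hD.nor c h1 x hx
      have e : l * x * l⁻¹ = s * (c * x * c⁻¹) * s⁻¹ := by rw [hl']; group
      rw [e]
      exact Subgroup.mem_sup_right (hQdef ▸ conj_mem_conj h3)
  have hDl2 : ∀ l ∈ S₁, ∀ x ∈ Q, l * x * l⁻¹ ∈ D := by
    intro l hl x hx
    rw [hDdef]
    rcases hS₁ l hl with h1 | h1
    · exact Subgroup.mem_sup_right (hQn l h1 x hx)
    · obtain ⟨c, hc⟩ : ∃ c, c = s⁻¹ * l := ⟨_, rfl⟩
      rw [← hc] at h1
      have hl' : l = s * c := by rw [hc]; group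
      have h3 := hQn c h1 x hx
      have e : l * x * l⁻¹ = s * (c * x * c⁻¹) * s⁻¹ := by rw [hl']; group
      rw [e]
      exact Subgroup.mem_sup_left (hsQ _ h3)
  have hDn : ∀ l ∈ S₁, ∀ d ∈ D, l * d * l⁻¹ ∈ D := by
    intro l hl d hd
    have hd' := hd
    rw [hDdef] at hd'
    obtain ⟨x, hx, y, hy, rfl⟩ := Cfsg.Agent.Lib.Components.exists_mul_of_mem_sup_of_commutes hcomm hd'
    have e : l * (x * y) * l⁻¹ = (l * x * l⁻¹) * (l * y * l⁻¹) := by group
    rw [e]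
    exact D.mul_mem (hDl1 l hl x hx) (hDl2 l hl y hy)
  obtain ⟨E, hEdef⟩ : ∃ E, E = D.map (MulAut.conj t).toMonoidHom := ⟨_, rfl⟩
  have hEmem : ∀ e, e ∈ E ↔ t⁻¹ * e * t ∈ D := by
    intro e
    rw [hEdef, mem_conj]
  have hEn : ∀ l ∈ S₁, ∀ e ∈ E, l * e * l⁻¹ ∈ E := by
    intro l hl e he
    rw [hEmem] at he ⊢
    have h3 := hDn _ (ht2 l hl) _ he
    have e' : t⁻¹ * l * t * (t⁻¹ * e * t) * (t⁻¹ * l * t)⁻¹ = t⁻¹ * (l * e * l⁻¹) * t := by group
    rwa [e'] at h3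
  have hES : E ≤ S₁ := by
    intro e he
    rw [hEmem] at he
    have h3 := ht1 _ (hDS he)
    have e' : t * (t⁻¹ * e * t) * t⁻¹ = e := by group
    rwa [e'] at h3
  have haE : a ∉ E := by
    intro h3
    rw [hEmem] at h3
    rw [hDdef] at h3
    obtain ⟨x, hx, y, hy, h4⟩ := Cfsg.Agent.Lib.Components.exists_mul_of_mem_sup_of_commutes hcomm h3
    refine hF1 t⁻¹ (fun h => ht (by simpa using S₁.inv_mem h)) ?_ ?_ x hx y hy (by simpa using h4)
    · simpa using ht2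
    · simpa using ht1
  have ha₂E : a₂ ∉ E := by
    intro h3
    rw [hEmem] at h3
    rw [hDdef] at h3
    obtain ⟨x, hx, y, hy, h4⟩ := Cfsg.Agent.Lib.Components.exists_mul_of_mem_sup_of_commutes hcomm h3
    refine hF1 (t⁻¹ * s) (fun h => ht ?_) ?_ ?_ x hx y hy ?_
    · have h5 := S₁.mul_mem h (S₁.inv_mem hsS₁)
      have e : t⁻¹ * s * s⁻¹ = t⁻¹ := by group
      rw [e] at h5
      simpa using S₁.inv_mem h5
    · intro y hy
      have h5 := ht2 _ (S₁.mul_mem (S₁.mul_mem hsS₁ hy) (S₁.inv_mem hsS₁))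
      have e : t⁻¹ * s * y * (t⁻¹ * s)⁻¹ = t⁻¹ * (s * y * s⁻¹) * t := by group
      rwa [e]
    · intro y hy
      have h5 := S₁.mul_mem (S₁.mul_mem (S₁.inv_mem hsS₁) (ht1 y hy)) hsS₁
      have e : (t⁻¹ * s)⁻¹ * y * (t⁻¹ * s) = s⁻¹ * (t * y * t⁻¹) * s := by group
      rwa [e]
    · rw [← h4, ha₂]
      group
  obtain ⟨U, hUdef⟩ : ∃ U, U = D ⊓ E := ⟨_, rfl⟩
  have hUD : ∀ u ∈ U, u ∈ D := fun u hu => by
    rw [hUdef] at hu
    exact hu.1
  have hUE : ∀ u ∈ U, u ∈ E := fun u hu => by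
    rw [hUdef] at hu
    exact hu.2
  have hUn : ∀ l ∈ S₁, ∀ u ∈ U, l * u * l⁻¹ ∈ U := by
    intro l hl u hu
    rw [hUdef]
    exact ⟨hDn l hl u (hUD u hu), hEn l hl u (hUE u hu)⟩
  have hUP : ∀ x ∈ P, x ∈ U → x = 1 := by
    intro x hx hxU
    by_contra hx1
    have h3 := mem_of_normal_of_ne h2 hD.uniq (fun q hq u hu => hUn q (hPS hq) u hu) hx hxU hx1
    exact haE (hUE _ h3)
  have hUQ : ∀ x ∈ Q, x ∈ U → x = 1 := by
    intro x hx hxU
    by_contra hx1
    have h3 := mem_of_normal_of_ne h2 hD₂.uniq (fun q hq u hu => hUn q (hQS hq) u hu) hx hxU hx1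
    exact ha₂E (hUE _ h3)
  have hPD : P ≤ D := by rw [hDdef]; exact le_sup_left
  have hQD : Q ≤ D := by rw [hDdef]; exact le_sup_right
  have ha₂Q : a₂ ∈ sqGen Q := by
    rw [ha₂]
    exact sqGen_map_mem (g := s) (fun d hd => hQdef ▸ conj_mem_conj hd) a haP
  have hU1 : ∀ u ∈ U, u ∈ sqGen D := by
    intro u hu
    have hu' := hUD u hu
    rw [hDdef] at hu'
    obtain ⟨p, hp, q, hq, rfl⟩ := Cfsg.Agent.Lib.Components.exists_mul_of_mem_sup_of_commutes hcomm hu'
    have hc1 : ∀ x ∈ P, x * p = p * x := by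
      intro x hx
      have h3 : x * (p * q) * x⁻¹ * (p * q)⁻¹ ∈ U :=
        U.mul_mem (hUn x (hPS hx) _ hu) (U.inv_mem hu)
      have e : x * (p * q) * x⁻¹ * (p * q)⁻¹ = x * p * x⁻¹ * p⁻¹ := by
        have h4 := hcomm x hx q hq
        calc x * (p * q) * x⁻¹ * (p * q)⁻¹ = x * p * (q * x⁻¹ * q⁻¹) * p⁻¹ := by group
          _ = x * p * (x⁻¹ * (x * q) * x⁻¹ * q⁻¹) * p⁻¹ := by group
          _ = x * p * (x⁻¹ * (q * x) * x⁻¹ * q⁻¹) * p⁻¹ := by rw [h4]
          _ = _ := by group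
      rw [e] at h3
      have h5 := hUP _ (P.mul_mem (P.mul_mem (P.mul_mem hx hp) (P.inv_mem hx)) (P.inv_mem hp)) h3
      calc x * p = x * p * x⁻¹ * p⁻¹ * (p * x) := by group
        _ = p * x := by rw [h5, one_mul]
    have hc2 : ∀ x ∈ Q, x * q = q * x := by
      intro x hx
      have h3 : x * (p * q) * x⁻¹ * (p * q)⁻¹ ∈ U :=
        U.mul_mem (hUn x (hQS hx) _ hu) (U.inv_mem hu)
      have h4 := hcomm p hp x hx
      have e : x * (p * q) * x⁻¹ * (p * q)⁻¹ = x * q * x⁻¹ * q⁻¹ := by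
        have h6 : x * p = p * x := h4.symm
        calc x * (p * q) * x⁻¹ * (p * q)⁻¹ = (x * p) * q * x⁻¹ * q⁻¹ * p⁻¹ := by group
          _ = p * (x * q * x⁻¹ * q⁻¹) * p⁻¹ := by rw [h6]; group
          _ = (p * (x * q * x⁻¹ * q⁻¹)) * p⁻¹ := by group
          _ = ((x * q * x⁻¹ * q⁻¹) * p) * p⁻¹ := by
              rw [hcomm p hp _ (Q.mul_mem (Q.mul_mem (Q.mul_mem hx hq) (Q.inv_mem hx)) (Q.inv_mem hq))]
          _ = _ := by group
      rw [e] at h3
      have h5 := hUQ _ (Q.mul_mem (Q.mul_mem (Q.mul_mem hx hq) (Q.inv_mem hx)) (Q.inv_mem hq)) h3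
      calc x * q = x * q * x⁻¹ * q⁻¹ * (q * x) := by group
        _ = q * x := by rw [h5, one_mul]
    have hpD : p ∈ sqGen D := by
      rcases hD.uniq p hp hc1 with h3 | h3
      · rw [h3]; exact one_mem _
      · rw [h3]; exact sqGen_mono hPD haP
    have hqD : q ∈ sqGen D := by
      rcases hD₂.uniq q hq hc2 with h3 | h3
      · rw [h3]; exact one_mem _
      · rw [h3]; exact sqGen_mono hQD ha₂Q
    exact Subgroup.mul_mem _ hpD hqD
  have hU2 : ∀ u ∈ U, u ∈ sqGen E := by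
    intro u hu
    have h3 : t⁻¹ * u * t ∈ U := by
      rw [hUdef]
      refine ⟨(hEmem u).mp (hUE u hu), (hEmem _).mpr ?_⟩
      have h4 := hDn _ (S₁.inv_mem ht3) u (hUD u hu)
      have e : t⁻¹ * (t⁻¹ * u * t) * t = (t ^ 2)⁻¹ * u * (t ^ 2)⁻¹⁻¹ := by
        rw [pow_two, inv_inv, mul_inv_rev]
        simp only [mul_assoc]
      rw [e]
      exact h4
    have h4 := hU1 _ h3
    have h5 := sqGen_map_mem (D := D) (E := E) (g := t) (fun d hd => hEdef ▸ conj_mem_conj hd) _ h4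
    have e : t * (t⁻¹ * u * t) * t⁻¹ = u := by group
    rwa [e] at h5
  -- Orders
  have hcP : 4 * Nat.card (sqGen P) ≤ Nat.card P := by
    have h3 := four_mul_card_frattIn_le h2 hP
    have h4 := Subgroup.card_le_of_le (sqGen_le_frattIn h2 P)
    omega
  have hcQ : Nat.card Q = Nat.card P := by
    rw [hQdef, card_conj]
  have hcsQ : Nat.card (sqGen Q) ≤ Nat.card (sqGen P) := by
    rw [hQdef]
    exact card_sqGen_conj_le s P
  have hcD : Nat.card D = Nat.card P * Nat.card P := by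
    rw [hDdef, card_sup_eq_of_comm hcomm hinf, hcQ]
  have hcsD : Nat.card (sqGen D) ≤ Nat.card (sqGen P) * Nat.card (sqGen P) := by
    have h3 : sqGen D ≤ sqGen P ⊔ sqGen Q := by
      rw [hDdef]
      exact sqGen_sup_le hcomm
    have h4 := Subgroup.card_le_of_le h3
    have h5 : Nat.card ↥(sqGen P ⊔ sqGen Q) ≤ Nat.card (sqGen P) * Nat.card (sqGen Q) :=
      card_sup_le_of_comm (fun a ha b hb => hcomm a (sqGen_le P ha) b (sqGen_le Q hb))
    calc _ ≤ _ := h4
      _ ≤ _ := h5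
      _ ≤ _ := Nat.mul_le_mul_left _ hcsQ
  have hcE : Nat.card E = Nat.card D := by rw [hEdef, card_conj]
  have hcsE : Nat.card (sqGen E) ≤ Nat.card (sqGen D) := by
    rw [hEdef]
    exact card_sqGen_conj_le t D
  have hc16 : 16 * Nat.card (sqGen D) ≤ Nat.card D := by
    rw [hcD]
    nlinarith
  refine no_big_pair hr (L := S₁) hDS hES hDn hEn ?_ ?_ ?_
  · rw [← hUdef]
    exact hU1
  · rw [← hUdef]
    exact hU2
  · rw [hcE]
    have h5 : 0 < Nat.card (sqGen D) := Nat.card_pos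
    nlinarith

end F2

section F3

variable {a s : S} {P : Subgroup S}

/-- The sectional rank part. -/
theorem CData.rank_two (hD : CData a P) (h2 : IsPGroup 2 S) (hr : SectionalPRankLE 2 4 S)
    (hs1 : ∀ y, y * a = a * y → (s * y * s⁻¹) * a = a * (s * y * s⁻¹))
    (hs2 : ∀ y, y * a = a * y → (s⁻¹ * y * s) * a = a * (s⁻¹ * y * s))
    (hsa : s * a ≠ a * s) : SectionalPRankLE 2 2 ↥P := by
  haveI : Fact (Nat.Prime 2) := ⟨Nat.prime_two⟩
  obtain ⟨hQa, hQn, hinf, hcomm⟩ := hD.pair h2 hs1 hs2 hsa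
  have hsmall : ∀ D : Subgroup S, D ≤ P → Nat.card D * Nat.card D < 32 * (Nat.card (sqGen D) * Nat.card (sqGen D)) := by
    intro D hDP
    by_contra hcon
    push_neg at hcon
    obtain ⟨E, hEdef⟩ : ∃ E, E = D.map (MulAut.conj s).toMonoidHom := ⟨_, rfl⟩
    have hEQ : E ≤ P.map (MulAut.conj s).toMonoidHom := by
      rw [hEdef]
      exact Subgroup.map_mono hDP
    have hDE : ∀ d ∈ D, ∀ e ∈ E, d * e = e * d := fun d hd e he => hcomm d (hDP hd) e (hEQ he)
    refine no_big_pair hr (L := D ⊔ E) (D := D) (E := E) le_sup_left le_sup_right ?_ ?_ ?_ ?_ ?_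
    · intro l hl d hd
      obtain ⟨x, hx, y, hy, rfl⟩ := Cfsg.Agent.Lib.Components.exists_mul_of_mem_sup_of_commutes hDE hl
      have h3 : (x * y) * d * (x * y)⁻¹ = x * d * x⁻¹ := by
        have h4 : y * d = d * y := (hDE d hd y hy).symm
        calc (x * y) * d * (x * y)⁻¹ = x * (y * d) * y⁻¹ * x⁻¹ := by group
          _ = x * (d * y) * y⁻¹ * x⁻¹ := by rw [h4]
          _ = _ := by group
      rw [h3]
      exact D.mul_mem (D.mul_mem hx hd) (D.inv_mem hx)
    · intro l hl d hd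
      obtain ⟨x, hx, y, hy, rfl⟩ := Cfsg.Agent.Lib.Components.exists_mul_of_mem_sup_of_commutes hDE hl
      have h3 : (x * y) * d * (x * y)⁻¹ = y * d * y⁻¹ := by
        have h4 := hDE x hx
        calc (x * y) * d * (x * y)⁻¹ = x * (y * d * y⁻¹) * x⁻¹ := by group
          _ = (y * d * y⁻¹) * x * x⁻¹ := by
              rw [h4 _ (E.mul_mem (E.mul_mem hy hd) (E.inv_mem hy))]
          _ = _ := by group
      rw [h3]
      exact E.mul_mem (E.mul_mem hy hd) (E.inv_mem hy)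
    · intro x hx
      have h4 : x ∈ P ⊓ P.map (MulAut.conj s).toMonoidHom := ⟨hDP hx.1, hEQ hx.2⟩
      rw [hinf, Subgroup.mem_bot] at h4
      rw [h4]
      exact one_mem _
    · intro x hx
      have h4 : x ∈ P ⊓ P.map (MulAut.conj s).toMonoidHom := ⟨hDP hx.1, hEQ hx.2⟩
      rw [hinf, Subgroup.mem_bot] at h4
      rw [h4]
      exact one_mem _
    · have h3 : Nat.card E = Nat.card D := by rw [hEdef, card_conj]
      have h4 : Nat.card (sqGen E) ≤ Nat.card (sqGen D) := by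
        rw [hEdef]
        exact card_sqGen_conj_le s D
      rw [h3]
      nlinarith
  intro H N _ A hAc hAexp
  -- the preimage
  obtain ⟨B, hB⟩ : ∃ B : Subgroup ↥H, B = A.comap (QuotientGroup.mk' N) := ⟨_, rfl⟩
  have hcB : Nat.card B = Nat.card N * Nat.card A := by
    rw [hB]
    exact Cfsg.Agent.Lib.Basic.card_comap_mk A
  obtain ⟨D, hD'⟩ : ∃ D : Subgroup S, D = (B.map H.subtype).map P.subtype := ⟨_, rfl⟩
  obtain ⟨N₁, hN₁⟩ : ∃ D : Subgroup S, D = (N.map H.subtype).map P.subtype := ⟨_, rfl⟩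
  have hcD : Nat.card D = Nat.card B := by
    rw [hD', Subgroup.card_map_of_injective P.subtype_injective,
      Subgroup.card_map_of_injective H.subtype_injective]
  have hcN₁ : Nat.card N₁ = Nat.card N := by
    rw [hN₁, Subgroup.card_map_of_injective P.subtype_injective,
      Subgroup.card_map_of_injective H.subtype_injective]
  have hDP : D ≤ P := by
    rw [hD']
    exact Subgroup.map_subtype_le _
  have hsq : sqGen D ≤ N₁ := by
    rw [sqGen, Subgroup.closure_le]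
    rintro _ ⟨d, hd, rfl⟩
    rw [hD'] at hd
    obtain ⟨_, ⟨b, hb, rfl⟩, rfl⟩ := hd
    have h3 : (QuotientGroup.mk' N b) ∈ A := by
      rw [hB] at hb
      exact hb
    have h4 := hAexp _ h3
    rw [← map_pow, QuotientGroup.mk'_apply, QuotientGroup.eq_one_iff] at h4
    rw [hN₁]
    exact ⟨_, ⟨_, h4, rfl⟩, by simp⟩
  have h3 := hsmall D hDP
  have h4 : Nat.card (sqGen D) ≤ Nat.card N := by
    rw [← hcN₁]
    exact Subgroup.card_le_of_le hsq
  rw [hcD, hcB] at h3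
  have hNpos : 0 < Nat.card N := Nat.card_pos
  have h5 : Nat.card A * Nat.card A < 32 := by
    have h6 : (Nat.card N * Nat.card N) * (Nat.card A * Nat.card A) < (Nat.card N * Nat.card N) * 32 := by
      nlinarith
    exact Nat.lt_of_mul_lt_mul_left h6
  have hpA : IsPGroup 2 ↥A := by
    have h6 : IsPGroup 2 (↥H ⧸ N) := IsPGroup.to_quotient (IsPGroup.to_subgroup (h2.to_subgroup P) H) N
    exact h6.to_subgroup A
  obtain ⟨k, hk⟩ := IsPGroup.iff_card.mp hpA
  rw [hk] at h5 ⊢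
  by_contra h6
  have h7 : 3 ≤ k := by
    by_contra h8
    apply h6
    exact Nat.pow_le_pow_right (by norm_num) (by omega)
  have h8 : 2 ^ 3 ≤ 2 ^ k := Nat.pow_le_pow_right (by norm_num) h7
  nlinarith

end F3

/-- The main theorem of the section. -/
theorem sec4_centralizer_center (h2 : IsPGroup 2 S) (hr : SectionalPRankLE 2 4 S)
    (P : Subgroup S) (hP : ¬ IsMulCommutative ↥P) (hZP : Nat.card ↥(Subgroup.center ↥P) = 2)
    (S₀ : Subgroup S) (hS₀ : S₀ = Subgroup.centralizer (((Subgroup.center ↥P).map P.subtype : Subgroup S) : Set S))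
    (hPn : ∀ s ∈ S₀, ∀ x ∈ P, s * x * s⁻¹ ∈ P) :
    S₀ = ⊤ ∨ (SectionalPRankLE 2 2 ↥P ∧ S₀.index = 2) := by
  classical
  obtain ⟨z, hz1, hzu⟩ := (Nat.card_eq_two_iff' (1 : center ↥P)).mp hZP
  obtain ⟨a, ha⟩ : ∃ a : S, a = ((z : ↥P) : S) := ⟨_, rfl⟩
  have haP : a ∈ P := by rw [ha]; exact (z : ↥P).2
  have hazz : (⟨a, haP⟩ : ↥P) = z := by
    apply Subtype.ext
    exact ha
  have hmem : ∀ y, y ∈ S₀ ↔ y * a = a * y := by
    intro y
    rw [hS₀, Subgroup.mem_centralizer_iff]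
    constructor
    · intro h
      have h3 := h a ⟨_, z.2, ha.symm⟩
      exact h3.symm
    · rintro h _ ⟨w, hw, rfl⟩
      by_cases hw1 : (⟨w, hw⟩ : center ↥P) = 1
      · have : w = 1 := congrArg Subtype.val hw1
        simp [this]
      · have h3 := hzu _ hw1
        have h4 : w = z := congrArg Subtype.val h3
        have h5 : ((w : ↥P) : S) = a := by rw [ha, h4]
        show ((w : ↥P) : S) * y = y * ((w : ↥P) : S)
        rw [h5]
        exact h.symm
  have hD : CData a P := by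
    refine ⟨?_, haP, ?_, ?_, ?_⟩
    · intro h
      apply hz1
      apply Subtype.ext
      apply Subtype.ext
      exact ha.symm.trans h
    · intro q hq
      have h3 := (Subgroup.mem_center_iff.mp z.2) ⟨q, hq⟩
      have h4 := congrArg Subtype.val h3
      rw [ha]
      exact h4
    · intro p hp hc
      have h3 : (⟨p, hp⟩ : ↥P) ∈ center ↥P := by
        rw [Subgroup.mem_center_iff]
        intro q
        exact Subtype.ext (hc q q.2)
      by_cases h4 : (⟨⟨p, hp⟩, h3⟩ : center ↥P) = 1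
      · left
        exact congrArg (fun w : center ↥P => ((w : ↥P) : S)) h4
      · right
        have h5 := hzu _ h4
        rw [ha]
        exact congrArg (fun w : center ↥P => ((w : ↥P) : S)) h5
    · intro y hy x hx
      exact hPn y ((hmem y).mpr hy) x hx
  by_cases htop : S₀ = ⊤
  · exact Or.inl htop
  right
  obtain ⟨s, hsS, hs1', hs2', hs3'⟩ := exists_normalizing_sq h2 htop
  have hsa : s * a ≠ a * s := fun h => hsS ((hmem s).mpr h)
  have hs1 : ∀ y, y * a = a * y → (s * y * s⁻¹) * a = a * (s * y * s⁻¹) := fun y hy =>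
    (hmem _).mp (hs1' y ((hmem y).mpr hy))
  have hs2 : ∀ y, y * a = a * y → (s⁻¹ * y * s) * a = a * (s⁻¹ * y * s) := fun y hy =>
    (hmem _).mp (hs2' y ((hmem y).mpr hy))
  have hs3 : s ^ 2 * a = a * s ^ 2 := (hmem _).mp hs3'
  refine ⟨hD.rank_two h2 hr hs1 hs2 hsa, ?_⟩
  -- the subgroup `S₁`
  obtain ⟨S₁, hS₁def⟩ : ∃ S₁, S₁ = S₀ ⊔ zpowers s := ⟨_, rfl⟩
  have hC1 : S₀ ≤ S₁ := by rw [hS₁def]; exact le_sup_left
  have hsS₁ : s ∈ S₁ := by
    rw [hS₁def]
    exact Subgroup.mem_sup_right (Subgroup.mem_zpowers s)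
  have hzle : zpowers s ≤ normalizer (S₀ : Set S) := by
    rw [Subgroup.zpowers_le, Subgroup.mem_normalizer_iff]
    intro h
    refine ⟨fun h3 => hs1' h h3, fun h3 => ?_⟩
    have h4 := hs2' _ h3
    have e : s⁻¹ * (s * h * s⁻¹) * s = h := by group
    rwa [e] at h4
  have hS₁ : ∀ y ∈ S₁, y ∈ S₀ ∨ s⁻¹ * y ∈ S₀ := by
    intro y hy
    rw [hS₁def] at hy
    obtain ⟨c, hc, w, hw, rfl⟩ := Cfsg.Agent.Lib.Components.exists_mul_of_mem_sup_of_le_normalizer hzle hy
    obtain ⟨i, rfl⟩ := Subgroup.mem_zpowers_iff.mp hw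
    rcases Int.even_or_odd' i with ⟨j, rfl | rfl⟩
    · left
      refine S₀.mul_mem hc ?_
      rw [zpow_mul]
      exact S₀.zpow_mem (by simpa using hs3') j
    · right
      have e : s⁻¹ * (c * s ^ (2 * j + 1)) = (s⁻¹ * c * s) * (s ^ 2) ^ j := by
        rw [zpow_add, zpow_mul, zpow_one]
        have e1 : s ^ (2 : ℤ) = s ^ 2 := by norm_cast
        rw [e1]
        have h7 : (s ^ 2) ^ j * s = s * (s ^ 2) ^ j := by
          have h8 : Commute ((s ^ 2) ^ j) s := Commute.zpow_left (Commute.pow_left (Commute.refl s) 2) j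
          exact h8.eq
        calc s⁻¹ * (c * ((s ^ 2) ^ j * s)) = s⁻¹ * (c * (s * (s ^ 2) ^ j)) := by rw [h7]
          _ = _ := by group
      rw [e]
      exact S₀.mul_mem (hs2' c hc) (S₀.zpow_mem hs3' j)
  by_cases hS₁top : S₁ = ⊤
  · rw [Subgroup.index_eq_two_iff]
    refine ⟨s, fun b => ?_⟩
    by_cases hb : b ∈ S₀
    · right
      refine ⟨hb, fun h3 => hsS ?_⟩
      have h4 := S₀.mul_mem (S₀.inv_mem hb) h3
      have e : b⁻¹ * (b * s) = s := by group
      rwa [e] at h4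
    · left
      refine ⟨?_, hb⟩
      have h3 : b⁻¹ ∈ S₁ := by rw [hS₁top]; exact Subgroup.mem_top _
      rcases hS₁ _ h3 with h4 | h4
      · exact absurd (by simpa using S₀.inv_mem h4) hb
      · have h5 := S₀.inv_mem h4
        have e : (s⁻¹ * b⁻¹)⁻¹ = b * s := by group
        rwa [e] at h5
  · exfalso
    obtain ⟨t, ht, ht1, ht2, ht3⟩ := exists_normalizing_sq h2 hS₁top
    refine hD.no_index (s := s) (t := t) (S₁ := S₁) h2 hr hP ?_ hs1 hs2 hs3 hsa
      (fun y hy => hC1 ((hmem y).mpr hy)) hsS₁ ?_ ht ht1 ht2 ht3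
    · exact hD.mem_sqGen h2 hP hZP
    · intro y hy
      rcases hS₁ y hy with h3 | h3
      · exact Or.inl ((hmem y).mp h3)
      · exact Or.inr ((hmem _).mp h3)

end Cfsg.Agent.Lib.Struct
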