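import Mathlib
import Cfsg.Agent.Lib.Basic.Schmidt
import Cfsg.Agent.Lib.Basic.Frattini
import Cfsg.Agent.Lib.Struct.Sec4c
import Cfsg.Agent.Lib.Transfer.Frobenius

/-!
# Groups whose maximal subgroups of order divisible by `p` are nilpotent
-/

set_option autoImplicit false

namespace Cfsg.Agent.Lib.Struct

open Subgroup Cfsg
open scoped Pointwise

variable {G : Type*} [Group G] [Finite G]

theorem nil_of_le {H M : Subgroup G} (h : H ≤ M) (hM : Group.IsNilpotent M) : Group.IsNilpotent H := by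
  haveI := hM
  exact nilpotent_of_mulEquiv (Subgroup.subgroupOfEquivOfLe h)

theorem sylow_of_not_dvd_index {p : ℕ} [hp : Fact p.Prime] {H : Subgroup G} (hH : IsPGroup p H)
    (hi : ¬ p ∣ H.index) : ∃ Q : Sylow p G, (Q : Subgroup G) = H := by
  obtain ⟨Q, hQ⟩ := hH.exists_le_sylow
  refine ⟨Q, le_antisymm ?_ hQ⟩
  have h1 := Subgroup.relIndex_mul_index hQ
  obtain ⟨n, hn⟩ := Q.2.index (H.subgroupOf Q)
  have h3 : H.relIndex Q = p ^ n := hn
  rcases Nat.eq_zero_or_pos n with h0 | h0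
  · rw [h0, pow_zero] at h3
    exact Subgroup.relIndex_eq_one.mp h3
  · exfalso
    apply hi
    rw [← h1, h3]
    exact Dvd.dvd.mul_right (dvd_pow_self p h0.ne') _

theorem dvd_card_of_pgroup_ne_bot {p : ℕ} [hp : Fact p.Prime] {D : Subgroup G} (hD : IsPGroup p D) (h : D ≠ ⊥) :
    p ∣ Nat.card D := by
  obtain ⟨k, hk⟩ := IsPGroup.iff_card.mp hD
  rw [hk]
  rcases Nat.eq_zero_or_pos k with h0 | h0
  · exfalso
    rw [h0, pow_zero] at hk
    exact h (Subgroup.eq_bot_of_card_eq _ hk)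
  · exact dvd_pow_self p h0.ne'

theorem coprime_orderOf_of_pgroup {p : ℕ} [hp : Fact p.Prime] {D M : Subgroup G} (hD : IsPGroup p D)
    (hM : ¬ p ∣ Nat.card M) {x y : G} (hx : x ∈ D) (hy : y ∈ M) : (orderOf x).Coprime (orderOf y) := by
  obtain ⟨k, hk⟩ := IsPGroup.iff_orderOf.mp hD ⟨x, hx⟩
  rw [Subgroup.orderOf_mk] at hk
  rw [hk]
  apply Nat.Coprime.pow_left
  rw [Nat.Prime.coprime_iff_not_dvd hp.out]
  intro h
  apply hM
  have h3 : orderOf y ∣ Nat.card M := by
    have := orderOf_dvd_natCard (⟨y, hy⟩ : M)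
    rwa [Subgroup.orderOf_mk] at this
  exact h.trans h3

section

variable {p : ℕ} [hp : Fact p.Prime]

/-- The case of a nontrivial normal `p`-subgroup. -/
theorem maxnil_caseC (hM : ∀ M : Subgroup G, IsCoatom M → p ∣ Nat.card M → Group.IsNilpotent M)
    {M₁ D : Subgroup G} (hM₁ : IsCoatom M₁) (hnil : ¬ Group.IsNilpotent M₁) (hpM₁ : ¬ p ∣ Nat.card M₁)
    (hDn : D.Normal) (hDp : IsPGroup p D) (hD : D ≠ ⊥) :
    ∃ Z K : Subgroup G, Z.Normal ∧ K.Normal ∧ Z ⊓ K = ⊥ ∧ Z ⊔ K = ⊤ ∧ Nat.card Z = p ∧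
      IsMinimalNonNilpotent K ∧ ¬ p ∣ Nat.card K := by
  obtain ⟨k, hk⟩ := IsPGroup.iff_card.mp hDp
  have hcop : (Nat.card D).Coprime (Nat.card M₁) := by
    rw [hk]
    apply Nat.Coprime.pow_left
    rwa [Nat.Prime.coprime_iff_not_dvd hp.out]
  have hinf : D ⊓ M₁ = ⊥ := Subgroup.inf_eq_bot_of_coprime hcop
  have hpD := dvd_card_of_pgroup_ne_bot hDp hD
  have hsup : D ⊔ M₁ = ⊤ := by
    apply hM₁.2
    refine lt_of_le_of_ne le_sup_right ?_
    intro h
    apply hD
    have h3 : D ≤ M₁ := h ▸ le_sup_left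
    rw [eq_bot_iff, ← hinf]
    exact le_inf le_rfl h3
  have hcard : Nat.card G = Nat.card D * Nat.card M₁ := by
    have := card_sup_eq_mul D M₁ hinf
    rw [hsup, Subgroup.card_top] at this
    exact this
  have hprop : ∀ H : Subgroup G, H ≤ M₁ → H ≠ M₁ →
      Group.IsNilpotent H ∧ ∀ x ∈ D, ∀ y ∈ H, x * y = y * x := by
    intro H hH hne
    have hcH : Nat.card H < Nat.card M₁ := by
      refine lt_of_le_of_ne (Subgroup.card_le_of_le hH) ?_
      intro h
      exact hne (Subgroup.eq_of_le_of_card_ge hH h.ge)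
    have hinfH : D ⊓ H = ⊥ := by
      rw [eq_bot_iff, ← hinf]
      exact inf_le_inf_left _ hH
    have hne' : D ⊔ H ≠ ⊤ := by
      intro h
      have h3 := card_sup_eq_mul D H hinfH
      rw [h, Subgroup.card_top, hcard] at h3
      have h4 : 0 < Nat.card D := Nat.card_pos
      have h5 := Nat.eq_of_mul_eq_mul_left h4 h3
      omega
    obtain ⟨M', hM', hle⟩ := Cfsg.Agent.Lib.Basic.exists_isCoatom_ge hne'
    have hDM' : D ≤ M' := le_sup_left.trans hle
    have hHM' : H ≤ M' := le_sup_right.trans hle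
    have hp' : p ∣ Nat.card M' := hpD.trans (Subgroup.card_dvd_of_le hDM')
    have hn' := hM M' hM' hp'
    refine ⟨nil_of_le hHM' hn', fun x hx y hy => ?_⟩
    exact Cfsg.Agent.Lib.Basic.commute_of_mem_nilpotent_of_coprime hn' (hDM' hx) (hHM' hy)
      (coprime_orderOf_of_pgroup hDp hpM₁ hx (hH hy))
  have hcomm : ∀ x ∈ D, ∀ y ∈ M₁, x * y = y * x := by
    intro x hx y hy
    by_cases hz : zpowers y = M₁
    · exfalso
      apply hnil
      rw [← hz]
      letI : CommGroup ↥(zpowers y) := IsCyclic.commGroup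
      exact CommGroup.isNilpotent
    · exact (hprop _ (by rw [Subgroup.zpowers_le]; exact hy) hz).2 x hx y (Subgroup.mem_zpowers y)
  have hcardD : Nat.card D = p := by
    by_contra hne
    obtain ⟨D₀', hD₀'⟩ := Sylow.exists_subgroup_card_pow_prime (G := ↥D) p (n := 1) (by
      rw [pow_one]
      exact hpD)
    rw [pow_one] at hD₀'
    obtain ⟨D₀, hD₀⟩ : ∃ D₀ : Subgroup G, D₀ = D₀'.map D.subtype := ⟨_, rfl⟩
    have hc0 : Nat.card D₀ = p := by
      rw [hD₀, Subgroup.card_map_of_injective D.subtype_injective, hD₀']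
    have hD₀D : D₀ ≤ D := by
      rw [hD₀]
      exact Subgroup.map_subtype_le _
    have hlt : p < Nat.card D := by
      have h3 : p ≤ Nat.card D := Nat.le_of_dvd Nat.card_pos hpD
      omega
    have hle : Nat.card ↥(D₀ ⊔ M₁) ≤ p * Nat.card M₁ := by
      have := card_sup_le_of_comm (A := D₀) (B := M₁) (fun a ha b hb => hcomm a (hD₀D ha) b hb)
      rwa [hc0] at this
    have hne' : D₀ ⊔ M₁ ≠ ⊤ := by
      intro h
      rw [h, Subgroup.card_top, hcard] at hle
      have h4 : 0 < Nat.card M₁ := Nat.card_pos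
      have := Nat.le_of_mul_le_mul_right hle h4
      omega
    obtain ⟨M', hM', hle'⟩ := Cfsg.Agent.Lib.Basic.exists_isCoatom_ge hne'
    have hp' : p ∣ Nat.card M' := by
      conv_lhs => rw [← hc0]
      exact Subgroup.card_dvd_of_le (le_sup_left.trans hle')
    exact hnil (nil_of_le (le_sup_right.trans hle') (hM M' hM' hp'))
  have hM₁n : M₁.Normal := by
    constructor
    intro n hn g
    have hg : g ∈ D ⊔ M₁ := by rw [hsup]; exact Subgroup.mem_top g
    obtain ⟨d, hd, m, hm, rfl⟩ := Cfsg.Agent.Lib.Components.exists_mul_of_mem_sup_of_commutes hcomm hg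
    have h3 : m * n * m⁻¹ ∈ M₁ := M₁.mul_mem (M₁.mul_mem hm hn) (M₁.inv_mem hm)
    have h4 := hcomm d hd _ h3
    have e : d * m * n * (d * m)⁻¹ = m * n * m⁻¹ := by
      calc d * m * n * (d * m)⁻¹ = d * (m * n * m⁻¹) * d⁻¹ := by group
        _ = (m * n * m⁻¹) * d * d⁻¹ := by rw [h4]
        _ = _ := by group
    rw [e]
    exact h3
  refine ⟨D, M₁, hDn, hM₁n, hinf, hsup, hcardD, ⟨hnil, ?_⟩, hpM₁⟩
  intro H hH
  have h3 : H.map M₁.subtype ≠ M₁ := by
    intro h
    apply hH
    rw [eq_top_iff]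
    intro x _
    have h4 : (x : G) ∈ H.map M₁.subtype := by
      rw [h]
      exact x.2
    obtain ⟨y, hy, hxy⟩ := h4
    have : y = x := Subtype.ext hxy
    rwa [← this]
  have h4 := (hprop _ (Subgroup.map_subtype_le H) h3).1
  haveI := h4
  exact nilpotent_of_mulEquiv (H.equivMapOfInjective _ M₁.subtype_injective).symm

/-- The case without nontrivial normal `p`-subgroups cannot occur. -/
theorem maxnil_caseB (hM : ∀ M : Subgroup G, IsCoatom M → p ∣ Nat.card M → Group.IsNilpotent M)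
    {M₁ : Subgroup G} (hM₁ : IsCoatom M₁) (hnil : ¬ Group.IsNilpotent M₁) (hpM₁ : ¬ p ∣ Nat.card M₁)
    (hno : ∀ D : Subgroup G, D.Normal → IsPGroup p D → D = ⊥) (hpG : p ∣ Nat.card G) : False := by
  have hst : Cfsg.Agent.Lib.Transfer.FrobeniusStable p G := by
    intro D hD g hg hc
    by_cases hb : D = ⊥
    · subst hb
      rw [Subgroup.mem_centralizer_iff]
      intro x hx
      have : x = 1 := hx
      simp [this]
    have hne : normalizer (D : Set G) ≠ ⊤ := by
      intro h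
      have := Subgroup.normalizer_eq_top_iff.mp h
      exact hb (hno D this hD)
    obtain ⟨M', hM', hle⟩ := Cfsg.Agent.Lib.Basic.exists_isCoatom_ge hne
    have hDM' : D ≤ M' := Subgroup.le_normalizer.trans hle
    have hn' := hM M' hM' ((dvd_card_of_pgroup_ne_bot hD hb).trans (Subgroup.card_dvd_of_le hDM'))
    rw [Subgroup.mem_centralizer_iff]
    intro x hx
    refine Cfsg.Agent.Lib.Basic.commute_of_mem_nilpotent_of_coprime hn' (hDM' hx) (hle hg) ?_
    obtain ⟨k, hk⟩ := IsPGroup.iff_orderOf.mp hD ⟨x, hx⟩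
    rw [Subgroup.orderOf_mk] at hk
    rw [hk]
    exact Nat.Coprime.pow_left _ hc.symm
  obtain ⟨P, K, hKn, hKP⟩ := Cfsg.Agent.Lib.Transfer.hasNormalPComplement_of_stable hst
  have hcardKP : Nat.card K * Nat.card (P : Subgroup G) = Nat.card G := hKP.card_mul
  have hPcard : Nat.card (P : Subgroup G) * (P : Subgroup G).index = Nat.card G :=
    Subgroup.card_mul_index _
  have hKindex : Nat.card K = (P : Subgroup G).index := by
    have h3 : 0 < Nat.card (P : Subgroup G) := Nat.card_pos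
    refine Nat.eq_of_mul_eq_mul_left h3 ?_
    rw [hPcard, mul_comm]
    exact hcardKP
  have hpK : ¬ p ∣ Nat.card K := by
    rw [hKindex]
    exact P.not_dvd_index
  obtain ⟨n, hn⟩ := IsPGroup.iff_card.mp P.2
  have hquot : Nat.card (G ⧸ K) = Nat.card (P : Subgroup G) := by
    have h3 := Subgroup.card_eq_card_quotient_mul_card_subgroup K
    have h4 : 0 < Nat.card K := Nat.card_pos
    refine Nat.eq_of_mul_eq_mul_right h4 ?_
    rw [← h3, mul_comm, hcardKP]
  have hmemK : ∀ x : G, ¬ p ∣ orderOf x → x ∈ K := by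
    intro x hx
    refine mem_of_pow_mem_of_coprime (n := Nat.card (G ⧸ K)) K ?_ ?_
    · rw [hquot, hn]
      apply Nat.Coprime.pow_right
      exact ((Nat.Prime.coprime_iff_not_dvd hp.out).mpr hx).symm
    · rw [← QuotientGroup.eq_one_iff, QuotientGroup.mk_pow, pow_card_eq_one']
  have hpKne : K ≠ ⊤ := by
    intro h
    rw [h, Subgroup.card_top] at hpK
    exact hpK hpG
  have hM₁K : M₁ = K := by
    have hle : M₁ ≤ K := by
      intro x hx
      apply hmemK
      intro h
      apply hpM₁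
      have := orderOf_dvd_natCard (⟨x, hx⟩ : M₁)
      rw [Subgroup.orderOf_mk] at this
      exact h.trans this
    by_contra hne
    exact hpKne (hM₁.2 K (lt_of_le_of_ne hle hne))
  have hKnil : ¬ Group.IsNilpotent K := hM₁K ▸ hnil
  -- for each prime `q ≠ p`, some Sylow `q`-subgroup centralizes `P`
  have hq : ∀ (q : ℕ) [Fact q.Prime], q ≠ p → ∃ T : Sylow q G, (T : Subgroup G) ≤ centralizer ((P : Subgroup G) : Set G) := by
    intro q _ hqp
    obtain ⟨T⟩ : Nonempty (Sylow q G) := inferInstance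
    have hTK : (T : Subgroup G) ≤ K := by
      intro x hx
      apply hmemK
      obtain ⟨k, hk⟩ := IsPGroup.iff_orderOf.mp T.2 ⟨x, hx⟩
      rw [Subgroup.orderOf_mk] at hk
      rw [hk]
      intro h
      have h3 := (Nat.prime_dvd_prime_iff_eq hp.out (Fact.out : q.Prime)).mp (hp.out.dvd_of_dvd_pow h)
      exact hqp h3.symm
    have hF := Sylow.normalizer_sup_eq_top (T.subtype hTK)
    have hmap : ((T.subtype hTK : Sylow q K) : Subgroup K).map K.subtype = (T : Subgroup G) := by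
      rw [Sylow.coe_subtype, Subgroup.map_subgroupOf_eq_of_le hTK]
    rw [hmap] at hF
    obtain ⟨N, hN⟩ : ∃ N : Subgroup G, N = normalizer ((T : Subgroup G) : Set G) := ⟨_, rfl⟩
    rw [← hN] at hF
    have hF' : K ⊔ N = ⊤ := by rw [sup_comm]; exact hF
    have hc1 := card_sup_mul_inf_of_normal K N
    rw [hF', Subgroup.card_top] at hc1
    have hidx : N.index * Nat.card ↥(K ⊓ N) = Nat.card K := by
      have h3 := Subgroup.card_mul_index N
      have h4 : 0 < Nat.card N := Nat.card_pos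
      refine Nat.eq_of_mul_eq_mul_left h4 ?_
      rw [← mul_assoc, h3, hc1, mul_comm]
    have hpN : ¬ p ∣ N.index := fun h => hpK (hidx ▸ Dvd.dvd.mul_right h _)
    obtain ⟨P₀⟩ : Nonempty (Sylow p N) := inferInstance
    obtain ⟨P₁', hP₁'⟩ : ∃ P₁' : Subgroup G, P₁' = (P₀ : Subgroup N).map N.subtype := ⟨_, rfl⟩
    have hP₁'N : P₁' ≤ N := by
      rw [hP₁']
      exact Subgroup.map_subtype_le _
    have hP₁'p : IsPGroup p P₁' := by
      rw [hP₁']
      exact P₀.2.map _
    have hP₁'i : ¬ p ∣ P₁'.index := by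
      have h3 := Subgroup.relIndex_mul_index hP₁'N
      rw [← h3]
      intro h
      rcases (Nat.Prime.dvd_mul hp.out).mp h with h4 | h4
      · have h5 : P₁'.relIndex N = (P₀ : Subgroup N).index := by
          rw [Subgroup.relIndex, hP₁']
          show (Subgroup.comap N.subtype (map N.subtype (P₀ : Subgroup N))).index = _
          rw [Subgroup.comap_map_eq_self_of_injective N.subtype_injective]
        rw [h5] at h4
        exact P₀.not_dvd_index h4
      · exact hpN h4
    obtain ⟨P₁, hP₁⟩ := sylow_of_not_dvd_index hP₁'p hP₁'i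
    have hP₁N : (P₁ : Subgroup G) ≤ normalizer ((T : Subgroup G) : Set G) := by
      rw [hP₁, ← hN]
      exact hP₁'N
    -- `T ⊔ P₁` is proper
    have hcop : (Nat.card (T : Subgroup G)).Coprime (Nat.card (P₁ : Subgroup G)) := by
      exact IsPGroup.coprime_card_of_ne q p hqp _ _ T.2 P₁.2
    have hne : (T : Subgroup G) ⊔ (P₁ : Subgroup G) ≠ ⊤ := by
      intro h
      have h3 := card_sup_mul_inf (T : Subgroup G) (P₁ : Subgroup G) hP₁N
      rw [h, Subgroup.card_top, Subgroup.inf_eq_bot_of_coprime hcop, Subgroup.card_bot, mul_one] at h3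
      have h4 : Nat.card (P₁ : Subgroup G) = Nat.card (P : Subgroup G) :=
        (Sylow.card_eq_multiplicity P₁).trans (Sylow.card_eq_multiplicity P).symm
      rw [h4, ← hcardKP] at h3
      have h5 : Nat.card K = Nat.card (T : Subgroup G) := Nat.eq_of_mul_eq_mul_right Nat.card_pos h3
      have h6 : (T : Subgroup G) = K := Subgroup.eq_of_le_of_card_ge hTK h5.le
      apply hKnil
      rw [← h6]
      haveI : Fact q.Prime := inferInstance
      exact T.2.isNilpotent
    obtain ⟨M', hM', hle⟩ := Cfsg.Agent.Lib.Basic.exists_isCoatom_ge hne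
    have hP₁ne : (P₁ : Subgroup G) ≠ ⊥ := by
      intro h
      have h3 := P₁.not_dvd_index
      rw [h, Subgroup.index_bot] at h3
      exact h3 hpG
    have hp' : p ∣ Nat.card M' :=
      (dvd_card_of_pgroup_ne_bot P₁.2 hP₁ne).trans (Subgroup.card_dvd_of_le (le_sup_right.trans hle))
    have hn' := hM M' hM' hp'
    have hcommT : ∀ x ∈ (P₁ : Subgroup G), ∀ y ∈ (T : Subgroup G), x * y = y * x := by
      intro x hx y hy
      refine Cfsg.Agent.Lib.Basic.commute_of_mem_nilpotent_of_coprime hn' (le_sup_right.trans hle hx)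
        (le_sup_left.trans hle hy) ?_
      obtain ⟨k, hk⟩ := IsPGroup.iff_orderOf.mp P₁.2 ⟨x, hx⟩
      obtain ⟨l, hl⟩ := IsPGroup.iff_orderOf.mp T.2 ⟨y, hy⟩
      rw [Subgroup.orderOf_mk] at hk hl
      rw [hk, hl]
      exact Nat.Coprime.pow _ _ ((Nat.coprime_primes hp.out Fact.out).mpr hqp.symm)
    obtain ⟨g, hg⟩ := MulAction.exists_smul_eq G P P₁
    refine ⟨g⁻¹ • T, ?_⟩
    intro y hy
    rw [Subgroup.mem_centralizer_iff]
    intro x hx
    have hy' : g * y * g⁻¹ ∈ (T : Subgroup G) := by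
      have h0 : g⁻¹⁻¹ * y * g⁻¹ ∈ T := Cfsg.Agent.Lib.Transfer.mem_smul_sylow.mp hy
      rw [inv_inv] at h0
      exact h0
    have hx' : g * x * g⁻¹ ∈ (P₁ : Subgroup G) := by
      rw [← hg]
      exact Cfsg.Agent.Lib.Transfer.conj_mem_smul_sylow hx
    have h3 := hcommT _ hx' _ hy'
    exact comm_of_conj (g := g) h3
  have htop : centralizer ((P : Subgroup G) : Set G) ⊔ (P : Subgroup G) = ⊤ := by
    apply Cfsg.Agent.Lib.Basic.eq_top_of_forall_exists_sylow_le
    intro r _
    by_cases hr : r = p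
    · subst hr
      exact ⟨P, le_sup_right⟩
    · obtain ⟨T, hT⟩ := hq r hr
      exact ⟨T, hT.trans le_sup_left⟩
  have hPn : (P : Subgroup G).Normal := by
    rw [← Subgroup.normalizer_eq_top_iff, eq_top_iff, ← htop]
    exact sup_le (Subgroup.centralizer_le_normalizer _) Subgroup.le_normalizer
  have hbot := hno _ hPn P.2
  have h3 := P.not_dvd_index
  rw [hbot, Subgroup.index_bot] at h3
  exact h3 hpG

/-- Forward direction. -/
theorem maxnil_forward (hpG : p ∣ Nat.card G)
    (hM : ∀ M : Subgroup G, IsCoatom M → p ∣ Nat.card M → Group.IsNilpotent M) :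
    Group.IsNilpotent G ∨ IsMinimalNonNilpotent G ∨
        ∃ Z K : Subgroup G, Z.Normal ∧ K.Normal ∧ Z ⊓ K = ⊥ ∧ Z ⊔ K = ⊤ ∧ Nat.card Z = p ∧
          IsMinimalNonNilpotent K ∧ ¬ p ∣ Nat.card K := by
  by_cases hnil : Group.IsNilpotent G
  · exact Or.inl hnil
  right
  by_cases hmin : ∀ H : Subgroup G, H ≠ ⊤ → Group.IsNilpotent H
  · exact Or.inl ⟨hnil, hmin⟩
  right
  push_neg at hmin
  obtain ⟨H, hH, hHn⟩ := hmin
  obtain ⟨M₁, hM₁, hle⟩ := Cfsg.Agent.Lib.Basic.exists_isCoatom_ge hH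
  have hnM₁ : ¬ Group.IsNilpotent M₁ := fun h => hHn (nil_of_le hle h)
  have hpM₁ : ¬ p ∣ Nat.card M₁ := fun h => hnM₁ (hM M₁ hM₁ h)
  by_cases hno : ∀ D : Subgroup G, D.Normal → IsPGroup p D → D = ⊥
  · exact (maxnil_caseB hM hM₁ hnM₁ hpM₁ hno hpG).elim
  · push_neg at hno
    obtain ⟨D, hDn, hDp, hD⟩ := hno
    exact maxnil_caseC hM hM₁ hnM₁ hpM₁ hDn hDp hD

/-- Backward direction. -/
theorem maxnil_backward
    (h : Group.IsNilpotent G ∨ IsMinimalNonNilpotent G ∨
        ∃ Z K : Subgroup G, Z.Normal ∧ K.Normal ∧ Z ⊓ K = ⊥ ∧ Z ⊔ K = ⊤ ∧ Nat.card Z = p ∧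
          IsMinimalNonNilpotent K ∧ ¬ p ∣ Nat.card K) :
    ∀ M : Subgroup G, IsCoatom M → p ∣ Nat.card M → Group.IsNilpotent M := by
  intro M hM hpM
  rcases h with h | h | ⟨Z, K, hZ, hK, hinf, hsup, hcZ, hmin, hpK⟩
  · haveI := h
    infer_instance
  · exact h.2 M hM.1
  · -- `Z` lies in `M`
    obtain ⟨x, hx⟩ := exists_prime_orderOf_dvd_card' (G := ↥M) p hpM
    have hcard : Nat.card G = Nat.card Z * Nat.card K := by
      have := card_sup_eq_mul Z K hinf
      rwa [hsup, Subgroup.card_top] at this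
    have hquot : Nat.card (G ⧸ Z) = Nat.card K := by
      have h3 := Subgroup.card_eq_card_quotient_mul_card_subgroup Z
      refine Nat.eq_of_mul_eq_mul_right (Nat.card_pos (α := Z)) ?_
      rw [← h3, hcard, mul_comm]
    have hxZ : (x : G) ∈ Z := by
      refine mem_of_pow_mem_of_coprime (n := Nat.card (G ⧸ Z)) Z ?_ ?_
      · rw [hquot, Subgroup.orderOf_coe, hx]
        exact (Nat.Prime.coprime_iff_not_dvd hp.out).mpr hpK
      · rw [← QuotientGroup.eq_one_iff, QuotientGroup.mk_pow, pow_card_eq_one']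
    have hZM : Z ≤ M := by
      have h3 : zpowers (x : G) ≤ Z := by
        rw [Subgroup.zpowers_le]
        exact hxZ
      have h4 : zpowers (x : G) = Z := by
        apply Subgroup.eq_of_le_of_card_ge h3
        rw [hcZ, Nat.card_zpowers, Subgroup.orderOf_coe, hx]
      rw [← h4, Subgroup.zpowers_le]
      exact x.2
    have hcomm : ∀ a ∈ Z, ∀ b ∈ K, a * b = b * a := by
      intro a ha b hb
      have h3 : a * b * a⁻¹ * b⁻¹ ∈ Z ⊓ K := by
        constructor
        · have e : a * b * a⁻¹ * b⁻¹ = a * (b * a⁻¹ * b⁻¹) := by group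
          rw [SetLike.mem_coe, e]
          exact Z.mul_mem ha (hZ.conj_mem _ (Z.inv_mem ha) b)
        · exact K.mul_mem (hK.conj_mem _ hb a) (K.inv_mem hb)
      rw [hinf, Subgroup.mem_bot] at h3
      calc a * b = a * b * a⁻¹ * b⁻¹ * (b * a) := by group
        _ = b * a := by rw [h3, one_mul]
    have hne : M.subgroupOf K ≠ ⊤ := by
      intro h
      rw [Subgroup.subgroupOf_eq_top] at h
      apply hM.1
      rw [eq_top_iff, ← hsup]
      exact sup_le hZM h
    have hnil1 := hmin.2 _ hne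
    have hcen : ∀ z ∈ Z, ∀ g : G, g * z = z * g := by
      intro z hz g
      have hg : g ∈ Z ⊔ K := by rw [hsup]; exact Subgroup.mem_top g
      obtain ⟨a, ha, b, hb, rfl⟩ := Cfsg.Agent.Lib.Components.exists_mul_of_mem_sup_of_commutes hcomm hg
      have hZc : ∀ u ∈ Z, ∀ v ∈ Z, u * v = v * u := by
        intro u hu v hv
        have hcy : IsCyclic Z := isCyclic_of_prime_card hcZ
        letI := IsCyclic.commGroup (α := Z)
        exact congrArg Subtype.val (mul_comm (⟨u, hu⟩ : Z) ⟨v, hv⟩)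
      calc a * b * z = a * (b * z) := by group
        _ = a * (z * b) := by rw [hcomm z hz b hb]
        _ = (a * z) * b := by group
        _ = (z * a) * b := by rw [hZc a ha z hz]
        _ = _ := by group
    let f : ↥M →* G ⧸ Z := (QuotientGroup.mk' Z).comp M.subtype
    have hker : f.ker ≤ center ↥M := by
      intro y hy
      rw [MonoidHom.mem_ker] at hy
      have hy' : (y : G) ∈ Z := (QuotientGroup.eq_one_iff _).mp hy
      rw [Subgroup.mem_center_iff]
      intro g
      exact Subtype.ext (hcen _ hy' _)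
    have hr : f.range = (M ⊓ K).map (QuotientGroup.mk' Z) := by
      apply le_antisymm
      · rintro _ ⟨y, rfl⟩
        have hg : (y : G) ∈ Z ⊔ K := by rw [hsup]; exact Subgroup.mem_top _
        obtain ⟨a, ha, b, hb, hab⟩ := Cfsg.Agent.Lib.Components.exists_mul_of_mem_sup_of_commutes hcomm hg
        refine ⟨b, ⟨?_, hb⟩, ?_⟩
        · have e : b = a⁻¹ * y := by rw [hab]; group
          rw [SetLike.mem_coe, e]
          exact M.mul_mem (M.inv_mem (hZM ha)) y.2
        · show (QuotientGroup.mk b : G ⧸ Z) = QuotientGroup.mk (y : G)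
          rw [hab, QuotientGroup.eq]
          have e : b⁻¹ * (a * b) = b⁻¹ * a * b := by group
          rw [e]
          have h6 := hZ.conj_mem a ha b⁻¹
          rwa [inv_inv] at h6
      · rintro _ ⟨y, hy, rfl⟩
        exact ⟨⟨y, hy.1⟩, rfl⟩
    have hnr : Group.IsNilpotent f.range := by
      rw [hr]
      apply Cfsg.Agent.Lib.Basic.isNilpotent_map_of_isNilpotent
      have h5 : M ⊓ K = (M.subgroupOf K).map K.subtype := by
        rw [Subgroup.subgroupOf_map_subtype]
      rw [h5]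
      exact Cfsg.Agent.Lib.Basic.isNilpotent_map_of_isNilpotent _ hnil1
    haveI := hnr
    exact Subgroup.isNilpotent_of_ker_le_center f.rangeRestrict (by
      rw [MonoidHom.ker_rangeRestrict]
      exact hker)

theorem maxnil_iff (hpG : p ∣ Nat.card G) :
    (∀ M : Subgroup G, IsCoatom M → p ∣ Nat.card M → Group.IsNilpotent M) ↔
      (Group.IsNilpotent G ∨ IsMinimalNonNilpotent G ∨
        ∃ Z K : Subgroup G, Z.Normal ∧ K.Normal ∧ Z ⊓ K = ⊥ ∧ Z ⊔ K = ⊤ ∧ Nat.card Z = p ∧
          IsMinimalNonNilpotent K ∧ ¬ p ∣ Nat.card K) :=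
  ⟨maxnil_forward hpG, maxnil_backward⟩

end

end Cfsg.Agent.Lib.Struct
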