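import Mathlib
import Cfsg.Agent.Lib.LocalEven.StrongClosed
import Cfsg.Agent.Lib.Struct.Basic
import Cfsg.Agent.Lib.Struct.Sec4b
import Cfsg.Agent.Lib.Struct.Eigen
import Cfsg.Agent.Lib.Struct.Kulakoff2
import Cfsg.Agent.Lib.Struct.MaxNil

/-!
# Abelian Sylow 2-subgroups and 2-central 2-elements (Camina--Herzog)

If every 2-element of a finite group has odd class size then the Sylow 2-subgroups are abelian.
The involutions of a Sylow 2-subgroup commute (a cyclic 2-subgroup cannot be inverted), so they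
form a strongly closed abelian subgroup `T`, whose normalizer controls strong fusion.
-/

set_option autoImplicit false
set_option linter.unusedSectionVars false
set_option linter.style.haveILetI false
set_option linter.unusedVariables false

namespace Cfsg.Agent.Lib.Struct.CaminaHerzog

open Subgroup

universe u

/-- Every 2-element is 2-central. -/
def AllCentral (G : Type u) [Group G] : Prop :=
  ∀ x : G, (∃ k : ℕ, orderOf x = 2 ^ k) →
    ∃ Q : Sylow 2 G, (Q : Subgroup G) ≤ centralizer ({x} : Set G)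

/-- Every element of `P` is conjugate into the centre of `P`. -/
def CentralForm {G : Type u} [Group G] (P : Subgroup G) : Prop :=
  ∀ x ∈ P, ∃ g : G, g * x * g⁻¹ ∈ P ∧ ∀ y ∈ P, y * (g * x * g⁻¹) = (g * x * g⁻¹) * y

variable {G : Type u} [Group G] [Finite G]

theorem order_of_mem (Q : Sylow 2 G) {x : G} (hx : x ∈ (Q : Subgroup G)) :
    ∃ k : ℕ, orderOf x = 2 ^ k := by
  obtain ⟨k, hk⟩ := IsPGroup.iff_orderOf.1 Q.isPGroup' ⟨x, hx⟩
  exact ⟨k, by simpa using hk⟩

theorem isPGroup_zpowers {x : G} (h : ∃ k : ℕ, orderOf x = 2 ^ k) : IsPGroup 2 (zpowers x) := by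
  obtain ⟨k, hk⟩ := h
  apply IsPGroup.of_card (n := k)
  rw [Nat.card_zpowers, hk]

theorem mem_sylow_of_centralizes (Q : Sylow 2 G) {x : G} (h : ∃ k : ℕ, orderOf x = 2 ^ k)
    (hQ : (Q : Subgroup G) ≤ centralizer ({x} : Set G)) : x ∈ (Q : Subgroup G) := by
  have h1 : x ∈ normalizer ((Q : Subgroup G) : Set G) := by
    apply Struct.Eigen.mem_normalizer_of_conj_mem
    intro a ha
    have hc : a * x = x * a := mem_centralizer_singleton_iff.1 (hQ ha)
    have : x * a * x⁻¹ = a := by rw [← hc]; group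
    rwa [this]
  have h2 := (isPGroup_zpowers h).inf_normalizer_sylow Q
  exact (h2.le ⟨mem_zpowers x, h1⟩).2

theorem centralForm_of_all (hall : AllCentral G) (P : Sylow 2 G) :
    CentralForm (P : Subgroup G) := by
  intro x hx
  obtain ⟨Q, hQ⟩ := hall x (order_of_mem P hx)
  obtain ⟨g, hg⟩ := MulAction.exists_smul_eq G Q P
  have hmem : ∀ y, y ∈ (P : Subgroup G) ↔ g⁻¹ * y * g ∈ (Q : Subgroup G) := by
    intro y
    rw [← hg, Sylow.coe_subgroup_smul, Struct.mem_conj_smul]
  have hxQ := mem_sylow_of_centralizes Q (order_of_mem P hx) hQ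
  refine ⟨g, ?_, ?_⟩
  · rw [hmem]
    have : g⁻¹ * (g * x * g⁻¹) * g = x := by group
    rwa [this]
  · intro y hy
    have h1 := mem_centralizer_singleton_iff.1 (hQ ((hmem y).1 hy))
    calc y * (g * x * g⁻¹) = g * ((g⁻¹ * y * g) * x) * g⁻¹ := by group
      _ = g * (x * (g⁻¹ * y * g)) * g⁻¹ := by rw [h1]
      _ = _ := by group

theorem all_of_centralForm (P : Sylow 2 G) (h : CentralForm (P : Subgroup G)) : AllCentral G := by
  intro x hx
  obtain ⟨R, hR⟩ := (isPGroup_zpowers hx).exists_le_sylow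
  obtain ⟨m, hm⟩ := MulAction.exists_smul_eq G R P
  have hmem : ∀ y, y ∈ (P : Subgroup G) ↔ m⁻¹ * y * m ∈ (R : Subgroup G) := by
    intro y
    rw [← hm, Sylow.coe_subgroup_smul, Struct.mem_conj_smul]
  have hx1 : m * x * m⁻¹ ∈ (P : Subgroup G) := by
    rw [hmem]
    have : m⁻¹ * (m * x * m⁻¹) * m = x := by group
    rw [this]
    exact hR (mem_zpowers x)
  obtain ⟨g, hg1, hg2⟩ := h _ hx1
  refine ⟨(g * m)⁻¹ • P, ?_⟩
  intro y hy
  rw [Sylow.coe_subgroup_smul, Struct.mem_conj_smul] at hy
  rw [mem_centralizer_singleton_iff]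
  have hy' : g * m * y * (g * m)⁻¹ ∈ (P : Subgroup G) := by
    have : (g * m)⁻¹⁻¹ * y * (g * m)⁻¹ = g * m * y * (g * m)⁻¹ := by group
    rwa [this] at hy
  have h3 := hg2 _ hy'
  have h4 : g * m * y * (g * m)⁻¹ * (g * (m * x * m⁻¹) * g⁻¹) = (g * m) * (y * x) * (g * m)⁻¹ := by
    group
  have h5 : g * (m * x * m⁻¹) * g⁻¹ * (g * m * y * (g * m)⁻¹) = (g * m) * (x * y) * (g * m)⁻¹ := by
    group
  rw [h4, h5] at h3
  exact mul_left_cancel (mul_right_cancel h3)

/-- Two involutions whose product is a 2-element commute. -/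
theorem comm_invol (hall : AllCentral G) {x y : G} (hx : x * x = 1) (hy : y * y = 1)
    (hk : ∃ k : ℕ, orderOf (x * y) = 2 ^ k) : x * y = y * x := by
  obtain ⟨Q, hQ⟩ := hall (x * y) hk
  have hodd : ¬ 2 ∣ (centralizer ({x * y} : Set G)).index := Struct.not_dvd_index_of_sylow_le Q hQ
  by_cases hxC : x ∈ centralizer ({x * y} : Set G)
  · have h1 := mem_centralizer_singleton_iff.1 hxC
    have h2 : x * (x * y) = y := by rw [← mul_assoc, hx, one_mul]
    rw [h2] at h1
    calc x * y = x * (x * y * x) := by rw [← h1]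
      _ = (x * x) * y * x := by group
      _ = y * x := by rw [hx, one_mul]
  · exfalso
    have hxinv : x⁻¹ = x := inv_eq_of_mul_eq_one_left hx
    have hyinv : y⁻¹ = y := inv_eq_of_mul_eq_one_left hy
    have hu : x⁻¹ * (x * y) * x = (x * y)⁻¹ := by
      rw [mul_inv_rev, hxinv, hyinv, ← mul_assoc, hx, one_mul]
    have hnorm : zpowers x ≤ normalizer ((centralizer ({x * y} : Set G) : Subgroup G) : Set G) := by
      rw [zpowers_le]
      apply Struct.Eigen.mem_normalizer_of_conj_mem
      intro c hc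
      rw [mem_centralizer_singleton_iff] at hc ⊢
      have hc2 : c * (x * y)⁻¹ = (x * y)⁻¹ * c := by
        calc c * (x * y)⁻¹ = (x * y)⁻¹ * (x * y * c) * (x * y)⁻¹ := by group
          _ = (x * y)⁻¹ * (c * (x * y)) * (x * y)⁻¹ := by rw [hc]
          _ = (x * y)⁻¹ * c := by group
      calc x * c * x⁻¹ * (x * y) = x * c * (x⁻¹ * (x * y) * x) * x⁻¹ := by group
        _ = x * (c * (x * y)⁻¹) * x⁻¹ := by rw [hu]; group
        _ = x * ((x * y)⁻¹ * c) * x⁻¹ := by rw [hc2]
        _ = x * ((x⁻¹ * (x * y) * x) * c) * x⁻¹ := by rw [hu]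
        _ = (x * y) * (x * c * x⁻¹) := by group
    have hcard := Struct.card_sup_mul_inf _ _ hnorm
    have hx1 : x ≠ 1 := by
      rintro rfl
      exact hxC (one_mem _)
    have hord : orderOf x = 2 := orderOf_eq_prime (by rw [sq, hx]) hx1
    have hzc : Nat.card (zpowers x) = 2 := by rw [Nat.card_zpowers, hord]
    have hinf : centralizer ({x * y} : Set G) ⊓ zpowers x = ⊥ := by
      rw [eq_bot_iff]
      rintro a ⟨ha1, ha2⟩
      rw [mem_bot]
      obtain ⟨k, rfl⟩ := mem_zpowers_iff.1 ha2
      have hxx : x ^ 2 = 1 := by rw [sq, hx]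
      rcases Int.even_or_odd' k with ⟨n, rfl | rfl⟩
      · rw [zpow_mul]
        simp [hxx]
      · exfalso
        apply hxC
        have e : x ^ (2 * n + 1) = x := by
          rw [zpow_add, zpow_mul]
          simp [hxx]
        rw [e] at ha1
        exact ha1
    rw [hinf, hzc] at hcard
    simp only [Subgroup.card_bot, mul_one] at hcard
    have hdvd := Subgroup.card_subgroup_dvd_card (centralizer ({x * y} : Set G) ⊔ zpowers x)
    rw [hcard, ← Subgroup.card_mul_index (centralizer ({x * y} : Set G))] at hdvd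
    exact hodd (Nat.dvd_of_mul_dvd_mul_left Nat.card_pos hdvd)

/-- The subgroup of elements of `P` of order at most 2. -/
def invSub (P : Subgroup G) (hc : ∀ x ∈ P, ∀ y ∈ P, x * x = 1 → y * y = 1 → x * y = y * x) :
    Subgroup G where
  carrier := {t | t ∈ P ∧ t * t = 1}
  one_mem' := ⟨one_mem _, mul_one _⟩
  mul_mem' := by
    rintro a b ⟨ha, ha2⟩ ⟨hb, hb2⟩
    refine ⟨mul_mem ha hb, ?_⟩
    have := hc a ha b hb ha2 hb2
    calc a * b * (a * b) = a * (b * a) * b := by group
      _ = a * (a * b) * b := by rw [this]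
      _ = (a * a) * (b * b) := by group
      _ = 1 := by rw [ha2, hb2, one_mul]
  inv_mem' := by
    rintro a ⟨ha, ha2⟩
    have : a⁻¹ = a := inv_eq_of_mul_eq_one_left ha2
    rw [Set.mem_setOf_eq, this]
    exact ⟨ha, ha2⟩

theorem main_aux (n : ℕ) : ∀ (G : Type u) [Group G] [Finite G], Nat.card G = n → AllCentral G →
    ∀ P : Sylow 2 G, ∀ a ∈ (P : Subgroup G), ∀ b ∈ (P : Subgroup G), a * b = b * a := by
  induction n using Nat.strong_induction_on with
  | _ n ih =>
    intro G _ _ hn hall P
    have hcf := centralForm_of_all hall P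
    have hcomm : ∀ x ∈ (P : Subgroup G), ∀ y ∈ (P : Subgroup G), x * x = 1 → y * y = 1 →
        x * y = y * x := fun x hx y hy hxx hyy =>
      comm_invol hall hxx hyy (order_of_mem P (mul_mem hx hy))
    obtain ⟨T, hT⟩ : ∃ T : Subgroup G, T = invSub (P : Subgroup G) hcomm := ⟨_, rfl⟩
    have hTmem : ∀ t, t ∈ T ↔ t ∈ (P : Subgroup G) ∧ t * t = 1 := by
      intro t
      rw [hT]
      rfl
    have hTP : T ≤ (P : Subgroup G) := fun t ht => ((hTmem t).1 ht).1
    have hTab : ∀ a ∈ T, ∀ b ∈ T, a * b = b * a := fun a ha b hb =>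
      hcomm a (hTP ha) b (hTP hb) ((hTmem a).1 ha).2 ((hTmem b).1 hb).2
    have hconj2 : ∀ (g t : G), t * t = 1 → g * t * g⁻¹ * (g * t * g⁻¹) = 1 := by
      intro g t ht
      calc g * t * g⁻¹ * (g * t * g⁻¹) = g * (t * t) * g⁻¹ := by group
        _ = 1 := by rw [ht]; group
    have hTsc : Cfsg.IsStronglyClosed T (P : Subgroup G) :=
      ⟨hTP, fun x hx g hg => (hTmem _).2 ⟨hg, hconj2 g x ((hTmem x).1 hx).2⟩⟩
    by_cases hPt : (P : Subgroup G) = ⊥
    · intro a ha b hb
      rw [hPt, mem_bot] at ha hb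
      rw [ha, hb]
    have hTne : T ≠ ⊥ := by
      have hdvd : 2 ∣ Nat.card (P : Subgroup G) := by
        obtain ⟨k, hk⟩ := IsPGroup.iff_card.1 P.isPGroup'
        have h1 : Nat.card (P : Subgroup G) ≠ 1 := by
          intro h
          exact hPt ((Subgroup.card_eq_one).1 h)
        rw [hk] at h1 ⊢
        apply dvd_pow_self
        rintro rfl
        simp at h1
      obtain ⟨t, ht⟩ := exists_prime_orderOf_dvd_card' 2 hdvd
      intro hbot
      have ht0 : (t : G) ∈ T := by
        rw [hTmem]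
        refine ⟨t.2, ?_⟩
        have : (t : G) ^ 2 = 1 := by
          have h1 : orderOf (t : G) = 2 := by rw [Subgroup.orderOf_coe, ht]
          have h2 := pow_orderOf_eq_one (t : G)
          rwa [h1] at h2
        rwa [sq] at this
      rw [hbot, mem_bot] at ht0
      have h1 : orderOf (t : G) = 2 := by rw [Subgroup.orderOf_coe, ht]
      rw [ht0, orderOf_one] at h1
      omega
    have hcardT : 1 < Nat.card T := by
      rw [Finite.one_lt_card_iff_nontrivial]
      exact (Subgroup.nontrivial_iff_ne_bot T).2 hTne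
    by_cases hTn : T.Normal
    · -- the normal case
      have hlt : Nat.card (G ⧸ T) < n := by
        rw [← hn, Subgroup.card_eq_card_quotient_mul_card_subgroup T]
        exact lt_mul_of_one_lt_right Nat.card_pos hcardT
      let Pbar : Sylow 2 (G ⧸ T) := P.mapSurjective (QuotientGroup.mk'_surjective T)
      have hmemPbar : ∀ y ∈ (P : Subgroup G), (y : G ⧸ T) ∈ (Pbar : Subgroup (G ⧸ T)) := by
        intro y hy
        rw [Sylow.coe_mapSurjective]
        exact mem_map_of_mem _ hy
      have hcfQ : CentralForm (Pbar : Subgroup (G ⧸ T)) := by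
        intro x hx
        rw [Sylow.coe_mapSurjective] at hx
        obtain ⟨x₀, hx₀, rfl⟩ := hx
        obtain ⟨g, hg1, hg2⟩ := hcf x₀ hx₀
        refine ⟨(g : G ⧸ T), ?_, ?_⟩
        · exact hmemPbar _ hg1
        · intro y hy
          rw [Sylow.coe_mapSurjective] at hy
          obtain ⟨y₀, hy₀, rfl⟩ := hy
          have := congrArg (QuotientGroup.mk' T) (hg2 y₀ hy₀)
          simpa using this
      have hallQ : AllCentral (G ⧸ T) := all_of_centralForm Pbar hcfQ
      have hab := ih _ hlt (G ⧸ T) rfl hallQ Pbar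
      -- `P` centralizes `T`
      have hcT : ∀ t ∈ (P : Subgroup G), ∀ s ∈ T, t * s = s * t := by
        intro t ht s hs
        obtain ⟨g, hg1, hg2⟩ := hcf t ht
        have h1 : g * s * g⁻¹ ∈ T := hTn.conj_mem s hs g
        have h2 := hg2 _ (hTP h1)
        have e1 : g * s * g⁻¹ * (g * t * g⁻¹) = g * (s * t) * g⁻¹ := by group
        have e2 : g * t * g⁻¹ * (g * s * g⁻¹) = g * (t * s) * g⁻¹ := by group
        rw [e1, e2] at h2
        exact (mul_left_cancel (mul_right_cancel h2)).symm
      -- every element of `P` is central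
      intro x hx b hb
      obtain ⟨g, hg1, hg2⟩ := hcf x hx
      have hP₂ : ∀ y, y ∈ ((g⁻¹ • P : Sylow 2 G) : Subgroup G) ↔ g * y * g⁻¹ ∈ (P : Subgroup G) := by
        intro y
        rw [Sylow.coe_subgroup_smul, Struct.mem_conj_smul]
        have : g⁻¹⁻¹ * y * g⁻¹ = g * y * g⁻¹ := by group
        rw [this]
      have hCx : ∀ y ∈ ((g⁻¹ • P : Sylow 2 G) : Subgroup G), y * x = x * y := by
        intro y hy
        have h2 := hg2 _ ((hP₂ y).1 hy)
        have e1 : g * y * g⁻¹ * (g * x * g⁻¹) = g * (y * x) * g⁻¹ := by group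
        have e2 : g * x * g⁻¹ * (g * y * g⁻¹) = g * (x * y) * g⁻¹ := by group
        rw [e1, e2] at h2
        exact mul_left_cancel (mul_right_cancel h2)
      let C₁ : Subgroup G := (centralizer ({(x : G ⧸ T)} : Set (G ⧸ T))).comap (QuotientGroup.mk' T)
      have hmemC : ∀ y, y ∈ C₁ ↔ ((y : G ⧸ T)) * (x : G ⧸ T) = (x : G ⧸ T) * (y : G ⧸ T) := by
        intro y
        show (QuotientGroup.mk' T y) ∈ centralizer ({(x : G ⧸ T)} : Set (G ⧸ T)) ↔ _
        rw [mem_centralizer_singleton_iff]
        rfl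
      have hPC : (P : Subgroup G) ≤ C₁ := by
        intro y hy
        rw [hmemC]
        exact hab _ (hmemPbar y hy) _ (hmemPbar x hx)
      have hP₂C : ((g⁻¹ • P : Sylow 2 G) : Subgroup G) ≤ C₁ := by
        intro y hy
        rw [hmemC]
        have := congrArg (QuotientGroup.mk' T) (hCx y hy)
        simpa using this
      obtain ⟨c, hc, hcP⟩ := Struct.Kulakoff.exists_conj_in P (g⁻¹ • P) hPC hP₂C
      -- `w = c⁻¹ x c` is central in `P`
      have hw : ∀ y ∈ (P : Subgroup G), y * (c⁻¹ * x * c) = (c⁻¹ * x * c) * y := by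
        intro y hy
        have h1 : c * y * c⁻¹ ∈ ((g⁻¹ • P : Sylow 2 G) : Subgroup G) := by
          rw [hcP]
          exact ⟨y, hy, rfl⟩
        have h2 := hCx _ h1
        have e1 : c⁻¹ * (c * y * c⁻¹ * x) * c = y * (c⁻¹ * x * c) := by group
        have e2 : c⁻¹ * (x * (c * y * c⁻¹)) * c = (c⁻¹ * x * c) * y := by group
        rw [← e1, ← e2, h2]
      -- `m = x⁻¹ w ∈ T`
      have hm : x⁻¹ * (c⁻¹ * x * c) ∈ T := by
        rw [← QuotientGroup.eq_one_iff]
        have h1 := (hmemC c).1 hc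
        have h2 : ((x⁻¹ * (c⁻¹ * x * c) : G) : G ⧸ T) =
            (x : G ⧸ T)⁻¹ * ((c : G ⧸ T)⁻¹ * ((x : G ⧸ T) * (c : G ⧸ T))) := by
          simp [mul_assoc]
        rw [h2, ← h1]
        group
      have h3 := hcT b hb _ hm
      have h4 := hw b hb
      -- conclude
      have e1 : c⁻¹ * x * c = x * (x⁻¹ * (c⁻¹ * x * c)) := by group
      generalize x⁻¹ * (c⁻¹ * x * c) = m at e1 h3 hm
      rw [e1] at h4
      have h5 : b * x * m = x * b * m := by
        calc b * x * m = b * (x * m) := by group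
          _ = x * m * b := h4
          _ = x * (m * b) := by group
          _ = x * (b * m) := by rw [h3]
          _ = x * b * m := by group
      exact (mul_right_cancel h5).symm
    · -- the normalizer of `T` is proper
      have hPM : (P : Subgroup G) ≤ normalizer ((T : Subgroup G) : Set G) := by
        intro y hy
        apply Struct.Eigen.mem_normalizer_of_conj_mem
        intro t ht
        exact (hTmem _).2 ⟨mul_mem (mul_mem hy (hTP ht)) (inv_mem hy),
          hconj2 y t ((hTmem t).1 ht).2⟩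
      have hMne : normalizer ((T : Subgroup G) : Set G) ≠ ⊤ := by
        intro h
        exact hTn (Subgroup.normalizer_eq_top_iff.1 h)
      have hMlt : Nat.card (normalizer ((T : Subgroup G) : Set G)) < n := by
        rw [← hn, ← Subgroup.card_mul_index (normalizer ((T : Subgroup G) : Set G))]
        apply lt_mul_of_one_lt_right Nat.card_pos
        have h1 : (normalizer ((T : Subgroup G) : Set G)).index ≠ 1 := by
          rwa [Ne, Subgroup.index_eq_one]
        have h2 : (normalizer ((T : Subgroup G) : Set G)).index ≠ 0 := Subgroup.index_ne_zero_of_finite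
        omega
      let P₁ : Sylow 2 (normalizer ((T : Subgroup G) : Set G)) := P.subtype hPM
      have hmemP₁ : ∀ y : normalizer ((T : Subgroup G) : Set G),
          y ∈ (P₁ : Subgroup (normalizer ((T : Subgroup G) : Set G))) ↔ (y : G) ∈ (P : Subgroup G) := by
        intro y
        show y ∈ ((P.subtype hPM : Sylow 2 _) : Subgroup _) ↔ _
        rw [Sylow.coe_subtype, Subgroup.mem_subgroupOf]
      have hcfM : CentralForm (P₁ : Subgroup (normalizer ((T : Subgroup G) : Set G))) := by
        intro x hx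
        have hxP := (hmemP₁ x).1 hx
        obtain ⟨g, hg1, hg2⟩ := hcf _ hxP
        have hB : zpowers (x : G) ≤ (P : Subgroup G) := (zpowers_le).2 hxP
        have hgB : (zpowers (x : G)).map (MulAut.conj g).toMonoidHom ≤ (P : Subgroup G) := by
          rw [MonoidHom.map_zpowers, zpowers_le]
          exact hg1
        obtain ⟨h, hh, hb⟩ := Cfsg.Agent.Lib.LocalEven.strong_main P hTab hTsc _ _ rfl hB g hgB
        have hx' := hb x (mem_zpowers _)
        refine ⟨⟨h, hh⟩, ?_, ?_⟩
        · rw [hmemP₁]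
          show h * (x : G) * h⁻¹ ∈ (P : Subgroup G)
          rw [← hx']
          exact hg1
        · intro y hy
          apply Subtype.ext
          show (y : G) * (h * (x : G) * h⁻¹) = (h * (x : G) * h⁻¹) * (y : G)
          rw [← hx']
          exact hg2 _ ((hmemP₁ y).1 hy)
      have hallM := all_of_centralForm P₁ hcfM
      have hfin := ih _ hMlt _ rfl hallM P₁
      intro a ha b hb
      have h1 := hfin ⟨a, hPM ha⟩ ((hmemP₁ _).2 ha) ⟨b, hPM hb⟩ ((hmemP₁ _).2 hb)
      exact congrArg Subtype.val h1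

/-- Camina--Herzog: if every 2-element is 2-central, then the Sylow 2-subgroups are abelian. -/
theorem abelian_of_allCentral (hall : AllCentral G) (P : Sylow 2 G) :
    IsMulCommutative (P : Subgroup G) := by
  refine ⟨⟨fun a b => Subtype.ext ?_⟩⟩
  exact main_aux _ G rfl hall P a a.2 b b.2

theorem allCentral_of_abelian (P : Sylow 2 G) (h : IsMulCommutative (P : Subgroup G)) :
    AllCentral G := by
  refine all_of_centralForm P ?_
  intro x hx
  refine ⟨1, by simpa using hx, ?_⟩
  intro y hy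
  have := h.is_comm.comm (⟨y, hy⟩ : (P : Subgroup G)) ⟨x, hx⟩
  have h2 := congrArg Subtype.val this
  simpa using h2

theorem allCentral_of_odd (h : ∀ x : G, (∃ k : ℕ, orderOf x = 2 ^ k) →
    ¬ 2 ∣ (centralizer ({x} : Set G)).index) : AllCentral G := by
  intro x hx
  have hod := h x hx
  obtain ⟨R⟩ : Nonempty (Sylow 2 (centralizer ({x} : Set G))) := inferInstance
  have hp : IsPGroup 2 (((R : Subgroup (centralizer ({x} : Set G)))).map (centralizer ({x} : Set G)).subtype) :=
    R.isPGroup'.map _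
  have hi : ¬ 2 ∣ (((R : Subgroup (centralizer ({x} : Set G)))).map (centralizer ({x} : Set G)).subtype).index := by
    rw [Subgroup.index_map_subtype]
    intro hd
    rcases (Nat.Prime.dvd_mul Nat.prime_two).1 hd with h1 | h1
    · exact R.not_dvd_index h1
    · exact hod h1
  obtain ⟨Q, hQ⟩ := Struct.sylow_of_not_dvd_index hp hi
  refine ⟨Q, ?_⟩
  rw [hQ]
  rintro _ ⟨y, -, rfl⟩
  exact y.2

end Cfsg.Agent.Lib.Struct.CaminaHerzog
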