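import Mathlib
import Cfsg.Agent.Lib.Struct.Basic
import Cfsg.Agent.Lib.Struct.MaxNil
import Cfsg.Agent.Lib.Components.Layer
import Cfsg.Agent.Lib.Components.Layer2
import Cfsg.Agent.Lib.Basic.Core
import Cfsg.Agent.Lib.OddLocal.HallHigman
import Cfsg.Agent.Lib.Transfer.Tate

/-!
# Groups with cyclic Sylow `p`-subgroups and trivial `O_{p'}`
-/

set_option autoImplicit false

namespace Cfsg.Agent.Lib.Struct

open Subgroup Cfsg
open scoped Pointwise commutatorElement

/-- A central `p`-element of a perfect group with an abelian Sylow `p`-subgroup is trivial. -/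
theorem eq_one_of_mem_center_of_mem_sylow {X : Type*} [Group X] [Finite X] {p : ℕ} [hp : Fact p.Prime]
    (hperf : Group.IsPerfect X) (S : Sylow p X) (hS : ∀ a ∈ (S : Subgroup X), ∀ b ∈ (S : Subgroup X), a * b = b * a)
    {z : X} (hz : z ∈ center X) (hzS : z ∈ (S : Subgroup X)) : z = 1 := by
  classical
  letI : CommGroup ↥(S : Subgroup X) :=
    { (inferInstance : Group ↥(S : Subgroup X)) with
      mul_comm := fun a b => Subtype.ext (hS a a.2 b b.2) }
  haveI : (S : Subgroup X).FiniteIndex := inferInstance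
  let V : X →* ↥(S : Subgroup X) := MonoidHom.transfer (H := (S : Subgroup X)) (MonoidHom.id ↥(S : Subgroup X))
  have hV : ∀ x, V x = 1 := by
    have h1 : commutator X ≤ V.ker := by
      rw [commutator_def, Subgroup.commutator_le]
      intro a _ b _
      rw [MonoidHom.mem_ker, map_commutatorElement, commutatorElement_eq_one_iff_mul_comm]
      exact mul_comm _ _
    intro x
    have h3 : x ∈ commutator X := Group.IsPerfect.mem_commutator
    exact MonoidHom.mem_ker.mp (h1 h3)
  have hkey : ∀ (k : ℕ) (g₀ : X), g₀⁻¹ * z ^ k * g₀ ∈ (S : Subgroup X) → g₀⁻¹ * z ^ k * g₀ = z ^ k := by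
    intro k g₀ _
    have h3 : z ^ k ∈ center X := Subgroup.pow_mem _ hz k
    have h4 := (Subgroup.mem_center_iff.mp h3) g₀
    rw [mul_assoc, ← h4]
    group
  have h3 := MonoidHom.transfer_eq_pow (H := (S : Subgroup X)) (MonoidHom.id ↥(S : Subgroup X)) z hkey
  have h4 : V z = 1 := hV z
  have h5 : z ^ (S : Subgroup X).index = 1 := by
    have h6 : (⟨z ^ (S : Subgroup X).index, MonoidHom.transfer_eq_pow_aux z hkey⟩ : ↥(S : Subgroup X)) = 1 :=
      h3.symm.trans h4
    exact congrArg Subtype.val h6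
  obtain ⟨k, hk⟩ := IsPGroup.iff_orderOf.mp S.2 ⟨z, hzS⟩
  rw [Subgroup.orderOf_mk] at hk
  have h6 := orderOf_dvd_of_pow_eq_one h5
  rw [hk] at h6
  rcases Nat.eq_zero_or_pos k with h0 | h0
  · rw [h0, pow_zero] at hk
    exact orderOf_eq_one_iff.mp hk
  · exfalso
    exact S.not_dvd_index ((dvd_pow_self p h0.ne').trans h6)

/-- In a finite cyclic group the elements of exponent `n` are the powers of any element of order `n`. -/
theorem cyc_mem_zpowers {X : Type*} [Group X] [Finite X] [IsCyclic X] {x y : X} {n : ℕ} (hn : 0 < n)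
    (hx : orderOf x = n) (hy : y ^ n = 1) : y ∈ zpowers x := by
  classical
  haveI := Fintype.ofFinite X
  have h1 := IsCyclic.card_pow_eq_one_le (α := X) hn
  have h2 : (Finset.univ.filter fun a : X => a ∈ zpowers x) ⊆ (Finset.univ.filter fun a : X => a ^ n = 1) := by
    intro a ha
    rw [Finset.mem_filter] at ha ⊢
    refine ⟨ha.1, ?_⟩
    obtain ⟨i, rfl⟩ := Subgroup.mem_zpowers_iff.mp ha.2
    rw [← zpow_natCast, zpow_comm, zpow_natCast, ← hx, pow_orderOf_eq_one, one_zpow]
  have h3 : (Finset.univ.filter fun a : X => a ∈ zpowers x).card = n := by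
    rw [← Fintype.card_subtype, ← Nat.card_eq_fintype_card]
    rw [← hx, ← Nat.card_zpowers]
  have h4 := Finset.eq_of_subset_of_card_le h2 (by rw [h3]; exact h1)
  have h5 : y ∈ (Finset.univ.filter fun a : X => a ^ n = 1) := by
    rw [Finset.mem_filter]
    exact ⟨Finset.mem_univ _, hy⟩
  rw [← h4, Finset.mem_filter] at h5
  exact h5.2

section

variable {K : Type*} [Group K] [Finite K] {p : ℕ} [hp : Fact p.Prime]

theorem zpowers_of_commute (hcyc : ∀ P' : Sylow p K, IsCyclic ↥(P' : Subgroup K)) {x y : K}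
    (hx : orderOf x = p) (hy : orderOf y = p) (hxy : x * y = y * x) : y ∈ zpowers x := by
  have hpx : IsPGroup p (zpowers x) := by
    rw [IsPGroup.iff_card]
    exact ⟨1, by rw [Nat.card_zpowers, hx, pow_one]⟩
  have hpy : IsPGroup p (zpowers y) := by
    rw [IsPGroup.iff_card]
    exact ⟨1, by rw [Nat.card_zpowers, hy, pow_one]⟩
  have hn : zpowers x ≤ normalizer ((zpowers y : Subgroup K) : Set K) := by
    rw [Subgroup.zpowers_le]
    apply Cfsg.Agent.Lib.Basic.mem_normalizer_of_commute_all
    intro w hw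
    obtain ⟨i, rfl⟩ := Subgroup.mem_zpowers_iff.mp hw
    exact ((Commute.zpow_right (show Commute x y from hxy) i)).eq
  have hW := IsPGroup.to_sup_of_normal_right' hpx hpy hn
  obtain ⟨P', hP'⟩ := hW.exists_le_sylow
  have hxP : x ∈ (P' : Subgroup K) := hP' (Subgroup.mem_sup_left (Subgroup.mem_zpowers x))
  have hyP : y ∈ (P' : Subgroup K) := hP' (Subgroup.mem_sup_right (Subgroup.mem_zpowers y))
  haveI := hcyc P'
  have h3 := cyc_mem_zpowers (X := ↥(P' : Subgroup K)) (x := ⟨x, hxP⟩) (y := ⟨y, hyP⟩) (n := p) hp.out.pos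
    (by rw [Subgroup.orderOf_mk, hx]) (by
      apply Subtype.ext
      show y ^ p = 1
      rw [← hy, pow_orderOf_eq_one])
  obtain ⟨i, hi⟩ := Subgroup.mem_zpowers_iff.mp h3
  rw [Subgroup.mem_zpowers_iff]
  exact ⟨i, congrArg Subtype.val hi⟩

theorem nontrivial_of_quasisimple {X : Type*} [Group X] (h : IsQuasisimple X) : Nontrivial X := by
  by_contra hnt
  rw [not_nontrivial_iff_subsingleton] at hnt
  obtain ⟨_, hs⟩ := h
  have : Subsingleton (X ⧸ center X) := inferInstance
  exact not_subsingleton _ this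

/-- The homomorphism given by the action on a normal cyclic subgroup. -/
noncomputable def cycAct (N : Subgroup K) [N.Normal] [IsCyclic N] : K →* (ZMod (Nat.card N))ˣ :=
  (IsCyclic.mulAutMulEquiv ↥N).toMonoidHom.comp (MulAut.conjNormal (H := N))

theorem cycAct_eq_one_iff (N : Subgroup K) [N.Normal] [IsCyclic N] (g : K) :
    cycAct N g = 1 ↔ g ∈ centralizer (N : Set K) := by
  have h1 : cycAct N g = 1 ↔ MulAut.conjNormal (H := N) g = 1 := by
    rw [cycAct, MonoidHom.comp_apply]
    exact map_eq_one_iff _ (IsCyclic.mulAutMulEquiv ↥N).injective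
  rw [h1, Subgroup.mem_centralizer_iff]
  constructor
  · intro h n hn
    have h3 := congrArg (fun f : MulAut ↥N => ((f ⟨n, hn⟩ : ↥N) : K)) h
    simp only [MulAut.conjNormal_apply, MulAut.one_apply] at h3
    calc n * g = g * n * g⁻¹ * g := by rw [h3]
      _ = g * n := by group
  · intro h
    ext n
    simp only [MulAut.conjNormal_apply, MulAut.one_apply]
    rw [← h n n.2]
    group

/-- Case without components. -/
theorem cyc_case_A (hO : pPrimeCore p K = ⊥) (P : Sylow p K) (hP : IsCyclic ↥(P : Subgroup K))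
    (hpK : p ∣ Nat.card K) (hE : layer K = ⊥) :
    (P : Subgroup K).Normal ∧ centralizer ((P : Subgroup K) : Set K) = (P : Subgroup K) ∧
      (∀ (_ : (P : Subgroup K).Normal), IsCyclic (K ⧸ (P : Subgroup K))) ∧ (P : Subgroup K).index ∣ p - 1 := by
  classical
  have hFit : fittingSubgroup K = pCore p K := Cfsg.Agent.Lib.OddLocal.fittingSubgroup_eq_pCore hO
  have hgf : generalizedFittingSubgroup K = pCore p K := by
    rw [generalizedFittingSubgroup, hE, bot_sup_eq, hFit]
  have hcen : centralizer (pCore p K : Set K) ≤ pCore p K := by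
    have := Cfsg.Agent.Lib.Components.centralizer_gfit_le (G := K)
    rwa [hgf] at this
  have hQP : pCore p K ≤ (P : Subgroup K) := Cfsg.Agent.Lib.Basic.pCore_le_sylow P
  haveI hQc : IsCyclic ↥(pCore p K) :=
    isCyclic_of_injective (Subgroup.inclusion hQP) (Subgroup.inclusion_injective hQP)
  have hcomm : commutator K ≤ pCore p K := by
    refine le_trans ?_ hcen
    rw [commutator_def, Subgroup.commutator_le]
    intro a _ b _
    rw [← cycAct_eq_one_iff (pCore p K), map_commutatorElement, commutatorElement_eq_one_iff_mul_comm]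
    exact mul_comm _ _
  have hPn : (P : Subgroup K).Normal := by
    constructor
    intro x hx g
    have h3 : g * x * g⁻¹ * x⁻¹ ∈ commutator K := by
      rw [commutator_def]
      exact Subgroup.commutator_mem_commutator (Subgroup.mem_top g) (Subgroup.mem_top x)
    have h4 : g * x * g⁻¹ = (g * x * g⁻¹ * x⁻¹) * x := by group
    rw [h4]
    exact (P : Subgroup K).mul_mem (hQP (hcomm h3)) hx
  have hPQ : (P : Subgroup K) = pCore p K :=
    le_antisymm (Cfsg.Agent.Lib.Basic.le_pCore hPn P.2) hQP
  have hPc : ∀ a ∈ (P : Subgroup K), ∀ b ∈ (P : Subgroup K), a * b = b * a := by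
    intro a ha b hb
    letI := IsCyclic.commGroup (α := ↥(P : Subgroup K))
    exact congrArg Subtype.val (mul_comm (⟨a, ha⟩ : ↥(P : Subgroup K)) ⟨b, hb⟩)
  have hCP : centralizer ((P : Subgroup K) : Set K) = (P : Subgroup K) := by
    apply le_antisymm
    · rw [hPQ]
      exact hcen
    · intro a ha
      rw [Subgroup.mem_centralizer_iff]
      intro b hb
      exact hPc b hb a ha
  have hPne : (P : Subgroup K) ≠ ⊥ := by
    intro h
    have h3 := P.not_dvd_index
    rw [h, Subgroup.index_bot] at h3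
    exact h3 hpK
  obtain ⟨m, hm⟩ := IsPGroup.iff_card.mp P.2
  have hm0 : m ≠ 0 := by
    intro h0
    rw [h0, pow_zero] at hm
    exact hPne (Subgroup.eq_bot_of_card_eq _ hm)
  have hdvd : p ∣ Nat.card (P : Subgroup K) := by
    rw [hm]
    exact dvd_pow_self p hm0
  haveI : NeZero (Nat.card (P : Subgroup K)) := ⟨Nat.card_pos.ne'⟩
  let π : (ZMod (Nat.card (P : Subgroup K)))ˣ →* (ZMod p)ˣ := ZMod.unitsMap hdvd
  have hπs : Function.Surjective π := ZMod.unitsMap_surjective hdvd
  let ψ : K →* (ZMod p)ˣ := π.comp (cycAct (P : Subgroup K))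
  have hcardker : Nat.card π.ker = p ^ (m - 1) := by
    have h3 := Subgroup.card_eq_card_quotient_mul_card_subgroup π.ker
    have h4 : Nat.card ((ZMod (Nat.card (P : Subgroup K)))ˣ ⧸ π.ker) = Nat.card (ZMod p)ˣ :=
      Nat.card_congr (QuotientGroup.quotientKerEquivOfSurjective π hπs).toEquiv
    have h7 : (Nat.card (P : Subgroup K)).totient = p ^ (m - 1) * (p - 1) := by
      rw [hm, Nat.totient_prime_pow hp.out (Nat.pos_of_ne_zero hm0)]
    rw [h4, Nat.card_eq_fintype_card, Nat.card_eq_fintype_card (α := (ZMod p)ˣ), ZMod.card_units_eq_totient,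
      ZMod.card_units_eq_totient, h7,
      Nat.totient_prime hp.out] at h3
    have h5 : 0 < p - 1 := Nat.sub_pos_of_lt hp.out.one_lt
    have h6 : p ^ (m - 1) * (p - 1) = (p - 1) * Nat.card π.ker := by
      simpa using h3
    rw [mul_comm] at h6
    exact (Nat.eq_of_mul_eq_mul_left h5 h6).symm
  have hker : ψ.ker = (P : Subgroup K) := by
    apply le_antisymm
    · intro y hy
      have h3 : cycAct (P : Subgroup K) y ∈ π.ker := hy
      have h4 : (cycAct (P : Subgroup K) y) ^ (p ^ (m - 1)) = 1 := by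
        have h5 := pow_card_eq_one' (x := (⟨_, h3⟩ : π.ker))
        rw [hcardker] at h5
        exact congrArg Subtype.val h5
      rw [← map_pow, cycAct_eq_one_iff, hCP] at h4
      have h5 : (y ^ (p ^ (m - 1))) ^ (p ^ m) = 1 := by
        have h6 := pow_card_eq_one' (x := (⟨_, h4⟩ : ↥(P : Subgroup K)))
        rw [hm] at h6
        exact congrArg Subtype.val h6
      rw [← pow_mul, ← pow_add] at h5
      have hyp : IsPGroup p (zpowers y) := by
        rw [IsPGroup.iff_card, Nat.card_zpowers]
        have h6 := orderOf_dvd_of_pow_eq_one h5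
        obtain ⟨k, -, hk⟩ := (Nat.dvd_prime_pow hp.out).mp h6
        exact ⟨k, hk⟩
      obtain ⟨P', hP'⟩ := hyp.exists_le_sylow
      obtain ⟨g, hg⟩ := MulAction.exists_smul_eq K P P'
      haveI : (P : Subgroup K).Normal := hPn
      have h7 : g • P = P := Sylow.smul_eq_of_normal
      rw [← hg, h7] at hP'
      exact hP' (Subgroup.mem_zpowers y)
    · intro a ha
      have h3 : cycAct (P : Subgroup K) a = 1 := by
        rw [cycAct_eq_one_iff, hCP]
        exact ha
      show π (cycAct (P : Subgroup K) a) = 1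
      rw [h3, map_one]
  refine ⟨hPn, hCP, ?_, ?_⟩
  · intro hn
    let f : K ⧸ (P : Subgroup K) →* (ZMod p)ˣ := QuotientGroup.lift _ ψ (fun x hx => by
      have : x ∈ ψ.ker := by rw [hker]; exact hx
      exact this)
    have hf : Function.Injective f := by
      rw [injective_iff_map_eq_one]
      intro a ha
      induction a using QuotientGroup.induction_on with
      | H x =>
      have h3 : ψ x = 1 := ha
      have h4 : x ∈ ψ.ker := h3
      rw [hker] at h4
      exact (QuotientGroup.eq_one_iff x).mpr h4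
    exact isCyclic_of_injective f hf
  · haveI : (P : Subgroup K).Normal := hPn
    let f : K ⧸ (P : Subgroup K) →* (ZMod p)ˣ := QuotientGroup.lift _ ψ (fun x hx => by
      have : x ∈ ψ.ker := by rw [hker]; exact hx
      exact this)
    have hf : Function.Injective f := by
      rw [injective_iff_map_eq_one]
      intro a ha
      induction a using QuotientGroup.induction_on with
      | H x =>
      have h3 : ψ x = 1 := ha
      have h4 : x ∈ ψ.ker := h3
      rw [hker] at h4
      exact (QuotientGroup.eq_one_iff x).mpr h4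
    have h3 := Subgroup.card_dvd_of_injective f hf
    rw [Nat.card_eq_fintype_card (α := (ZMod p)ˣ), ZMod.card_units_eq_totient, Nat.totient_prime hp.out] at h3
    exact h3

/-- Case with a component. -/
theorem cyc_case_B (hO : pPrimeCore p K = ⊥) (P : Sylow p K) (hP : IsCyclic ↥(P : Subgroup K))
    {L : Subgroup K} (hL : IsComponent L) :
    IsSimpleGroup ↥(generalizedFittingSubgroup K) ∧ ¬ IsMulCommutative ↥(generalizedFittingSubgroup K) ∧
      ¬ p ∣ (generalizedFittingSubgroup K).index := by
  classical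
  have hFit : fittingSubgroup K = pCore p K := Cfsg.Agent.Lib.OddLocal.fittingSubgroup_eq_pCore hO
  have hcyc : ∀ P' : Sylow p K, IsCyclic ↥(P' : Subgroup K) := fun P' =>
    isCyclic_of_surjective (P.equiv P') (P.equiv P').surjective
  have hA : ∀ L' : Subgroup K, IsComponent L' → (∃ x ∈ L', orderOf x = p) ∧ (∀ z ∈ center ↥L', z = 1) := by
    intro L' hL'
    haveI hnt := nontrivial_of_quasisimple hL'.2
    have hdvd : p ∣ Nat.card L' := by
      by_contra h
      have h3 := Cfsg.Agent.Lib.Components.subnormal_le_pPrimeCore hL'.1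
        (((Nat.Prime.coprime_iff_not_dvd hp.out).mpr h).symm)
      rw [hO] at h3
      obtain ⟨a, ha⟩ := exists_ne (1 : L')
      exact ha (Subtype.ext (h3 a.2))
    refine ⟨?_, ?_⟩
    · obtain ⟨x, hx⟩ := exists_prime_orderOf_dvd_card' (G := ↥L') p hdvd
      exact ⟨x, x.2, by rw [Subgroup.orderOf_coe]; exact hx⟩
    · intro z hz
      have hZsn : ((center ↥L').map L'.subtype).IsSubnormal :=
        IsSubnormal.trans' (inferInstance : (center ↥L').Normal).isSubnormal hL'.1
      have hZnil : Group.IsNilpotent ((center ↥L').map L'.subtype) := by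
        apply Cfsg.Agent.Lib.Components.isNilpotent_of_forall_commute
        rintro ⟨_, a, ha, rfl⟩ ⟨_, b, hb, rfl⟩
        have h0 := (Subgroup.mem_center_iff.mp ha b).symm
        have h1 : (a : K) * (b : K) = (b : K) * (a : K) := congrArg Subtype.val h0
        exact Subtype.ext h1
      have h3 := Cfsg.Agent.Lib.Components.subnormal_le_fitting hZsn hZnil
      rw [hFit] at h3
      have h4 : IsPGroup p ↥(center ↥L') := by
        rw [IsPGroup.iff_orderOf]
        intro w
        have h5 : ((w : ↥L') : K) ∈ pCore p K := h3 ⟨_, w.2, rfl⟩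
        obtain ⟨k, hk⟩ := IsPGroup.iff_orderOf.mp (Cfsg.Agent.Lib.Basic.pCore_isPGroup (G := K) p) ⟨_, h5⟩
        refine ⟨k, ?_⟩
        rw [Subgroup.orderOf_mk] at hk
        rw [← hk, Subgroup.orderOf_coe, Subgroup.orderOf_coe]
      obtain ⟨S₀⟩ : Nonempty (Sylow p ↥L') := inferInstance
      have h5 : center ↥L' ≤ (S₀ : Subgroup ↥L') :=
        (Cfsg.Agent.Lib.Basic.le_pCore inferInstance h4).trans (Cfsg.Agent.Lib.Basic.pCore_le_sylow S₀)
      refine eq_one_of_mem_center_of_mem_sylow hL'.2.1 S₀ ?_ hz (h5 hz)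
      intro a ha b hb
      have h6 : IsPGroup p ↥((S₀ : Subgroup ↥L').map L'.subtype) := S₀.2.map _
      obtain ⟨P', hP'⟩ := h6.exists_le_sylow
      haveI := hcyc P'
      letI := IsCyclic.commGroup (α := ↥(P' : Subgroup K))
      have h7 := mul_comm (⟨(a : K), hP' ⟨a, ha, rfl⟩⟩ : ↥(P' : Subgroup K)) ⟨(b : K), hP' ⟨b, hb, rfl⟩⟩
      have h8 : (a : K) * (b : K) = (b : K) * (a : K) := congrArg Subtype.val h7
      exact Subtype.ext h8
  have huniq : ∀ L' : Subgroup K, IsComponent L' → L' = L := by
    intro L' hL'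
    by_contra hne
    obtain ⟨⟨x, hxL, hx⟩, _⟩ := hA L' hL'
    obtain ⟨⟨y, hyL, hy⟩, hc⟩ := hA L hL
    have hcomm := Cfsg.Agent.Lib.Components.component_commutes hL' hL hne
    have h3 := zpowers_of_commute hcyc hy hx ((hcomm x hxL y hyL).symm)
    have hxL2 : x ∈ L := (Subgroup.zpowers_le.mpr hyL) h3
    have h4 : (⟨x, hxL2⟩ : ↥L) ∈ center ↥L := by
      rw [Subgroup.mem_center_iff]
      intro g
      exact Subtype.ext (hcomm x hxL g g.2).symm
    have h5 := hc _ h4
    have h6 : x = 1 := congrArg Subtype.val h5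
    rw [h6, orderOf_one] at hx
    exact hp.out.one_lt.ne hx
  have hLay : layer K = L :=
    le_antisymm (Cfsg.Agent.Lib.Components.layer_le fun L' hL' => (huniq L' hL').le)
      (Cfsg.Agent.Lib.Components.component_le_layer hL)
  haveI hLn : L.Normal := hLay ▸ (Cfsg.Agent.Lib.Components.layer_normal (G := K))
  obtain ⟨⟨y, hyL, hy⟩, hc⟩ := hA L hL
  have hQ : pCore p K = ⊥ := by
    by_contra hne
    have hdvd := dvd_card_of_pgroup_ne_bot (Cfsg.Agent.Lib.Basic.pCore_isPGroup (G := K) p) hne
    obtain ⟨x, hx⟩ := exists_prime_orderOf_dvd_card' (G := ↥(pCore p K)) p hdvd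
    replace hx : orderOf (x : K) = p := by rw [Subgroup.orderOf_coe]; exact hx
    have hcomm : ∀ l ∈ L, ∀ q ∈ pCore p K, l * q = q * l := by
      intro l hl q hq
      have h3 := Cfsg.Agent.Lib.Components.layer_le_centralizer_fitting (G := K)
      rw [hLay, hFit] at h3
      exact ((Subgroup.mem_centralizer_iff.mp (h3 hl)) q hq).symm
    have h3 := zpowers_of_commute hcyc hy hx (hcomm y hyL x x.2)
    have hxL2 : (x : K) ∈ L := (Subgroup.zpowers_le.mpr hyL) h3
    have h4 : (⟨(x : K), hxL2⟩ : ↥L) ∈ center ↥L := by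
      rw [Subgroup.mem_center_iff]
      intro g
      exact Subtype.ext (hcomm g g.2 x x.2)
    have h5 := hc _ h4
    have h6 : (x : K) = 1 := congrArg Subtype.val h5
    rw [h6, orderOf_one] at hx
    exact hp.out.one_lt.ne hx
  have hgf : generalizedFittingSubgroup K = L := by
    rw [generalizedFittingSubgroup, hLay, hFit, hQ, sup_bot_eq]
  rw [hgf]
  have hcbot : center ↥L = ⊥ := by
    rw [eq_bot_iff]
    intro z hz
    exact hc z hz
  have hsimple : IsSimpleGroup ↥L := by
    have e : ↥L ⧸ center ↥L ≃* ↥L := (QuotientGroup.quotientMulEquivOfEq hcbot).trans QuotientGroup.quotientBot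
    haveI := hL.2.2
    exact e.symm.isSimpleGroup
  haveI hnt := nontrivial_of_quasisimple hL.2
  have hdvd : p ∣ Nat.card L := by
    have h3 := orderOf_dvd_natCard (⟨y, hyL⟩ : ↥L)
    rwa [Subgroup.orderOf_mk, hy] at h3
  refine ⟨hsimple, ?_, ?_⟩
  · intro hc'
    have h3 : center ↥L = ⊤ := by
      rw [eq_top_iff]
      intro a _
      rw [Subgroup.mem_center_iff]
      intro g
      exact hc'.is_comm.comm g a
    rw [hcbot] at h3
    exact bot_ne_top h3
  · by_cases hPL : (P : Subgroup K) ≤ L
    · exact Cfsg.Agent.Lib.Struct.not_dvd_index_of_sylow_le P hPL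
    · exfalso
      have hfr : L ⊓ (P : Subgroup K) ≤ (frattini ↥(P : Subgroup K)).map (P : Subgroup K).subtype := by
        rintro x ⟨hxL, hxP⟩
        obtain ⟨g, hg⟩ := IsCyclic.exists_generator (α := ↥(P : Subgroup K))
        have hx' := hg ⟨x, hxP⟩
        rw [← mem_powers_iff_mem_zpowers] at hx'
        obtain ⟨k, hk'⟩ := hx'
        have hk : g ^ k = ⟨x, hxP⟩ := hk'
        refine ⟨⟨x, hxP⟩, ?_, rfl⟩
        by_cases hpk : p ∣ k
        · obtain ⟨j, rfl⟩ := hpk
          rw [← hk, mul_comm, pow_mul]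
          exact Cfsg.Agent.Lib.Basic.pow_mem_frattini_of_isPGroup P.2 _
        · exfalso
          apply hPL
          obtain ⟨n, hn⟩ := IsPGroup.iff_orderOf.mp P.2 g
          have hcop : (orderOf g).Coprime k := by
            rw [hn]
            apply Nat.Coprime.pow_left
            exact (Nat.Prime.coprime_iff_not_dvd hp.out).mpr hpk
          have hgk := Cfsg.Agent.Lib.Struct.mem_zpowers_pow_of_coprime hcop
          rw [hk] at hgk
          intro w hw
          have h3 := hg ⟨w, hw⟩
          have h4 : (⟨w, hw⟩ : ↥(P : Subgroup K)) ∈ zpowers (⟨x, hxP⟩ : ↥(P : Subgroup K)) :=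
            (Subgroup.zpowers_le.mpr hgk) h3
          obtain ⟨i, hi⟩ := Subgroup.mem_zpowers_iff.mp h4
          have h5 : x ^ i = w := congrArg Subtype.val hi
          rw [← h5]
          exact L.zpow_mem hxL i
      obtain ⟨S, C, hCn, hCc⟩ := Cfsg.Agent.Lib.Transfer.tate_hasNormalPComplement P L hfr
      have hcard := hCc.card_mul
      rcases hsimple.eq_bot_or_eq_top_of_normal C hCn with hC | hC
      · rw [hC, Subgroup.card_bot, one_mul] at hcard
        have hpL : IsPGroup p ↥L := by
          obtain ⟨k, hk⟩ := IsPGroup.iff_card.mp S.2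
          exact IsPGroup.of_card (n := k) (by rw [← hcard, hk])
        haveI : Group.IsNilpotent ↥L := hpL.isNilpotent
        exact (Group.IsNilpotent.center_ne_bot ↥L) hcbot
      · rw [hC, Subgroup.card_top] at hcard
        have h3 : Nat.card (S : Subgroup ↥L) = 1 :=
          Nat.eq_of_mul_eq_mul_left Nat.card_pos (by rw [hcard, mul_one])
        have h4 := S.not_dvd_index
        rw [Subgroup.eq_bot_of_card_eq _ h3, Subgroup.index_bot] at h4
        exact h4 hdvd

/-- The theorem on cyclic Sylow subgroups with trivial `O_{p'}`. -/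
theorem cyclic_sylow_main (hp' : p ∣ Nat.card K) (hO : pPrimeCore p K = ⊥)
    (P : Sylow p K) (hP : IsCyclic ↥(P : Subgroup K)) :
    ((P : Subgroup K).Normal ∧ centralizer ((P : Subgroup K) : Set K) = (P : Subgroup K) ∧
      (∀ (_ : (P : Subgroup K).Normal), IsCyclic (K ⧸ (P : Subgroup K))) ∧ (P : Subgroup K).index ∣ p - 1) ∨
    (IsSimpleGroup ↥(generalizedFittingSubgroup K) ∧ ¬ IsMulCommutative ↥(generalizedFittingSubgroup K) ∧
      ¬ p ∣ (generalizedFittingSubgroup K).index) := by
  by_cases h : ∃ L : Subgroup K, IsComponent L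
  · obtain ⟨L, hL⟩ := h
    exact Or.inr (cyc_case_B hO P hP hL)
  · left
    refine cyc_case_A hO P hP hp' ?_
    rw [eq_bot_iff]
    apply Cfsg.Agent.Lib.Components.layer_le
    intro L hL
    exact absurd ⟨L, hL⟩ h

end

end Cfsg.Agent.Lib.Struct
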