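import Mathlib
import Cfsg.Agent.Lib.Basic.Nilpotent

/-! # The counting lemma behind the Hughes subgroup

If `z, b` are commuting automorphisms of order dividing `p` of a finite abelian group of order prime
to `p`, and all `z ^ i * b` act without fixed points, then `z = 1`. -/

set_option autoImplicit false

namespace Cfsg.Agent.Lib.Struct.Hughes

open Subgroup

section K

variable {V : Type*} [CommGroup V] {p : ℕ} [hp : Fact p.Prime]

/-- The norm of an automorphism. -/
noncomputable def normAct (p : ℕ) [Fact p.Prime] (g : MulAut V) (v : V) : V :=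
  ∏ j : ZMod p, (g ^ j.val) v

lemma pow_val_mul {M : Type*} [Monoid M] {g : M} (hg : g ^ p = 1) (a b : ZMod p) :
    g ^ (a.val * b.val) = g ^ ((a * b).val) := by
  rw [ZMod.val_mul, ← pow_eq_pow_mod _ hg]

lemma pow_val_add {M : Type*} [Monoid M] {g : M} (hg : g ^ p = 1) (a b : ZMod p) :
    g ^ (a.val + b.val) = g ^ ((a + b).val) := by
  rw [ZMod.val_add, ← pow_eq_pow_mod _ hg]

lemma normAct_fixed (g : MulAut V) (hg : g ^ p = 1) (v : V) :
    g (normAct p g v) = normAct p g v := by
  unfold normAct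
  rw [map_prod]
  refine Fintype.prod_equiv (Equiv.addLeft (1 : ZMod p)) _ _ fun j => ?_
  have h1 : (g ^ ((1 : ZMod p) + j).val) = g ^ ((1 : ZMod p).val + j.val) := (pow_val_add hg _ _).symm
  have h2 : (1 : ZMod p).val = 1 := by
    haveI : Fact (1 < p) := ⟨hp.out.one_lt⟩
    exact ZMod.val_one p
  show g ((g ^ j.val) v) = (g ^ ((1 : ZMod p) + j).val) v
  rw [h1, h2, add_comm, pow_succ']
  rfl

lemma normAct_prod {ι : Type*} (s : Finset ι) (g : MulAut V) (f : ι → V) :
    normAct p g (∏ i ∈ s, f i) = ∏ i ∈ s, normAct p g (f i) := by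
  unfold normAct
  simp only [map_prod]
  exact Finset.prod_comm

lemma normAct_one (g : MulAut V) : normAct p g 1 = 1 := by
  unfold normAct
  simp

theorem lemmaK [Finite V] (hc : (Nat.card V).Coprime p) (z b : MulAut V) (hzb : Commute z b)
    (hz : z ^ p = 1) (hb : b ^ p = 1) (hf : ∀ i : ZMod p, ∀ v : V, (z ^ i.val * b) v = v → v = 1) :
    z = 1 := by
  classical
  have h0 : ∀ (i : ZMod p) (v : V), normAct p (z ^ i.val * b) v = 1 := by
    intro i v
    apply hf i
    apply normAct_fixed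
    rw [(hzb.pow_left _).mul_pow, ← pow_mul, mul_comm, pow_mul, hz, one_pow, hb, one_mul]
  have h1 : ∀ v : V, normAct p b v = 1 := by
    intro v
    have := h0 0 v
    simpa using this
  have hmain : ∀ v : V, normAct p z v = v ^ p := by
    intro v
    have ht : (∏ i : ZMod p, normAct p (z ^ i.val * b) v) = 1 :=
      Finset.prod_eq_one fun i _ => h0 i v
    have hterm : ∀ i j : ZMod p, ((z ^ i.val * b) ^ j.val) v = (z ^ (i * j).val) ((b ^ j.val) v) := by
      intro i j
      rw [(hzb.pow_left _).mul_pow, ← pow_mul, pow_val_mul hz]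
      rfl
    have ht2 : (∏ j : ZMod p, ∏ i : ZMod p, (z ^ (i * j).val) ((b ^ j.val) v)) = 1 := by
      rw [Finset.prod_comm, ← ht]
      refine Finset.prod_congr rfl fun i _ => ?_
      unfold normAct
      exact Finset.prod_congr rfl fun j _ => (hterm i j).symm
    have hF : ∀ j : ZMod p, j ≠ 0 →
        (∏ i : ZMod p, (z ^ (i * j).val) ((b ^ j.val) v)) = normAct p z ((b ^ j.val) v) := by
      intro j hj
      unfold normAct
      haveI : Fact p.Prime := hp
      exact Fintype.prod_equiv (Equiv.mulRight₀ j hj) _ _ fun i => rfl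
    have hF0 : (∏ i : ZMod p, (z ^ (i * 0).val) ((b ^ (0 : ZMod p).val) v)) = v ^ p := by
      simp [ZMod.card p]
    have hG : (∏ j : ZMod p, normAct p z ((b ^ j.val) v)) = 1 := by
      have := normAct_prod (p := p) Finset.univ z (fun j : ZMod p => (b ^ j.val) v)
      rw [← this]
      have h2 : (∏ j : ZMod p, (b ^ j.val) v) = normAct p b v := rfl
      rw [h2, h1, normAct_one]
    rw [← Finset.mul_prod_erase Finset.univ _ (Finset.mem_univ (0 : ZMod p)), hF0] at ht2
    rw [← Finset.mul_prod_erase Finset.univ _ (Finset.mem_univ (0 : ZMod p))] at hG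
    have h3 : (∏ j ∈ Finset.univ.erase (0 : ZMod p), ∏ i : ZMod p, (z ^ (i * j).val) ((b ^ j.val) v))
        = ∏ j ∈ Finset.univ.erase (0 : ZMod p), normAct p z ((b ^ j.val) v) :=
      Finset.prod_congr rfl fun j hj => hF j (Finset.ne_of_mem_erase hj)
    rw [h3] at ht2
    have h4 : (0 : ZMod p).val = 0 := ZMod.val_zero
    rw [h4, pow_zero] at hG
    have h5 : normAct p z v = v ^ p := by
      have h6 : normAct p z ((1 : MulAut V) v) = normAct p z v := rfl
      rw [h6] at hG
      exact mul_right_cancel (hG.trans ht2.symm)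
    exact h5
  apply MulEquiv.ext
  intro v
  have h2 : z (v ^ p) = v ^ p := by
    rw [← hmain v]
    exact normAct_fixed z hz v
  rw [map_pow] at h2
  exact (powCoprime hc).injective h2

end K

section L1

variable {B V : Type*} [Group B] [Finite B] [CommGroup V] [Finite V] {p : ℕ} [hp : Fact p.Prime]

lemma exists_central_aux (hB : IsPGroup p B) (φ : B →* MulAut V) (Y : Subgroup B) [hY : Y.Normal]
    (hne : ¬ Y ≤ φ.ker) :
    ∃ z ∈ Y, φ z ≠ 1 ∧ (φ z) ^ p = 1 ∧ ∀ x, Commute (φ z) (φ x) := by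
  classical
  let f : B →* φ.range := φ.rangeRestrict
  have hf : Function.Surjective f := φ.rangeRestrict_surjective
  have hA : IsPGroup p φ.range := hB.of_surjective f hf
  haveI : Group.IsNilpotent φ.range := hA.isNilpotent
  haveI hX : (Y.map f).Normal := hY.map f hf
  have hXne : Y.map f ≠ ⊥ := by
    intro h
    apply hne
    intro y hy
    have h1 : f y ∈ Y.map f := ⟨y, hy, rfl⟩
    rw [h, Subgroup.mem_bot] at h1
    rw [MonoidHom.mem_ker]
    exact congrArg Subtype.val h1
  have h1 := Cfsg.Agent.Lib.Basic.normal_inf_center_ne_bot (Y.map f) hXne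
  obtain ⟨x, ⟨⟨y, hy, rfl⟩, hxc⟩, hx1⟩ := (Subgroup.bot_or_exists_ne_one _).resolve_left h1
  obtain ⟨m, hm⟩ := IsPGroup.iff_orderOf.mp hA (f y)
  have hm0 : m ≠ 0 := by
    rintro rfl
    rw [pow_zero, orderOf_eq_one_iff] at hm
    exact hx1 hm
  obtain ⟨k, rfl⟩ := Nat.exists_eq_succ_of_ne_zero hm0
  have hpow : (f y ^ (p ^ k)) ^ p = 1 := by
    rw [← pow_mul, ← pow_succ, ← hm, pow_orderOf_eq_one]
  have hne1 : f y ^ (p ^ k) ≠ 1 := by
    intro h
    have := orderOf_dvd_of_pow_eq_one h
    rw [hm] at this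
    have hp2 := (Nat.pow_dvd_pow_iff_le_right hp.out.one_lt).mp this
    omega
  refine ⟨y ^ (p ^ k), Y.pow_mem hy _, ?_, ?_, ?_⟩
  · intro h
    apply hne1
    apply Subtype.ext
    rw [map_pow] at h
    simpa [f] using h
  · have := congrArg Subtype.val hpow
    simpa [f] using this
  · intro x
    have hc : Commute (f y ^ (p ^ k)) (f x) := by
      apply Commute.pow_left
      exact ((Subgroup.mem_center_iff.mp hxc) (f x)).symm
    have := congrArg Subtype.val hc.eq
    show φ (y ^ p ^ k) * φ x = φ x * φ (y ^ p ^ k)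
    simpa [f] using this

/-- The key structure lemma. -/
theorem action_structure [Nontrivial V] (hB : IsPGroup p B) (hc : (Nat.card V).Coprime p) (φ : B →* MulAut V)
    (B₀ : Subgroup B) [hn : B₀.Normal] (hne : B₀ ≠ ⊤)
    (h : ∀ b, b ∉ B₀ → b ^ p = 1 ∧ ∀ v, φ b v = v → v = 1) :
    B₀ ≤ φ.ker ∧ B₀.index = p := by
  classical
  have hker : φ.ker ≤ B₀ := by
    intro b hb
    by_contra hb2
    obtain ⟨v, hv⟩ := exists_ne (1 : V)
    apply hv
    refine (h b hb2).2 v ?_
    rw [MonoidHom.mem_ker] at hb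
    rw [hb]
    rfl
  obtain ⟨b₀, hb₀⟩ : ∃ b₀, b₀ ∉ B₀ := by
    by_contra hcon
    push_neg at hcon
    exact hne (eq_top_iff.mpr fun x _ => hcon x)
  have key : ∀ z : B, φ z ≠ 1 → (φ z) ^ p = 1 → (∀ x, Commute (φ z) (φ x)) →
      ∀ b, b ∉ B₀ → ∃ i : ZMod p, z ^ i.val * b ∈ B₀ := by
    intro z hz hzp hzc b hb
    by_contra hcon
    push_neg at hcon
    apply hz
    refine lemmaK hc (φ z) (φ b) (hzc b) hzp ?_ ?_
    · rw [← map_pow, (h b hb).1, map_one]
    · intro i v hv
      refine (h _ (hcon i)).2 v ?_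
      rw [map_mul, map_pow]
      exact hv
  have h1 : B₀ ≤ φ.ker := by
    by_contra hcon
    obtain ⟨z, hzY, hz1, hzp, hzc⟩ := exists_central_aux hB φ B₀ hcon
    obtain ⟨i, hi⟩ := key z hz1 hzp hzc b₀ hb₀
    exact hb₀ ((B₀.mul_mem_cancel_left (B₀.pow_mem hzY _)).mp hi)
  refine ⟨h1, ?_⟩
  have hker2 : φ.ker = B₀ := le_antisymm hker h1
  have htop : ¬ (⊤ : Subgroup B) ≤ φ.ker := by
    intro h2
    exact hb₀ (hker (h2 (Subgroup.mem_top _)))
  obtain ⟨z, -, hz1, hzp, hzc⟩ := exists_central_aux hB φ (⊤ : Subgroup B) htop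
  have hrange : φ.range = Subgroup.zpowers (φ z) := by
    apply le_antisymm
    · rintro _ ⟨b, rfl⟩
      by_cases hb : b ∈ B₀
      · have : φ b = 1 := h1 hb
        rw [this]
        exact Subgroup.one_mem _
      · obtain ⟨i, hi⟩ := key z hz1 hzp hzc b hb
        have h3 : φ (z ^ i.val * b) = 1 := h1 hi
        rw [map_mul, map_pow] at h3
        have h4 : φ b = ((φ z) ^ i.val)⁻¹ := eq_inv_of_mul_eq_one_right h3
        rw [h4]
        exact Subgroup.inv_mem _ (Subgroup.pow_mem _ (Subgroup.mem_zpowers _) _)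
    · rw [Subgroup.zpowers_le]
      exact ⟨z, rfl⟩
  rw [← hker2, Subgroup.index_ker, hrange, Nat.card_zpowers, orderOf_eq_prime hzp hz1]

end L1

end Cfsg.Agent.Lib.Struct.Hughes
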