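import Mathlib
import Cfsg.Agent.Lib.Struct.HughesK
import Cfsg.Agent.Lib.Struct.Basic
import Cfsg.Agent.Lib.Basic.HallNil
import Cfsg.Agent.Lib.Basic.MinNormal
import Cfsg.Agent.Lib.Recog.FrobTrace
import Cfsg.Agent.Lib.PLocal.ZJ2
import Cfsg.Agent.Lib.Fusion.GTGroupSys
import Cfsg.Agent.Lib.Coprime.Abelian
import Cfsg.Agent.Lib.Coprime.Conj

/-! # Kegel's theorem on splitting automorphisms

If `H` is a normal subgroup of prime index `p` of a finite group `G`, and all elements outside `H`
have order dividing `p`, then `H` is nilpotent. -/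

set_option autoImplicit false

namespace Cfsg.Agent.Lib.Struct.Hughes

open Subgroup Cfsg

open scoped commutatorElement

universe u

section basics

variable {G : Type u} [Group G] {p : ℕ}

lemma nil_of_inj {X Y : Type*} [Group X] [Group Y] [Group.IsNilpotent Y] (f : X →* Y)
    (hf : Function.Injective f) : Group.IsNilpotent X := by
  haveI : Group.IsNilpotent f.range := Subgroup.isNilpotent f.range
  exact nilpotent_of_mulEquiv (MonoidHom.ofInjective hf).symm

/-- Conjugation action on a normalized subgroup. -/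
def conjHom (B V : Subgroup G) (h : B ≤ normalizer (V : Set G)) : B →* MulAut V where
  toFun b :=
    { toFun := fun v => ⟨(b : G) * v * (b : G)⁻¹, (mem_normalizer_iff.mp (h b.2) v).mp v.2⟩
      invFun := fun v => ⟨(b : G)⁻¹ * v * b, by
        have := (mem_normalizer_iff.mp (h (B.inv_mem b.2)) v).mp v.2
        simpa using this⟩
      left_inv := fun v => by
        apply Subtype.ext
        show (b : G)⁻¹ * ((b : G) * v * (b : G)⁻¹) * b = v
        group
      right_inv := fun v => by
        apply Subtype.ext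
        show (b : G) * ((b : G)⁻¹ * v * b) * (b : G)⁻¹ = v
        group
      map_mul' := fun u v => by
        apply Subtype.ext
        show (b : G) * ((u : G) * v) * (b : G)⁻¹ = ((b : G) * u * (b : G)⁻¹) * ((b : G) * v * (b : G)⁻¹)
        group }
  map_one' := by
    apply MulEquiv.ext
    intro v
    apply Subtype.ext
    show ((1 : B) : G) * v * ((1 : B) : G)⁻¹ = v
    simp
  map_mul' := fun a b => by
    apply MulEquiv.ext
    intro v
    apply Subtype.ext
    show ((a * b : B) : G) * v * ((a * b : B) : G)⁻¹ = (a : G) * ((b : G) * v * (b : G)⁻¹) * (a : G)⁻¹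
    simp only [Subgroup.coe_mul]
    group

@[simp] lemma conjHom_apply (B V : Subgroup G) (h : B ≤ normalizer (V : Set G)) (b : B) (v : V) :
    ((conjHom B V h b v : V) : G) = (b : G) * v * (b : G)⁻¹ := rfl

/-- The hypotheses of the main theorem. -/
structure Split (p : ℕ) (H : Subgroup G) : Prop where
  normal : H.Normal
  index : H.index = p
  pow : ∀ g, g ∉ H → g ^ p = 1

variable {H : Subgroup G}

lemma Split.exists_not_mem (hp : p.Prime) (hs : Split p H) : ∃ a, a ∉ H := by
  by_contra hcon
  push_neg at hcon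
  have : H = ⊤ := eq_top_iff.mpr fun x _ => hcon x
  have h1 := hs.index
  rw [this, Subgroup.index_top] at h1
  exact hp.one_lt.ne h1

lemma Split.orderOf_eq (hp : p.Prime) (hs : Split p H) {a : G} (ha : a ∉ H) : orderOf a = p := by
  haveI : Fact p.Prime := ⟨hp⟩
  apply orderOf_eq_prime (hs.pow a ha)
  rintro rfl
  exact ha H.one_mem

lemma Split.pow_not_mem (hp : p.Prime) (hs : Split p H) {a : G} (ha : a ∉ H) {k : ℕ} (hk : ¬ p ∣ k) :
    a ^ k ∉ H := by
  intro h
  apply ha
  refine Cfsg.Agent.Lib.Struct.mem_of_pow_mem_of_coprime H ?_ h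
  rw [hs.orderOf_eq hp ha]
  exact (Nat.Prime.coprime_iff_not_dvd hp).mpr hk

lemma Split.pow_eq_one_of_commute (hs : Split p H) {a v : G} (ha : a ∉ H) (hv : v ∈ H)
    (hc : v * a = a * v) : v ^ p = 1 := by
  have h1 : v * a ∉ H := fun h => ha ((H.mul_mem_cancel_left hv).mp h)
  have h2 := hs.pow _ h1
  rw [(show Commute v a from hc).mul_pow, hs.pow a ha, mul_one] at h2
  exact h2

lemma Split.sup_eq_top (hp : p.Prime) (hs : Split p H) {L : Subgroup G} (hL : ¬ L ≤ H) : H ⊔ L = ⊤ := by
  have h1 : H.relIndex (H ⊔ L) * (H ⊔ L).index = H.index := Subgroup.relIndex_mul_index le_sup_left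
  rw [hs.index] at h1
  rcases (Nat.dvd_prime hp).mp (Dvd.intro_left _ h1) with h2 | h2
  · exact Subgroup.index_eq_one.mp h2
  · rw [h2] at h1
    have h3 : H.relIndex (H ⊔ L) = 1 := by
      have := hp.pos
      nlinarith
    rw [Subgroup.relIndex_eq_one] at h3
    exact absurd (le_sup_right.trans h3) hL

/-- The induction hypothesis. -/
def IHyp (p n : ℕ) : Prop :=
  ∀ (X : Type u) [Group X] [Finite X] (Y : Subgroup X), Nat.card X < n → Split p Y → Group.IsNilpotent Y

variable [Finite G]

lemma pair_sub (hp : p.Prime) (hs : Split p H) (IH : IHyp.{u} p (Nat.card G)) {L : Subgroup G}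
    (hL : L ≠ ⊤) (hLH : ¬ L ≤ H) : Group.IsNilpotent ↥(L ⊓ H) := by
  haveI := hs.normal
  have hcard : Nat.card L < Nat.card G :=
    lt_of_le_of_ne (Subgroup.card_le_card_group L) fun h => hL (Subgroup.eq_top_of_card_eq L h)
  have hS : Split p (H.subgroupOf L) := by
    refine ⟨inferInstance, ?_, ?_⟩
    · have h1 : (H.subgroupOf L).index = H.relIndex L := rfl
      rw [h1, ← Subgroup.relIndex_sup_left, hs.sup_eq_top hp hLH, Subgroup.relIndex_top_right, hs.index]
    · intro g hg
      have hg2 : (g : G) ∉ H := fun h => hg (Subgroup.mem_subgroupOf.mpr h)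
      apply Subtype.ext
      simpa using hs.pow _ hg2
  haveI := IH ↥L (H.subgroupOf L) hcard hS
  let f : ↥(L ⊓ H) →* ↥(H.subgroupOf L) :=
    { toFun := fun x => ⟨⟨x, (Subgroup.mem_inf.mp x.2).1⟩, Subgroup.mem_subgroupOf.mpr (Subgroup.mem_inf.mp x.2).2⟩
      map_one' := rfl
      map_mul' := fun _ _ => rfl }
  refine nil_of_inj f ?_
  intro x y hxy
  apply Subtype.ext
  have := congrArg (fun z : ↥(H.subgroupOf L) => ((z : L) : G)) hxy
  exact this

lemma pair_quot (hp : p.Prime) (hs : Split p H) (IH : IHyp.{u} p (Nat.card G)) (M : Subgroup G)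
    [hMn : M.Normal] (hM : M ≠ ⊥) (hMH : M ≤ H) :
    Group.IsNilpotent ↥(H.map (QuotientGroup.mk' M)) := by
  haveI := hs.normal
  have hcard : Nat.card (G ⧸ M) < Nat.card G := by
    have h1 := Subgroup.card_eq_card_quotient_mul_card_subgroup M
    have h2 : 1 < Nat.card M := by
      rw [Finite.one_lt_card_iff_nontrivial]
      exact (Subgroup.nontrivial_iff_ne_bot M).mpr hM
    have h3 : 0 < Nat.card (G ⧸ M) := Nat.card_pos
    rw [h1]
    nlinarith
  refine IH (G ⧸ M) _ hcard ⟨hs.normal.map _ (QuotientGroup.mk'_surjective M), ?_, ?_⟩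
  · rw [Subgroup.index_map, QuotientGroup.ker_mk', sup_eq_left.mpr hMH, hs.index,
      MonoidHom.range_eq_top.mpr (QuotientGroup.mk'_surjective M), Subgroup.index_top, mul_one]
  · intro g hg
    obtain ⟨x, rfl⟩ := QuotientGroup.mk'_surjective M g
    have hx : x ∉ H := fun h => hg ⟨x, h, rfl⟩
    rw [← map_pow, hs.pow x hx, map_one]

end basics

section nilcomp

lemma hnpc_of_nilpotent {X : Type*} [Group X] [Finite X] (s : ℕ) [hs : Fact s.Prime]
    (hX : Group.IsNilpotent X) : HasNormalPComplement s X := by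
  have hnil_top : Group.IsNilpotent (⊤ : Subgroup X) :=
    Group.nilpotent_of_surjective (Subgroup.topEquiv (G := X)).symm.toMonoidHom
      (Subgroup.topEquiv (G := X)).symm.surjective
  obtain ⟨K₁, K₂, -, -, hsup, hK₁p, hK₂c, hKcard, hKcomm⟩ :=
    Cfsg.Agent.Lib.Basic.exists_nilpotent_decomp hnil_top s
  have hcardtop : Nat.card (⊤ : Subgroup X) = Nat.card X := Nat.card_congr (Subgroup.topEquiv (G := X)).toEquiv
  have hind : K₁.index = Nat.card K₂ := by
    have h1 := Subgroup.card_mul_index K₁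
    rw [← hcardtop, ← hKcard] at h1
    have hpos : 0 < Nat.card K₁ := Nat.card_pos
    exact Nat.eq_of_mul_eq_mul_left hpos h1
  have hnd : ¬ s ∣ K₁.index := by
    rw [hind]
    intro hd
    have := Nat.Coprime.eq_one_of_dvd (hK₂c.symm) hd
    exact hs.out.one_lt.ne' this
  refine ⟨hK₁p.toSylow hnd, K₂, ?_, ?_⟩
  · rw [← Subgroup.normalizer_eq_top_iff, eq_top_iff, ← hsup]
    refine sup_le (fun h hh => ?_) Subgroup.le_normalizer
    rw [Subgroup.mem_normalizer_iff]
    intro q
    constructor
    · intro hq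
      have := hKcomm h hh q hq
      have h2 : h * q * h⁻¹ = q := by rw [this]; group
      rw [h2]
      exact hq
    · intro hq
      have h3 : q = h⁻¹ * (h * q * h⁻¹) * h := by group
      have := hKcomm h hh _ hq
      have h4 : h⁻¹ * (h * q * h⁻¹) * h = h * q * h⁻¹ := by
        rw [mul_assoc, ← this, ← mul_assoc]; group
      rw [h3, h4]
      exact hq
  · have hc : (Nat.card K₂).Coprime (Nat.card ((hK₁p.toSylow hnd : Sylow s X) : Subgroup X)) := by
      have : ((hK₁p.toSylow hnd : Sylow s X) : Subgroup X) = K₁ := rfl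
      rw [this]
      obtain ⟨k, hk⟩ := IsPGroup.iff_card.mp hK₁p
      rw [hk]
      exact Nat.Coprime.pow_right _ hK₂c
    refine Subgroup.isComplement'_of_coprime ?_ hc
    have : ((hK₁p.toSylow hnd : Sylow s X) : Subgroup X) = K₁ := rfl
    rw [this, mul_comm, hKcard, hcardtop]

/-- The elements of a normal `s`-complement. -/
lemma mem_complement_iff {X : Type*} [Group X] [Finite X] {s : ℕ} [hs : Fact s.Prime] {P : Sylow s X}
    {K : Subgroup X} [hK : K.Normal] (hc : K.IsComplement' (P : Subgroup X)) (x : X) :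
    x ∈ K ↔ (orderOf x).Coprime s := by
  have hind : K.index = Nat.card P := hc.symm.index_eq_card
  have hindP : (P : Subgroup X).index = Nat.card K := hc.index_eq_card
  have hcop : (Nat.card K).Coprime s := by
    rw [← hindP]
    exact ((Nat.Prime.coprime_iff_not_dvd hs.out).mpr P.not_dvd_index).symm
  constructor
  · intro hx
    exact Nat.Coprime.coprime_dvd_left (Subgroup.orderOf_dvd_natCard K hx) hcop
  · intro hx
    obtain ⟨k, hk⟩ := IsPGroup.iff_card.mp P.isPGroup'
    have h1 : x ^ (s ^ k) ∈ K := by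
      rw [← hk, ← hind]
      exact Subgroup.pow_index_mem K x
    exact Cfsg.Agent.Lib.Struct.mem_of_pow_mem_of_coprime K (Nat.Coprime.pow_right _ hx) h1

end nilcomp

section inter

variable {G : Type u} [Group G] [Finite G] {p : ℕ} {H : Subgroup G}

lemma center_le_centerThompson {X : Type*} [Group X] [Finite X] (T : Subgroup X) {x : X} (hx : x ∈ T)
    (hc : ∀ y ∈ T, y * x = x * y) : x ∈ centerThompsonAOf T := by
  rw [Cfsg.Agent.Lib.PLocal.centerThompsonAOf_eq_sInf]
  refine ⟨⟨x, hx⟩, ?_, rfl⟩
  rw [SetLike.mem_coe, Subgroup.mem_sInf]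
  intro A hA
  refine Cfsg.Agent.Lib.PLocal.mem_of_commute_maxAbelian hA fun a _ => ?_
  exact Subtype.ext (hc a a.2)

theorem exists_intermediate (hp : p.Prime) (hs : Split p H) (IH : IHyp.{u} p (Nat.card G)) {s : ℕ}
    [hsp : Fact s.Prime] (hs2 : s ≠ 2) (hd : s ∣ Nat.card H) (hnp : ¬ IsPGroup s H) :
    ∃ N : Subgroup G, N.Normal ∧ N ≠ ⊥ ∧ N ≤ H ∧ N ≠ H := by
  classical
  haveI hHn := hs.normal
  obtain ⟨T⟩ : Nonempty (Sylow s H) := inferInstance
  have hfr := T.normalizer_sup_eq_top
  set T' : Subgroup G := (T : Subgroup H).map H.subtype with hT'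
  obtain ⟨a, ha, haH⟩ : ∃ a, a ∈ normalizer (T' : Set G) ∧ a ∉ H := by
    by_contra hcon
    push_neg at hcon
    have h1 : normalizer (T' : Set G) ≤ H := hcon
    rw [sup_eq_right.mpr h1] at hfr
    have h2 := hs.index
    rw [hfr, Subgroup.index_top] at h2
    exact hp.one_lt.ne h2
  -- the characteristic subgroup
  set W : Subgroup H := centerThompsonAOf (T : Subgroup H) with hW
  set W' : Subgroup G := W.map H.subtype with hW'
  have hTne : (T : Subgroup H) ≠ ⊥ := by
    intro h
    have h1 := T.not_dvd_index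
    rw [h, Subgroup.index_bot] at h1
    exact h1 hd
  have hWne : W ≠ ⊥ := by
    haveI : Nontrivial (T : Subgroup H) := (Subgroup.nontrivial_iff_ne_bot _).mpr hTne
    haveI : Nontrivial (Subgroup.center (T : Subgroup H)) := T.isPGroup'.center_nontrivial
    obtain ⟨x, hx⟩ := exists_ne (1 : Subgroup.center (T : Subgroup H))
    intro h
    have h1 : (((x : (T : Subgroup H)) : H)) ∈ W :=
      center_le_centerThompson _ (x : (T : Subgroup H)).2 fun y hy => by
        have := Subgroup.mem_center_iff.mp x.2 ⟨y, hy⟩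
        exact congrArg (Subtype.val) this
    rw [h, Subgroup.mem_bot] at h1
    apply hx
    apply Subtype.ext
    apply Subtype.ext
    exact h1
  have hWT : W ≤ (T : Subgroup H) := inf_le_left.trans (Cfsg.Agent.Lib.PLocal.thompsonAOf_le _)
  have hW'T : W' ≤ T' := Subgroup.map_mono hWT
  have hW'ne : W' ≠ ⊥ := by
    rw [hW', Ne, Subgroup.map_eq_bot_iff_of_injective _ H.subtype_injective]
    exact hWne
  have hW'H : W' ≤ H := Subgroup.map_subtype_le _
  have hTH : T' ≠ H := by
    intro h
    apply hnp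
    intro x
    have hx : x ∈ (T : Subgroup H) := by
      have h1 : (x : G) ∈ T' := by rw [h]; exact x.2
      obtain ⟨y, hy, hyx⟩ := h1
      have : y = x := Subtype.ext hyx
      exact this ▸ hy
    obtain ⟨k, hk⟩ := T.isPGroup' ⟨x, hx⟩
    exact ⟨k, congrArg Subtype.val hk⟩
  have ha' : a ∈ normalizer (W' : Set G) := by
    let f : H →* H := (MulAut.conjNormal a : MulAut H).toMonoidHom
    have hfa : ∀ x : H, ((f x : H) : G) = a * x * a⁻¹ := fun x => by
      show ((MulAut.conjNormal a x : H) : G) = _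
      rw [MulAut.conjNormal_apply]
    have hinj : Function.Injective f := (MulAut.conjNormal a : MulAut H).injective
    have hTf : (T : Subgroup H).map f = T := by
      apply Subgroup.eq_of_le_of_card_ge
      · rintro _ ⟨x, hx, rfl⟩
        have h1 : a * (x : G) * a⁻¹ ∈ T' :=
          (Subgroup.mem_normalizer_iff.mp ha _).mp ⟨x, hx, rfl⟩
        obtain ⟨y, hy, hyx⟩ := h1
        have : y = f x := Subtype.ext (by rw [hfa]; exact hyx)
        exact this ▸ hy
      · rw [Nat.card_congr (Subgroup.equivMapOfInjective (T : Subgroup H) f hinj).toEquiv]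
    have h1 := Cfsg.Agent.Lib.PLocal.centerThompsonAOf_map f (T := (T : Subgroup H))
      (fun x _ hx => hinj (by rw [hx, map_one]))
    rw [hTf] at h1
    refine Cfsg.Agent.Lib.Coprime.mem_normalizer_of_conj_le W' a ?_
    rintro _ ⟨w, hw, rfl⟩
    have h2 : f w ∈ W := by
      rw [hW, ← h1]
      exact ⟨w, hw, rfl⟩
    exact ⟨f w, h2, hfa w⟩
  by_cases hWn : W'.Normal
  · refine ⟨W', hWn, hW'ne, hW'H, ?_⟩
    intro h
    apply hTH
    exact le_antisymm (Subgroup.map_subtype_le _) (h ▸ hW'T)
  · have hLtop : normalizer (W' : Set G) ≠ ⊤ := fun h => hWn (Subgroup.normalizer_eq_top_iff.mp h)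
    haveI hnil := pair_sub hp hs IH hLtop (fun h => haH (h ha'))
    let f2 : ↥(normalizer (W : Set H)) →* ↥(normalizer (W' : Set G) ⊓ H) :=
      { toFun := fun x => ⟨((x : H) : G), Subgroup.mem_inf.mpr ⟨by
            refine Cfsg.Agent.Lib.Coprime.mem_normalizer_of_conj_le W' _ ?_
            rintro _ ⟨w, hw, rfl⟩
            have h3 : (x : H) * w * (x : H)⁻¹ ∈ W := (Subgroup.mem_normalizer_iff.mp x.2 w).mp hw
            exact ⟨_, h3, rfl⟩, (x : H).2⟩⟩
        map_one' := rfl
        map_mul' := fun _ _ => rfl }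
    have hnil2 : Group.IsNilpotent ↥(normalizer (W : Set H)) := by
      refine nil_of_inj f2 ?_
      intro x y hxy
      apply Subtype.ext
      apply Subtype.ext
      exact congrArg (fun z : ↥(normalizer (W' : Set G) ⊓ H) => (z : G)) hxy
    have hc := hnpc_of_nilpotent s hnil2
    obtain ⟨P0, K, hK, hcK⟩ := Cfsg.Agent.Lib.Fusion.GT.hasNormalPComplement_of_normalizer hs2 T hc
    have hmem := fun x => mem_complement_iff (hK := hK) hcK x
    refine ⟨K.map H.subtype, ?_, ?_, Subgroup.map_subtype_le _, ?_⟩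
    · constructor
      rintro _ ⟨k, hk, rfl⟩ g
      have hk' : g * (k : G) * g⁻¹ ∈ H := hHn.conj_mem _ k.2 g
      refine ⟨⟨_, hk'⟩, (hmem _).mpr ?_, rfl⟩
      have h5 : orderOf (⟨g * (k : G) * g⁻¹, hk'⟩ : H) = orderOf k := by
        rw [← Subgroup.orderOf_coe, ← Subgroup.orderOf_coe k]
        exact Cfsg.Agent.Lib.Struct.orderOf_conj _ _
      rw [h5]
      exact (hmem k).mp hk
    · intro hbot
      rw [Subgroup.map_eq_bot_iff_of_injective _ H.subtype_injective] at hbot
      have h6 : (P0 : Subgroup H).index = 1 := by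
        rw [hcK.index_eq_card, hbot, Subgroup.card_bot]
      have h7 : (P0 : Subgroup H) = ⊤ := Subgroup.index_eq_one.mp h6
      apply hnp
      intro x
      have hx : x ∈ (P0 : Subgroup H) := h7 ▸ Subgroup.mem_top x
      obtain ⟨k, hk⟩ := P0.isPGroup' ⟨x, hx⟩
      exact ⟨k, congrArg Subtype.val hk⟩
    · intro hKH
      obtain ⟨x, hx⟩ := exists_prime_orderOf_dvd_card' (G := H) s hd
      have h8 : x ∈ K := by
        have h9 : (x : G) ∈ K.map H.subtype := by rw [hKH]; exact x.2
        obtain ⟨y, hy, hyx⟩ := h9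
        have : y = x := Subtype.ext hyx
        exact this ▸ hy
      have h10 := (hmem x).mp h8
      rw [hx] at h10
      exact hsp.out.one_lt.ne' (Nat.coprime_self s |>.mp h10)

end inter

end Cfsg.Agent.Lib.Struct.Hughes
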