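import Mathlib
import Cfsg.Agent.Lib.Struct.Hughes
import Cfsg.Agent.Lib.Struct.SylowCount

/-! # Kegel's theorem on splitting automorphisms, part 2 -/

set_option autoImplicit false

namespace Cfsg.Agent.Lib.Struct.Hughes

open Subgroup Cfsg

open scoped commutatorElement

universe u

section sub

variable {G : Type u} [Group G] [Finite G] {p : ℕ} [hpf : Fact p.Prime]

/-- The structure lemma, for subgroups. -/
theorem action_structure_sub (B V : Subgroup G) (hBV : B ≤ normalizer (V : Set G))
    (hV : ∀ x ∈ V, ∀ y ∈ V, x * y = y * x) (hVne : V ≠ ⊥) (hB : IsPGroup p B)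
    (hc : (Nat.card V).Coprime p) (B₀ : Subgroup B) [hn : B₀.Normal] (hne : B₀ ≠ ⊤)
    (h : ∀ b : B, b ∉ B₀ → b ^ p = 1 ∧ ∀ v ∈ V, (b : G) * v = v * b → v = 1) :
    (∀ b : B, b ∈ B₀ → ∀ v ∈ V, (b : G) * v = v * b) ∧ B₀.index = p := by
  letI cg : CommGroup V :=
    { (inferInstance : Group V) with
      mul_comm := fun x y => Subtype.ext (hV x x.2 y y.2) }
  haveI : Nontrivial V := (Subgroup.nontrivial_iff_ne_bot V).mpr hVne
  obtain ⟨h1, h2⟩ := action_structure (V := V) hB hc (conjHom B V hBV) B₀ hne (fun b hb => by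
    refine ⟨(h b hb).1, fun v hv => ?_⟩
    have h3 := (h b hb).2 v v.2 ?_
    · exact Subtype.ext h3
    · have h4 : (b : G) * v * (b : G)⁻¹ = v := congrArg Subtype.val hv
      rw [mul_inv_eq_iff_eq_mul] at h4
      exact h4)
  refine ⟨fun b hb v hv => ?_, h2⟩
  have h3 : conjHom B V hBV b = 1 := h1 hb
  have h4 : conjHom B V hBV b ⟨v, hv⟩ = ⟨v, hv⟩ := by rw [h3]; rfl
  have h5 : (b : G) * v * (b : G)⁻¹ = v := congrArg Subtype.val h4
  rw [mul_inv_eq_iff_eq_mul] at h5
  exact h5

end sub

section min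

variable {G : Type u} [Group G] [Finite G] {p : ℕ} {H : Subgroup G}

open Cfsg.Agent.Lib.Basic in
/-- A minimal normal subgroup inside a nilpotent normal subgroup is central in it and elementary. -/
lemma minNormal_structure {N M : Subgroup G} [hNn : N.Normal] (hN : Group.IsNilpotent N) (hM : IsMinNormal M) (hMN : M ≤ N) :
    M ≤ centralizer (N : Set G) ∧ (∀ x ∈ M, ∀ y ∈ M, x * y = y * x) ∧ ∃ r : ℕ, r.Prime ∧ ∀ x ∈ M, x ^ r = 1 := by
  obtain ⟨hn, hne, hmin⟩ := id hM
  haveI := hn
  have h1 : M ≤ centralizer (N : Set G) := by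
    have h2 : M ⊓ centralizer (N : Set G) ≠ ⊥ := by
      have hne2 : M.subgroupOf N ≠ ⊥ := by
        intro hbot
        apply hne
        rw [eq_bot_iff]
        intro x hx
        have : (⟨x, hMN hx⟩ : N) ∈ M.subgroupOf N := Subgroup.mem_subgroupOf.mpr hx
        rw [hbot, Subgroup.mem_bot] at this
        exact congrArg Subtype.val this
      have h3 := normal_inf_center_ne_bot (M.subgroupOf N) hne2
      obtain ⟨x, ⟨hx1, hx2⟩, hx3⟩ := (Subgroup.bot_or_exists_ne_one _).resolve_left h3
      intro hbot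
      apply hx3
      have hx4 : (x : G) ∈ M ⊓ centralizer (N : Set G) := by
        refine ⟨Subgroup.mem_subgroupOf.mp hx1, Subgroup.mem_centralizer_iff.mpr fun n hn => ?_⟩
        have := Subgroup.mem_center_iff.mp hx2 ⟨n, hn⟩
        exact congrArg Subtype.val this
      rw [hbot, Subgroup.mem_bot] at hx4
      exact Subtype.ext hx4
    rcases hmin _ inferInstance (inf_le_left : M ⊓ centralizer (N : Set G) ≤ M) with h4 | h4
    · exact absurd h4 h2
    · exact inf_eq_left.mp h4
  have hab : ∀ x ∈ M, ∀ y ∈ M, x * y = y * x := fun x hx y hy =>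
    ((Subgroup.mem_centralizer_iff.mp (h1 hx)) y (hMN hy)).symm
  refine ⟨h1, hab, ?_⟩
  haveI hnt : Nontrivial M := (Subgroup.nontrivial_iff_ne_bot M).mpr hne
  haveI hcomm : IsMulCommutative M := ⟨⟨fun x y => Subtype.ext (hab x x.2 y y.2)⟩⟩
  have hcard : Nat.card M ≠ 1 := Finite.one_lt_card_iff_nontrivial.mpr hnt |>.ne'
  obtain ⟨r, hr, hdvd⟩ := Nat.exists_prime_and_dvd hcard
  refine ⟨r, hr, ?_⟩
  haveI : Fact r.Prime := ⟨hr⟩
  obtain ⟨x, hx⟩ := exists_prime_orderOf_dvd_card' (G := M) r hdvd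
  have hE : torsionSubgroupOf M r ≠ ⊥ := by
    intro hbot
    have hxmem : (x : G) ∈ torsionSubgroupOf M r := by
      refine ⟨x.2, ?_⟩
      have := pow_orderOf_eq_one x
      rw [hx] at this
      exact congrArg Subtype.val this
    rw [hbot, Subgroup.mem_bot] at hxmem
    have h1 : x = 1 := Subtype.ext hxmem
    rw [h1, orderOf_one] at hx
    exact hr.one_lt.ne hx
  have hEn : (torsionSubgroupOf M r).Normal := torsionSubgroupOf_normal r
  rcases hmin _ hEn (fun y hy => hy.1) with h | h
  · exact absurd h hE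
  · intro y hy
    rw [← h] at hy
    exact hy.2

lemma pow_prime_inj {r s : ℕ} (hr : r.Prime) (hs : s.Prime) (hrs : r ≠ s) {x : G} (h1 : x ^ r = 1) (k : ℕ)
    (h2 : x ^ (s ^ k) = 1) : x = 1 := by
  have h3 : orderOf x ∣ r := orderOf_dvd_of_pow_eq_one h1
  have h4 : orderOf x ∣ s ^ k := orderOf_dvd_of_pow_eq_one h2
  have h5 : (r).Coprime (s ^ k) := Nat.Coprime.pow_right _ ((Nat.coprime_primes hr hs).mpr hrs)
  have h6 : orderOf x = 1 := Nat.Coprime.eq_one_of_dvd (Nat.Coprime.coprime_dvd_left h3 (Nat.Coprime.coprime_dvd_right h4 h5)) dvd_rfl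
  exact orderOf_eq_one_iff.mp h6

lemma normalizer_commutator {M S : Subgroup G} {a : G} (h1 : a ∈ normalizer (M : Set G))
    (h2 : a ∈ normalizer (S : Set G)) : a ∈ normalizer ((⁅M, S⁆ : Subgroup G) : Set G) := by
  refine Cfsg.Agent.Lib.Coprime.mem_normalizer_of_conj_le _ _ ?_
  intro x hx
  have h3 : ∀ x ∈ ⁅M, S⁆, a * x * a⁻¹ ∈ (⁅M, S⁆ : Subgroup G) := by
    intro x hx
    have h4 : x ∈ (⁅M, S⁆ : Subgroup G).comap (MulAut.conj a).toMonoidHom := by
      revert x
      show ⁅M, S⁆ ≤ _
      rw [Subgroup.commutator_le]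
      intro u hu v hv
      rw [Subgroup.mem_comap]
      have e : (MulAut.conj a).toMonoidHom ⁅u, v⁆ = ⁅a * u * a⁻¹, a * v * a⁻¹⁆ := by
        rw [map_commutatorElement]
        rfl
      rw [e]
      exact Subgroup.commutator_mem_commutator ((Subgroup.mem_normalizer_iff.mp h1 u).mp hu)
        ((Subgroup.mem_normalizer_iff.mp h2 v).mp hv)
    exact h4
  exact h3 x hx

end min

section syl

variable {G : Type u} [Group G] [Finite G] {p : ℕ} {H : Subgroup G}

theorem eq_bot_of_trace (V Q : Subgroup G) (hV : ∀ x ∈ V, ∀ y ∈ V, x * y = y * x) (a : G) (n : ℕ) (hn : 0 < n)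
    (han : a ^ n = 1) (haV : a ∈ normalizer (V : Set G)) (hQV : Q ≤ normalizer (V : Set G))
    (haQ : a ∈ normalizer (Q : Set G))
    (hfpf : ∀ i, 0 < i → i < n → ∀ x ∈ Q, a ^ i * x = x * a ^ i → x = 1)
    (hfix : ∀ v ∈ V, (∀ x ∈ Q, x * v = v * x) → v = 1)
    (hcop : ∀ v ∈ V, v ^ Nat.card Q = 1 → v = 1)
    (hT : ∀ v ∈ V, (v * a) ^ n = 1) : V = ⊥ := by
  classical
  letI cg : CommGroup V :=
    { (inferInstance : Group V) with
      mul_comm := fun x y => Subtype.ext (hV x x.2 y y.2) }
  let N : Subgroup G := normalizer (V : Set G)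
  have hconj : ∀ w : N, ∀ x ∈ V, (w : G) * x * (w : G)⁻¹ ∈ V := fun w x hx =>
    (Subgroup.mem_normalizer_iff.mp w.2 x).mp hx
  let ρ : N →* AddMonoid.End (Additive V) :=
    { toFun := fun w => AddMonoidHom.mk' (fun v => Additive.ofMul ⟨(w : G) * (Additive.toMul v : V) * (w : G)⁻¹,
          hconj w _ (Additive.toMul v).2⟩) (by
          intro u v
          apply Additive.toMul.injective
          apply Subtype.ext
          show (w : G) * (((Additive.toMul u : V) : G) * (Additive.toMul v : V)) * (w : G)⁻¹ =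
            ((w : G) * (Additive.toMul u : V) * (w : G)⁻¹) * ((w : G) * (Additive.toMul v : V) * (w : G)⁻¹)
          group)
      map_one' := by
        ext v
        show ((1 : N) : G) * ((v : Additive V).toMul : V) * ((1 : N) : G)⁻¹ = _
        simp
      map_mul' := by
        intro a b
        ext v
        show ((a * b : N) : G) * ((v : Additive V).toMul : V) * ((a * b : N) : G)⁻¹ =
          (a : G) * ((b : G) * ((v : Additive V).toMul : V) * (b : G)⁻¹) * (a : G)⁻¹
        simp only [Subgroup.coe_mul]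
        group }
  have hρ : ∀ (w : N) (v : Additive V), (((ρ w v).toMul : V) : G) = (w : G) * ((v.toMul : V) : G) * (w : G)⁻¹ :=
    fun _ _ => rfl
  let Q' : Subgroup N := Q.subgroupOf N
  let y : N := ⟨a, haV⟩
  have hcardQ' : Nat.card Q' = Nat.card Q := by
    have hQ'eq : (Q'.map N.subtype) = Q := by
      rw [Subgroup.subgroupOf_map_subtype]
      exact inf_eq_left.mpr hQV
    rw [← hQ'eq]
    exact (Nat.card_congr (Subgroup.equivMapOfInjective Q' N.subtype N.subtype_injective).toEquiv)
  have hypow : ∀ i : ℕ, ((y ^ i : N) : G) = a ^ i := fun i => by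
    rw [Subgroup.coe_pow]
  have hsum : ∀ (v : Additive V) (m : ℕ),
      (((Additive.toMul (∑ i ∈ Finset.range m, ρ (y ^ i) v) : V)) : G) * a ^ m = (((Additive.toMul v : V) : G) * a) ^ m := by
    intro v m
    induction m with
    | zero => simp
    | succ m ih =>
      rw [Finset.sum_range_succ, toMul_add, Subgroup.coe_mul, pow_succ (((Additive.toMul v : V) : G) * a), ← ih, hρ, hypow]
      generalize ((Additive.toMul (∑ i ∈ Finset.range m, ρ (y ^ i) v) : V) : G) = A
      generalize ((Additive.toMul v : V) : G) = B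
      rw [pow_succ]
      group
  have hzero : ∀ v : Additive V, v = 0 := by
    intro v
    refine Cfsg.Agent.Lib.Recog.trace_core ρ Q' y n hn ?_ ?_ ?_ ?_ ?_ v
    · intro i x hx
      rw [Subgroup.mem_subgroupOf] at hx ⊢
      have h1 : a ^ i ∈ normalizer (Q : Set G) := Subgroup.pow_mem _ haQ i
      have h2 := (Subgroup.mem_normalizer_iff.mp h1 _).mp hx
      simpa [hypow] using h2
    · intro i hi0 hin x hx hc
      rw [Subgroup.mem_subgroupOf] at hx
      have h1 : a ^ i * (x : G) = (x : G) * a ^ i := by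
        have := congrArg Subtype.val hc
        simpa [hypow] using this
      exact Subtype.ext (hfpf i hi0 hin _ hx h1)
    · intro w hw
      apply Additive.toMul.injective
      apply Subtype.ext
      refine hfix _ (Additive.toMul w).2 fun x hx => ?_
      have h1 := hw ⟨x, hQV hx⟩ (Subgroup.mem_subgroupOf.mpr hx)
      have h2 := congrArg (fun z : Additive V => ((Additive.toMul z : V) : G)) h1
      simp only [hρ] at h2
      rw [mul_inv_eq_iff_eq_mul] at h2
      exact h2
    · intro w hw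
      rw [hcardQ'] at hw
      apply Additive.toMul.injective
      apply Subtype.ext
      refine hcop _ (Additive.toMul w).2 ?_
      have h2 := congrArg (fun z : Additive V => ((Additive.toMul z : V) : G)) hw
      simpa using h2
    · intro w
      apply Additive.toMul.injective
      apply Subtype.ext
      have h1 := hsum w n
      rw [han, mul_one, hT _ (Additive.toMul w).2] at h1
      exact h1
  rw [eq_bot_iff]
  intro x hx
  have := hzero (Additive.ofMul ⟨x, hx⟩)
  have h2 := congrArg (fun z : Additive V => ((Additive.toMul z : V) : G)) this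
  simpa using h2

lemma exists_normalizer_not_mem (hp : p.Prime) (hs : Split p H) {s : ℕ} [hsf : Fact s.Prime] (S : Sylow s H) :
    haveI := hs.normal
    ∃ a, a ∈ normalizer (((S : Subgroup H).map H.subtype : Subgroup G) : Set G) ∧ a ∉ H := by
  haveI hHn := hs.normal
  have hfr := S.normalizer_sup_eq_top
  by_contra hcon
  push_neg at hcon
  have h1 : normalizer (((S : Subgroup H).map H.subtype : Subgroup G) : Set G) ≤ H := hcon
  rw [sup_eq_right.mpr h1] at hfr
  have h2 := hs.index
  rw [hfr, Subgroup.index_top] at h2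
  exact hp.one_lt.ne h2

/-- Sylow subgroups for primes different from `p` and `r` centralize. -/
theorem sylow_centralizes_of_ne (hp : p.Prime) (hs : Split p H) {M : Subgroup G} [hMn : M.Normal] (hMH : M ≤ H)
    (hab : ∀ x ∈ M, ∀ y ∈ M, x * y = y * x) {r : ℕ} (hr : r.Prime) (hexp : ∀ x ∈ M, x ^ r = 1)
    {s : ℕ} [hsf : Fact s.Prime] (hsr : s ≠ r) (hsp : s ≠ p) (S : Sylow s H) :
    (S : Subgroup H).map H.subtype ≤ centralizer (M : Set G) := by
  classical
  haveI hHn := hs.normal
  haveI hrf : Fact r.Prime := ⟨hr⟩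
  obtain ⟨a, ha, haH⟩ := exists_normalizer_not_mem hp hs S
  set S' : Subgroup G := (S : Subgroup H).map H.subtype with hS'
  have hSp : IsPGroup s S' := S.isPGroup'.map H.subtype
  have hSH : S' ≤ H := Subgroup.map_subtype_le _
  have hMp : IsPGroup r M := fun x => ⟨1, by rw [pow_one]; exact Subtype.ext (hexp x x.2)⟩
  have hVM : ⁅M, S'⁆ ≤ M := Subgroup.commutator_le_left M S'
  have hact : Cfsg.Agent.Lib.Coprime.CoprimeAction S' M :=
    ⟨by rw [Subgroup.normalizer_eq_top_iff.mpr hMn]; exact le_top,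
      IsPGroup.coprime_card_of_ne s r hsr S' M hSp hMp,
      Or.inr (isSolvable_of_comm fun x y => Subtype.ext (hab x x.2 y y.2))⟩
  have hbot := hact.commutator_inf_centralizer_eq_bot ⟨⟨fun x y => Subtype.ext (hab x x.2 y y.2)⟩⟩
  have hMnorm : ∀ g : G, g ∈ normalizer (M : Set G) := fun g => by
    rw [Subgroup.normalizer_eq_top_iff.mpr hMn]; exact Subgroup.mem_top g
  have hV : ⁅M, S'⁆ = ⊥ := by
    refine eq_bot_of_trace _ S' (fun x hx y hy => hab x (hVM hx) y (hVM hy)) a p hp.pos (hs.pow a haH)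
      (normalizer_commutator (hMnorm a) ha) (fun u hu => normalizer_commutator (hMnorm u) (Subgroup.le_normalizer hu))
      ha ?_ ?_ ?_ ?_
    · intro i hi0 hin x hx hc
      have hk : ¬ p ∣ i := fun h => by
        have := Nat.le_of_dvd hi0 h
        omega
      have h1 := hs.pow_eq_one_of_commute (hs.pow_not_mem hp haH hk) (hSH hx) hc.symm
      obtain ⟨k, hk2⟩ := (IsPGroup.iff_orderOf.mp hSp) ⟨x, hx⟩
      have hk3 : orderOf x = s ^ k := by rwa [Subgroup.orderOf_mk] at hk2
      exact pow_prime_inj hp hsf.out hsp.symm h1 k (by rw [← hk3, pow_orderOf_eq_one])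
    · intro v hv hc
      have h1 : v ∈ ⁅M, S'⁆ ⊓ (M ⊓ centralizer (S' : Set G)) :=
        ⟨hv, hVM hv, Subgroup.mem_centralizer_iff.mpr hc⟩
      rw [hbot, Subgroup.mem_bot] at h1
      exact h1
    · intro v hv hc
      obtain ⟨k, hk⟩ := IsPGroup.iff_card.mp hSp
      rw [hk] at hc
      exact pow_prime_inj hr hsf.out hsr.symm (hexp v (hVM hv)) k hc
    · intro v hv
      have h1 : v * a ∉ H := fun h => haH ((H.mul_mem_cancel_left (hMH (hVM hv))).mp h)
      exact hs.pow _ h1
  rw [Subgroup.commutator_eq_bot_iff_le_centralizer] at hV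
  exact Subgroup.le_centralizer_iff.mp hV

/-- The Sylow `p`-subgroup centralizes when `r ≠ p`. -/
theorem sylow_centralizes_of_eq (hp : p.Prime) [hpf : Fact p.Prime] (hs : Split p H) {M : Subgroup G} [hMn : M.Normal] (hMH : M ≤ H)
    (hab : ∀ x ∈ M, ∀ y ∈ M, x * y = y * x) (hMne : M ≠ ⊥) {r : ℕ} (hr : r.Prime) (hexp : ∀ x ∈ M, x ^ r = 1)
    (hrp : r ≠ p) (S : Sylow p H) :
    (S : Subgroup H).map H.subtype ≤ centralizer (M : Set G) := by
  classical
  haveI hHn := hs.normal
  haveI hrf : Fact r.Prime := ⟨hr⟩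
  obtain ⟨a, ha, haH⟩ := exists_normalizer_not_mem hp hs S
  set S' : Subgroup G := (S : Subgroup H).map H.subtype with hS'
  have hSp : IsPGroup p S' := S.isPGroup'.map H.subtype
  have hSH : S' ≤ H := Subgroup.map_subtype_le _
  have hMp : IsPGroup r M := fun x => ⟨1, by rw [pow_one]; exact Subtype.ext (hexp x x.2)⟩
  have hzp : IsPGroup p (zpowers a) := by
    rintro ⟨x, k, rfl⟩
    refine ⟨1, Subtype.ext ?_⟩
    show (a ^ k) ^ p ^ 1 = 1
    rw [pow_one, ← zpow_natCast, ← zpow_mul, mul_comm, zpow_mul, zpow_natCast, hs.pow a haH, one_zpow]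
  set B : Subgroup G := zpowers a ⊔ S' with hB
  have hBp : IsPGroup p B := hzp.to_sup_of_normal_right' hSp (Subgroup.zpowers_le.mpr ha)
  have hBS : B ≤ normalizer (S' : Set G) := sup_le (Subgroup.zpowers_le.mpr ha) Subgroup.le_normalizer
  haveI hB₀ : (S'.subgroupOf B).Normal := Subgroup.normal_subgroupOf_of_le_normalizer hBS
  have hBH : ∀ x ∈ B, x ∈ H → x ∈ S' := by
    intro x hxB hxH
    have h1 : IsPGroup p (B.subgroupOf H) := hBp.comap_of_injective H.subtype H.subtype_injective
    have h2 : (S : Subgroup H) ≤ B.subgroupOf H := fun y hy => by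
      rw [Subgroup.mem_subgroupOf]
      exact (le_sup_right : S' ≤ B) ⟨y, hy, rfl⟩
    have h3 := S.is_maximal' h1 h2
    have h4 : (⟨x, hxH⟩ : H) ∈ B.subgroupOf H := Subgroup.mem_subgroupOf.mpr hxB
    rw [h3] at h4
    exact ⟨_, h4, rfl⟩
  have haB : a ∈ B := (le_sup_left : zpowers a ≤ B) (Subgroup.mem_zpowers a)
  have hMnorm : B ≤ normalizer (M : Set G) := by
    rw [Subgroup.normalizer_eq_top_iff.mpr hMn]; exact le_top
  obtain ⟨h1, -⟩ := action_structure_sub B M hMnorm hab hMne hBp
    (by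
      obtain ⟨k, hk⟩ := IsPGroup.iff_card.mp hMp
      rw [hk]
      exact Nat.Coprime.pow_left _ ((Nat.coprime_primes hr hp).mpr hrp))
    (S'.subgroupOf B)
    (by
      intro htop
      have : (⟨a, haB⟩ : B) ∈ S'.subgroupOf B := htop ▸ Subgroup.mem_top _
      exact haH (hSH (Subgroup.mem_subgroupOf.mp this)))
    (fun b hb => by
      have hb2 : (b : G) ∉ H := fun h => hb (Subgroup.mem_subgroupOf.mpr (hBH _ b.2 h))
      refine ⟨Subtype.ext (by simpa using hs.pow _ hb2), fun v hv hc => ?_⟩
      have h2 := hs.pow_eq_one_of_commute hb2 (hMH hv) hc.symm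
      exact pow_prime_inj hr hp hrp (hexp v hv) 1 (by rwa [pow_one]))
  intro u hu
  rw [Subgroup.mem_centralizer_iff]
  intro v hv
  have hub : u ∈ B := (le_sup_right : S' ≤ B) hu
  have h2 := h1 ⟨u, hub⟩ (Subgroup.mem_subgroupOf.mpr hu) v hv
  exact h2.symm

open Cfsg.Agent.Lib.Basic in
/-- A minimal normal subgroup inside `H` which is elementary abelian is central in `H`. -/
theorem min_le_centralizer (hp : p.Prime) (hs : Split p H) {M : Subgroup G} (hM : IsMinNormal M) (hMH : M ≤ H)
    (hab : ∀ x ∈ M, ∀ y ∈ M, x * y = y * x) {r : ℕ} (hr : r.Prime) (hexp : ∀ x ∈ M, x ^ r = 1) :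
    M ≤ centralizer (H : Set G) := by
  classical
  obtain ⟨hMn, hMne, hmin⟩ := id hM
  haveI := hMn
  haveI hHn := hs.normal
  haveI hrf : Fact r.Prime := ⟨hr⟩
  haveI hpf : Fact p.Prime := ⟨hp⟩
  have hMp : IsPGroup r M := fun x => ⟨1, by rw [pow_one]; exact Subtype.ext (hexp x x.2)⟩
  have hcent : ∀ s : ℕ, ∀ [Fact s.Prime], s ≠ r → ∀ S : Sylow s H,
      (S : Subgroup H).map H.subtype ≤ centralizer (M : Set G) := by
    intro s _ hsr S
    by_cases hsp : s = p
    · subst hsp
      exact sylow_centralizes_of_eq hp hs hMH hab hMne hr hexp hsr.symm S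
    · exact sylow_centralizes_of_ne hp hs hMH hab hr hexp hsr hsp S
  obtain ⟨R⟩ : Nonempty (Sylow r H) := inferInstance
  set R' : Subgroup G := (R : Subgroup H).map H.subtype with hR'
  have hRp : IsPGroup r R' := R.isPGroup'.map H.subtype
  have hne : M ⊓ centralizer (R' : Set G) ≠ ⊥ := by
    have h1 := Cfsg.Agent.Lib.Struct.card_modEq_inf_centralizer (Q := M) hRp
      (by rw [Subgroup.normalizer_eq_top_iff.mpr hMn]; exact le_top)
    intro hbot
    rw [hbot, Subgroup.card_bot] at h1
    obtain ⟨k, hk⟩ := IsPGroup.iff_card.mp hMp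
    have hk0 : k ≠ 0 := by
      rintro rfl
      rw [pow_zero, Subgroup.card_eq_one] at hk
      exact hMne hk
    rw [hk] at h1
    have h2 : r ∣ r ^ k := dvd_pow_self r hk0
    have h3 := (Nat.modEq_zero_iff_dvd.mpr h2).symm.trans h1
    have h4 : r ∣ 1 := (Nat.modEq_zero_iff_dvd.mp h3.symm)
    exact hr.one_lt.ne' (Nat.dvd_one.mp h4)
  have hY : M ⊓ centralizer (H : Set G) = M := by
    rcases hmin _ inferInstance (inf_le_left : M ⊓ centralizer (H : Set G) ≤ M) with h4 | h4
    · exfalso
      obtain ⟨v, ⟨hv1, hv2⟩, hv3⟩ := (Subgroup.bot_or_exists_ne_one _).resolve_left hne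
      apply hv3
      have hvc : v ∈ M ⊓ centralizer (H : Set G) := by
        refine ⟨hv1, ?_⟩
        -- the centralizer of `v` in `H` has index one
        let D : Subgroup H := (centralizer ({v} : Set G)).subgroupOf H
        have hDS : ∀ (s : ℕ) [Fact s.Prime], s ≠ r → ¬ s ∣ D.index := by
          intro s _ hsr
          obtain ⟨S⟩ : Nonempty (Sylow s H) := inferInstance
          refine Cfsg.Agent.Lib.Struct.not_dvd_index_of_sylow_le S ?_
          intro x hx
          rw [Subgroup.mem_subgroupOf, Subgroup.mem_centralizer_iff]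
          intro y hy
          rw [Set.mem_singleton_iff] at hy
          rw [hy]
          exact (Subgroup.mem_centralizer_iff.mp (hcent s hsr S ⟨x, hx, rfl⟩)) v hv1
        have hDR : ¬ r ∣ D.index := by
          refine Cfsg.Agent.Lib.Struct.not_dvd_index_of_sylow_le R ?_
          intro x hx
          rw [Subgroup.mem_subgroupOf, Subgroup.mem_centralizer_iff]
          intro y hy
          rw [Set.mem_singleton_iff] at hy
          rw [hy]
          exact ((Subgroup.mem_centralizer_iff.mp hv2) x ⟨x, hx, rfl⟩).symm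
        have hD1 : D.index = 1 := by
          by_contra hne1
          obtain ⟨s, hs1, hs2⟩ := Nat.exists_prime_and_dvd hne1
          haveI : Fact s.Prime := ⟨hs1⟩
          by_cases hsr : s = r
          · subst hsr
            exact hDR hs2
          · exact hDS s hsr hs2
        have hDtop : D = ⊤ := Subgroup.index_eq_one.mp hD1
        refine Subgroup.mem_centralizer_iff.mpr ?_
        intro h hh
        have h6 : (⟨h, hh⟩ : H) ∈ D := hDtop ▸ Subgroup.mem_top _
        rw [Subgroup.mem_subgroupOf, Subgroup.mem_centralizer_iff] at h6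
        exact (h6 v rfl).symm
      rw [h4, Subgroup.mem_bot] at hvc
      exact hvc
    · exact h4
  exact inf_eq_left.mp hY

end syl

end Cfsg.Agent.Lib.Struct.Hughes
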