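import Mathlib
import Cfsg.Agent.Lib.Struct.Hughes2

/-! # Kegel's theorem on splitting automorphisms, and the Hughes subgroup -/

set_option autoImplicit false

namespace Cfsg.Agent.Lib.Struct.Hughes

open Subgroup Cfsg

universe u

variable {p : ℕ}

/-- Kegel's theorem, in the form of a group extension. -/
theorem split_nilpotent (hp : p.Prime) : ∀ (n : ℕ) (G : Type u) [Group G] [Finite G] (H : Subgroup G),
    Nat.card G = n → Split p H → Group.IsNilpotent H := by
  intro n
  induction n using Nat.strong_induction_on with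
  | _ n ih =>
    intro G _ _ H hn hs
    have IH : IHyp.{u} p (Nat.card G) := fun X _ _ Y hX hY => ih (Nat.card X) (hn ▸ hX) X Y rfl hY
    haveI hHn := hs.normal
    by_cases hP : ∃ s, s.Prime ∧ IsPGroup s H
    · obtain ⟨s, hs1, hs2⟩ := hP
      haveI : Fact s.Prime := ⟨hs1⟩
      exact hs2.isNilpotent
    push_neg at hP
    obtain ⟨s, hs1, hs2, hd⟩ : ∃ s, s.Prime ∧ s ≠ 2 ∧ s ∣ Nat.card H := by
      by_contra hcon
      push_neg at hcon
      apply hP 2 Nat.prime_two
      haveI : Fact (Nat.Prime 2) := ⟨Nat.prime_two⟩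
      refine IsPGroup.of_card (n := (Nat.card H).primeFactorsList.length) ?_
      refine Nat.eq_prime_pow_of_unique_prime_dvd Nat.card_pos.ne' (fun {d} hd1 hd2 => ?_)
      by_contra hne
      exact hcon d hd1 hne hd2
    haveI : Fact s.Prime := ⟨hs1⟩
    obtain ⟨N, hNn, hNne, hNH, hNneH⟩ := exists_intermediate hp hs IH hs2 hd (hP s hs1)
    obtain ⟨a, haH⟩ := hs.exists_not_mem hp
    have hNnil : Group.IsNilpotent N := by
      set L : Subgroup G := N ⊔ zpowers a with hL
      have hinf : L ⊓ H = N := by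
        apply le_antisymm
        · rintro x ⟨hx1, hx2⟩
          obtain ⟨y, hy, z, hz, rfl⟩ := Subgroup.mem_sup_of_normal_left.mp hx1
          have hzH : z ∈ H := (H.mul_mem_cancel_left (hNH hy)).mp hx2
          obtain ⟨k, hk0⟩ := (mem_powers_iff_mem_zpowers).mpr hz
          have hk0' : a ^ k = z := hk0
          subst hk0'
          by_cases hk : p ∣ k
          · obtain ⟨j, rfl⟩ := hk
            rw [pow_mul, hs.pow a haH, one_pow, mul_one]
            exact hy
          · exact absurd hzH (hs.pow_not_mem hp haH hk)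
        · exact le_inf le_sup_left hNH
      have hLtop : L ≠ ⊤ := fun h => hNneH (by rw [h, top_inf_eq] at hinf; exact hinf.symm)
      have hLH : ¬ L ≤ H := fun h => haH (h ((le_sup_right : zpowers a ≤ L) (Subgroup.mem_zpowers a)))
      have := pair_sub hp hs IH hLtop hLH
      rwa [hinf] at this
    obtain ⟨M, hM, hMN⟩ := Cfsg.Agent.Lib.Basic.exists_isMinNormal_le hNn hNne
    obtain ⟨-, hab, r, hr, hexp⟩ := minNormal_structure hNnil hM hMN
    have hMH := hMN.trans hNH
    have hcent := min_le_centralizer hp hs hM hMH hab hr hexp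
    haveI := hM.1
    haveI := pair_quot hp hs IH M hM.2.1 hMH
    let f : H →* H.map (QuotientGroup.mk' M) := (QuotientGroup.mk' M).subgroupMap H
    refine Subgroup.isNilpotent_of_ker_le_center f ?_
    intro x hx
    rw [MonoidHom.mem_ker] at hx
    have hxM : (x : G) ∈ M := by
      have h1 := congrArg Subtype.val hx
      exact (QuotientGroup.eq_one_iff _).mp h1
    rw [Subgroup.mem_center_iff]
    intro g
    apply Subtype.ext
    exact (Subgroup.mem_centralizer_iff.mp (hcent hxM)) g g.2

/-- The Hughes subgroup: a proper Hughes subgroup, when `G` is not a `p`-group, is nilpotent of index `p`. -/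
theorem hughes_main {G : Type u} [Group G] [Finite G] (hp : p.Prime) (hG : ¬ IsPGroup p G)
    (hH : closure {g : G | g ^ p ≠ 1} ≠ ⊤) :
    Group.IsNilpotent (closure {g : G | g ^ p ≠ 1}) ∧ (closure {g : G | g ^ p ≠ 1}).index = p := by
  classical
  haveI hpf : Fact p.Prime := ⟨hp⟩
  set H : Subgroup G := closure {g : G | g ^ p ≠ 1} with hHdef
  have hpow : ∀ g, g ∉ H → g ^ p = 1 := by
    intro g hg
    by_contra hcon
    exact hg (Subgroup.subset_closure hcon)
  haveI hHn : H.Normal := by
    constructor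
    intro x hx g
    induction hx using Subgroup.closure_induction with
    | mem x hx =>
      apply Subgroup.subset_closure
      show (g * x * g⁻¹) ^ p ≠ 1
      rw [conj_pow]
      intro h
      apply hx
      have h2 : g * x ^ p * g⁻¹ = 1 := h
      have h3 : x ^ p = g⁻¹ * (g * x ^ p * g⁻¹) * g := by group
      rw [h3, h2]
      group
    | one => simp [H.one_mem]
    | mul x y _ _ hx hy =>
      have e : g * (x * y) * g⁻¹ = (g * x * g⁻¹) * (g * y * g⁻¹) := by group
      rw [e]
      exact H.mul_mem hx hy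
    | inv x _ hx =>
      have e : g * x⁻¹ * g⁻¹ = (g * x * g⁻¹)⁻¹ := by group
      rw [e]
      exact H.inv_mem hx
  have hquo : IsPGroup p (G ⧸ H) := by
    intro x
    obtain ⟨g, rfl⟩ := QuotientGroup.mk'_surjective H x
    refine ⟨1, ?_⟩
    rw [pow_one, ← map_pow]
    by_cases hg : g ∈ H
    · have h1 : QuotientGroup.mk' H g = 1 := (QuotientGroup.eq_one_iff g).mpr hg
      rw [map_pow, h1, one_pow]
    · rw [hpow g hg, map_one]
  obtain ⟨q, hq, hqp, hqd⟩ : ∃ q, q.Prime ∧ q ≠ p ∧ q ∣ Nat.card G := by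
    by_contra hcon
    push_neg at hcon
    apply hG
    refine IsPGroup.of_card (n := (Nat.card G).primeFactorsList.length) ?_
    refine Nat.eq_prime_pow_of_unique_prime_dvd Nat.card_pos.ne' (fun {d} hd1 hd2 => ?_)
    by_contra hne
    exact hcon d hd1 hne hd2
  haveI hqf : Fact q.Prime := ⟨hq⟩
  obtain ⟨Q⟩ : Nonempty (Sylow q G) := inferInstance
  have hQq : ∀ x ∈ (Q : Subgroup G), x ^ p = 1 → x = 1 := by
    intro x hx h1
    obtain ⟨k, hk2⟩ := (IsPGroup.iff_orderOf.mp Q.isPGroup') ⟨x, hx⟩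
    have hk3 : orderOf x = q ^ k := by rwa [Subgroup.orderOf_mk] at hk2
    exact pow_prime_inj hp hq hqp.symm h1 k (by rw [← hk3, pow_orderOf_eq_one])
  have hQH : (Q : Subgroup G) ≤ H := by
    intro x hx
    by_cases hx1 : x = 1
    · rw [hx1]; exact H.one_mem
    · exact Subgroup.subset_closure fun h => hx1 (hQq x hx h)
  set D : Subgroup G := normalizer ((Q : Subgroup G) : Set G) with hD
  have hfr : D ⊔ H = ⊤ := Q.normalizer_sup_eq_top' hQH
  obtain ⟨B⟩ : Nonempty (Sylow p D) := inferInstance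
  set B' : Subgroup G := (B : Subgroup D).map D.subtype with hB'
  have hB'p : IsPGroup p B' := B.isPGroup'.map D.subtype
  set V : Subgroup G := (Q : Subgroup G) ⊓ centralizer ((Q : Subgroup G) : Set G) with hVdef
  have hVQ : V ≤ Q := inf_le_left
  have hB'V : B' ≤ normalizer (V : Set G) := by
    rintro _ ⟨u, -, rfl⟩
    refine Cfsg.Agent.Lib.Coprime.mem_normalizer_of_conj_le V _ ?_
    rintro x ⟨hx1, hx2⟩
    refine ⟨(Subgroup.mem_normalizer_iff.mp u.2 x).mp hx1, Subgroup.mem_centralizer_iff.mpr fun y hy => ?_⟩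
    have h1 : (u : G)⁻¹ * y * u ∈ (Q : Subgroup G) := by
      have := (Subgroup.mem_normalizer_iff.mp (D.inv_mem u.2) y).mp hy
      simpa using this
    have h2 := (Subgroup.mem_centralizer_iff.mp hx2) _ h1
    show y * ((u : G) * x * (u : G)⁻¹) = (u : G) * x * (u : G)⁻¹ * y
    have h3 : y * ((u : G) * x * (u : G)⁻¹) = (u : G) * (((u : G)⁻¹ * y * u) * x) * (u : G)⁻¹ := by group
    have h4 : (u : G) * x * (u : G)⁻¹ * y = (u : G) * (x * ((u : G)⁻¹ * y * u)) * (u : G)⁻¹ := by group
    rw [h3, h4, h2]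
  have hVab : ∀ x ∈ V, ∀ y ∈ V, x * y = y * x := fun x hx y hy =>
    (Subgroup.mem_centralizer_iff.mp hy.2) x hx.1
  have hVne : V ≠ ⊥ := by
    have hQne : (Q : Subgroup G) ≠ ⊥ := by
      intro h
      have h1 := Q.not_dvd_index
      rw [h, Subgroup.index_bot] at h1
      exact h1 hqd
    haveI : Nontrivial (Q : Subgroup G) := (Subgroup.nontrivial_iff_ne_bot _).mpr hQne
    haveI : Nontrivial (Subgroup.center (Q : Subgroup G)) := Q.isPGroup'.center_nontrivial
    obtain ⟨x, hx⟩ := exists_ne (1 : Subgroup.center (Q : Subgroup G))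
    intro hbot
    have h1 : (((x : (Q : Subgroup G)) : G)) ∈ V := by
      refine ⟨(x : (Q : Subgroup G)).2, Subgroup.mem_centralizer_iff.mpr fun y hy => ?_⟩
      have := Subgroup.mem_center_iff.mp x.2 ⟨y, hy⟩
      exact congrArg (Subtype.val) this
    rw [hbot, Subgroup.mem_bot] at h1
    apply hx
    apply Subtype.ext
    apply Subtype.ext
    exact h1
  have hVc : (Nat.card V).Coprime p := by
    have h1 : IsPGroup q V := Q.isPGroup'.to_le hVQ
    obtain ⟨k, hk⟩ := IsPGroup.iff_card.mp h1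
    rw [hk]
    exact Nat.Coprime.pow_left _ ((Nat.coprime_primes hq hp).mpr hqp)
  let f' : B' →* G ⧸ H := (QuotientGroup.mk' H).comp B'.subtype
  let f : D →* G ⧸ H := (QuotientGroup.mk' H).comp D.subtype
  have hf : Function.Surjective f := by
    intro y
    obtain ⟨x, rfl⟩ := QuotientGroup.mk'_surjective H y
    have hx : x ∈ D ⊔ H := by rw [hfr]; exact Subgroup.mem_top x
    obtain ⟨d, hd, h, hh, rfl⟩ := Subgroup.mem_sup_of_normal_right.mp hx
    refine ⟨⟨d, hd⟩, ?_⟩
    show QuotientGroup.mk' H d = QuotientGroup.mk' H (d * h)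
    have h1 : QuotientGroup.mk' H h = 1 := (QuotientGroup.eq_one_iff h).mpr hh
    rw [map_mul, h1, mul_one]
  have hBmap : (B : Subgroup D).map f = ⊤ := by
    have h1 : ((B : Subgroup D).map f).index ∣ (B : Subgroup D).index := Subgroup.index_map_dvd _ hf
    have h2 : ((B : Subgroup D).map f).index ∣ Nat.card (G ⧸ H) := Subgroup.index_dvd_card _
    obtain ⟨k, hk⟩ := IsPGroup.iff_card.mp hquo
    rw [hk] at h2
    obtain ⟨j, -, hj⟩ := (Nat.dvd_prime_pow hp).mp h2
    rw [← Subgroup.index_eq_one, hj]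
    rcases Nat.eq_zero_or_pos j with rfl | hj0
    · rfl
    · exfalso
      apply B.not_dvd_index
      refine Dvd.dvd.trans ?_ h1
      rw [hj]
      exact dvd_pow_self p hj0.ne'
  have hrange : f'.range = ⊤ := by
    rw [eq_top_iff]
    intro y _
    have hy : y ∈ (B : Subgroup D).map f := by rw [hBmap]; exact Subgroup.mem_top y
    obtain ⟨b, hb, rfl⟩ := hy
    exact ⟨⟨(b : G), ⟨b, hb, rfl⟩⟩, rfl⟩
  have hidx : f'.ker.index = H.index := by
    rw [Subgroup.index_ker, hrange, Subgroup.card_top, Subgroup.index_eq_card]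
  have hne : f'.ker ≠ ⊤ := by
    intro htop
    rw [htop, Subgroup.index_top] at hidx
    exact hH (Subgroup.index_eq_one.mp hidx.symm)
  obtain ⟨-, h2⟩ := action_structure_sub B' V hB'V hVab hVne hB'p hVc f'.ker hne (fun b hb => by
    have hb2 : (b : G) ∉ H := fun h => hb (by
      rw [MonoidHom.mem_ker]
      exact (QuotientGroup.eq_one_iff _).mpr h)
    refine ⟨Subtype.ext (by simpa using hpow _ hb2), fun v hv hc => ?_⟩
    have hvH : v ∈ H := hQH (hVQ hv)
    have h1 : v * (b : G) ∉ H := fun h => hb2 ((H.mul_mem_cancel_left hvH).mp h)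
    have h3 := hpow _ h1
    rw [(show Commute v (b : G) from hc.symm).mul_pow, hpow _ hb2, mul_one] at h3
    exact hQq v (hVQ hv) h3)
  have hHidx : H.index = p := hidx.symm.trans h2
  exact ⟨split_nilpotent hp _ G H rfl ⟨hHn, hHidx, hpow⟩, hHidx⟩

end Cfsg.Agent.Lib.Struct.Hughes
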