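import Mathlib
import Cfsg.Agent.Lib.Char.Burnside
import Cfsg.Agent.Lib.Struct.Sec4b
import Cfsg.Agent.Lib.Struct.CycSylow
import Cfsg.Agent.Lib.Struct.MaxNil

/-!
# Groups with a cyclic-by-(cyclic 2-group) subgroup of prime power index are solvable
-/

set_option autoImplicit false

namespace Cfsg.Agent.Lib.Struct.MetaIndex

open Subgroup

universe u

/-- Cyclic-by-(cyclic `2`-group). -/
def MetaTwo (X : Type*) [Group X] : Prop :=
  ∃ B : Subgroup X, ∃ _ : B.Normal, IsCyclic B ∧ IsCyclic (X ⧸ B) ∧ IsPGroup 2 (X ⧸ B)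

theorem MetaTwo.of_injective {X Y : Type*} [Group X] [Group Y] (h : MetaTwo Y) (f : X →* Y)
    (hf : Function.Injective f) : MetaTwo X := by
  obtain ⟨B, hBn, hB, hq, h2⟩ := h
  let φ : X →* Y ⧸ B := (QuotientGroup.mk' B).comp f
  have hmem : ∀ x : X, x ∈ φ.ker ↔ f x ∈ B := by
    intro x
    rw [MonoidHom.mem_ker]
    exact QuotientGroup.eq_one_iff _
  refine ⟨φ.ker, inferInstance, ?_, ?_, ?_⟩
  · let g : φ.ker →* B := (f.comp φ.ker.subtype).codRestrict B (fun x => (hmem x.1).mp x.2)
    have hg : Function.Injective g := by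
      intro a b hab
      have h1 : f a.1 = f b.1 := congrArg (fun z : B => (z : Y)) hab
      exact Subtype.ext (hf h1)
    exact isCyclic_of_injective g hg
  · exact isCyclic_of_injective (QuotientGroup.kerLift φ) (QuotientGroup.kerLift_injective φ)
  · exact h2.of_injective (QuotientGroup.kerLift φ) (QuotientGroup.kerLift_injective φ)

theorem MetaTwo.of_surjective {Y Z : Type*} [Group Y] [Group Z] (h : MetaTwo Y) (f : Y →* Z)
    (hf : Function.Surjective f) : MetaTwo Z := by
  obtain ⟨B, hBn, hB, hq, h2⟩ := h
  haveI hN : (B.map f).Normal := hBn.map f hf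
  let g : Y ⧸ B →* Z ⧸ B.map f := QuotientGroup.map B (B.map f) f (Subgroup.le_comap_map f B)
  have hg : Function.Surjective g := by
    intro z
    obtain ⟨z', rfl⟩ := QuotientGroup.mk'_surjective _ z
    obtain ⟨y, rfl⟩ := hf z'
    exact ⟨QuotientGroup.mk y, rfl⟩
  refine ⟨B.map f, hN, ?_, ?_, ?_⟩
  · exact isCyclic_of_surjective (f.subgroupMap B) (f.subgroupMap_surjective B)
  · exact isCyclic_of_surjective g hg
  · exact h2.of_surjective g hg

theorem isSolvable_of_cyclic {X : Type*} [Group X] [IsCyclic X] : Group.IsSolvable X :=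
  isSolvable_of_comm (fun a b => (IsCyclic.isMulCommutative (α := X)).is_comm.comm a b)

theorem MetaTwo.isSolvable {X : Type*} [Group X] (h : MetaTwo X) : Group.IsSolvable X := by
  obtain ⟨B, hBn, hB, hq, -⟩ := h
  haveI : Group.IsSolvable B := isSolvable_of_cyclic
  haveI : Group.IsSolvable (X ⧸ B) := isSolvable_of_cyclic
  exact solvable_of_ker_le_range B.subtype (QuotientGroup.mk' B) (by simp)

section Simple

variable {G : Type u} [Group G] [Finite G] [IsSimpleGroup G]

theorem no_class (hna : ∃ a b : G, a * b ≠ b * a) (q k : ℕ) (hq : q.Prime) (x : G) (hx : x ≠ 1)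
    (h : (centralizer ({x} : Set G)).index ∣ q ^ k) : False := by
  obtain ⟨j, -, hj⟩ := (Nat.dvd_prime_pow hq).mp h
  have hpr := Cfsg.Agent.Lib.Char.prime_card_of_class_prime_pow q j hq x hx hj
  haveI : Fact (Nat.card G).Prime := ⟨hpr⟩
  haveI : IsCyclic G := isCyclic_of_prime_card (p := Nat.card G) rfl
  obtain ⟨a, b, hab⟩ := hna
  exact hab ((IsCyclic.isMulCommutative (α := G)).is_comm.comm a b)

theorem no_pow_card (hna : ∃ a b : G, a * b ≠ b * a) (q k : ℕ) (hq : q.Prime)
    (h : Nat.card G ∣ q ^ k) : False := by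
  obtain ⟨x, hx⟩ := exists_ne (1 : G)
  refine no_class hna q k hq x hx (dvd_trans ?_ h)
  exact Subgroup.index_dvd_card _

theorem no_central (hna : ∃ a b : G, a * b ≠ b * a) (A : Subgroup G) (p s : ℕ) (hp : p.Prime)
    (hA : A.index = p ^ s) (x : G) (hx : x ≠ 1) (hc : ∀ a ∈ A, a * x = x * a) : False := by
  refine no_class hna p s hp x hx ?_
  rw [← hA]
  apply Subgroup.index_dvd_of_le
  intro a ha
  rw [Subgroup.mem_centralizer_singleton_iff]
  exact hc a ha

theorem no_cyclic_two (hna : ∃ a b : G, a * b ≠ b * a) (S : Sylow 2 G) (hS : IsCyclic (S : Subgroup G))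
    (h2 : 2 ∣ Nat.card G) : False := by
  haveI : Fact (Nat.Prime 2) := ⟨Nat.prime_two⟩
  have hmin : (Nat.card G).minFac = 2 := (Nat.minFac_eq_two_iff _).mpr h2
  have hc := IsCyclic.isComplement' hmin (P := S) hS
  obtain ⟨K, hK⟩ : ∃ K : Subgroup G, K = (MonoidHom.transferSylow S (hS.normalizer_le_centralizer hmin)).ker := ⟨_, rfl⟩
  have hKn : K.Normal := by rw [hK]; infer_instance
  rw [← hK] at hc
  have hcard : K.index = Nat.card (S : Subgroup G) := hc.symm.index_eq_card
  obtain ⟨k, hk⟩ := S.isPGroup'.exists_card_eq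
  rcases hKn.eq_bot_or_eq_top with h | h
  · rw [h, Subgroup.index_bot] at hcard
    exact no_pow_card hna 2 k Nat.prime_two (by rw [hcard, hk])
  · rw [h, Subgroup.index_top] at hcard
    apply S.not_dvd_index
    have h3 := S.1.card_mul_index
    rw [← hcard, one_mul] at h3
    rwa [h3]

/-- The simple case. -/
theorem simple_false (hna : ∃ a b : G, a * b ≠ b * a) (A : Subgroup G) (p s : ℕ) (hp : p.Prime)
    (hA : A.index = p ^ s) (h : MetaTwo A) : False := by
  classical
  haveI : Fact (Nat.Prime 2) := ⟨Nat.prime_two⟩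
  obtain ⟨B, hBn, hBc, hqc, hq2⟩ := h
  obtain ⟨r, hr⟩ := hq2.exists_card_eq
  by_cases hev : 2 ∣ Nat.card B
  · -- a unique involution
    obtain ⟨t, ht⟩ := exists_prime_orderOf_dvd_card' 2 hev
    have ht1 : (t : G) ≠ 1 := by
      intro h1
      have : t = 1 := Subtype.ext (Subtype.ext h1)
      rw [this, orderOf_one] at ht
      omega
    refine no_central hna A p s hp hA (t : G) ht1 ?_
    intro a ha
    let a' : A := ⟨a, ha⟩
    let t' : B := ⟨a' * t * a'⁻¹, hBn.conj_mem _ t.2 _⟩
    have ht2 : t' ^ 2 = 1 := by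
      apply Subtype.ext
      show (a' * t * a'⁻¹) ^ 2 = 1
      have h1 : (t : A) ^ 2 = 1 := by
        have := pow_orderOf_eq_one t
        rw [ht] at this
        exact_mod_cast congrArg (fun z : B => (z : A)) this
      rw [conj_pow, h1]
      simp
    have hmem : t' ∈ zpowers t := Struct.cyc_mem_zpowers (X := B) (by norm_num) ht ht2
    obtain ⟨k, hk⟩ := mem_zpowers_iff.mp hmem
    have hne : t' ≠ 1 := by
      intro h1
      have h2 : (a' * t * a'⁻¹ : A) = 1 := congrArg (fun z : B => (z : A)) h1
      have h3 : ((t : B) : A) = 1 := by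
        have : (a' * t : A) = a' := by
          rw [mul_inv_eq_one] at h2
          exact h2
        simpa using this
      exact ht1 (congrArg (fun z : A => (z : G)) h3)
    have htt : t' = t := by
      rcases Int.even_or_odd' k with ⟨m, rfl | rfl⟩
      · exfalso
        apply hne
        rw [← hk, zpow_mul, zpow_ofNat, show t ^ 2 = 1 by rw [← ht]; exact pow_orderOf_eq_one t, one_zpow]
      · rw [← hk, zpow_add, zpow_mul, zpow_ofNat, show t ^ 2 = 1 by rw [← ht]; exact pow_orderOf_eq_one t, one_zpow, one_mul, zpow_one]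
    have h4 : (a' * t * a'⁻¹ : A) = t := congrArg (fun z : B => (z : A)) htt
    have h5 : a' * (t : A) = t * a' := by
      rw [mul_inv_eq_iff_eq_mul] at h4
      exact h4
    exact congrArg (fun z : A => (z : G)) h5
  · by_cases hp2 : p = 2
    · subst hp2
      by_cases hbot : ∃ x : B, x ≠ 1
      · obtain ⟨x, hx⟩ := hbot
        have hx1 : ((x : A) : G) ≠ 1 := by
          intro h1
          exact hx (Subtype.ext (Subtype.ext h1))
        refine no_class hna 2 (r + s) Nat.prime_two _ hx1 ?_
        obtain ⟨C, hC⟩ : ∃ C : Subgroup G, C = centralizer ({((x : A) : G)} : Set G) := ⟨_, rfl⟩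
        rw [← hC]
        have h1 : (C.subgroupOf A).index ∣ 2 ^ r := by
          rw [← hr]
          apply Subgroup.index_dvd_of_le
          intro b hb
          rw [Subgroup.mem_subgroupOf, hC, Subgroup.mem_centralizer_singleton_iff]
          have h2 : (⟨b, hb⟩ : B) * x = x * ⟨b, hb⟩ :=
            (IsCyclic.isMulCommutative (α := B)).is_comm.comm _ _
          have h3 := congrArg (fun z : B => ((z : A) : G)) h2
          simpa using h3
        have h2 : (C ⊓ A).index = C.relIndex A * A.index := by
          rw [← Subgroup.inf_relIndex_right C A, Subgroup.relIndex_mul_index inf_le_right]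
        have h3 : C.index ∣ (C ⊓ A).index := Subgroup.index_dvd_of_le inf_le_left
        rw [pow_add]
        refine dvd_trans h3 ?_
        rw [h2, hA]
        exact Nat.mul_dvd_mul_right h1 _
      · push_neg at hbot
        have hcb : Nat.card B = 1 := by
          rw [Nat.card_eq_one_iff_unique]
          exact ⟨⟨fun a b => by rw [hbot a, hbot b]⟩, ⟨1⟩⟩
        have h1 := B.card_mul_index
        rw [hcb, one_mul] at h1
        have h2 : B.index = 2 ^ r := hr
        have h3 := A.card_mul_index
        refine no_pow_card hna 2 (r + s) Nat.prime_two ?_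
        rw [← h3, hA, ← h1, h2, pow_add]
    · -- `p` is odd
      have hpodd : ¬ 2 ∣ p ^ s := by
        intro h
        exact hp2 ((Nat.prime_dvd_prime_iff_eq Nat.prime_two hp).mp (Nat.prime_two.dvd_of_dvd_pow h)).symm
      by_cases h2A : 2 ∣ Nat.card A
      · -- cyclic Sylow
        let P₀ : Sylow 2 A := default
        have hdisj : ∀ u : A, u ∈ (P₀ : Subgroup A) → u ∈ B → u = 1 := by
          intro u hu huB
          obtain ⟨k, hk⟩ := IsPGroup.iff_orderOf.mp P₀.isPGroup' ⟨u, hu⟩
          have h1 : orderOf (⟨u, huB⟩ : B) ∣ Nat.card B := orderOf_dvd_natCard _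
          have h2 : orderOf (⟨u, huB⟩ : B) = 2 ^ k := by
            rw [← hk]
            exact (Subgroup.orderOf_mk u huB).trans (Subgroup.orderOf_mk u hu).symm
          rw [h2] at h1
          have hk0 : k = 0 := by
            by_contra hk0
            exact hev (dvd_trans (dvd_pow_self 2 hk0) h1)
          rw [hk0, pow_zero, Subgroup.orderOf_mk, orderOf_eq_one_iff] at hk
          exact hk
        let φ : (P₀ : Subgroup A) →* A ⧸ B := (QuotientGroup.mk' B).comp (P₀ : Subgroup A).subtype
        have hφ : Function.Injective φ := by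
          rw [injective_iff_map_eq_one]
          intro u hu
          have h1 : (u : A) ∈ B := (QuotientGroup.eq_one_iff _).mp hu
          exact Subtype.ext (hdisj _ u.2 h1)
        have hP₀c : IsCyclic (P₀ : Subgroup A) := isCyclic_of_injective φ hφ
        have hPp : IsPGroup 2 ((P₀ : Subgroup A).map A.subtype) := P₀.isPGroup'.map _
        have hPi : ¬ 2 ∣ ((P₀ : Subgroup A).map A.subtype).index := by
          rw [Subgroup.index_map_subtype, hA]
          intro h
          rcases Nat.prime_two.dvd_mul.mp h with h | h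
          · exact P₀.not_dvd_index h
          · exact hpodd h
        obtain ⟨S, hS⟩ := Struct.sylow_of_not_dvd_index hPp hPi
        have hSc : IsCyclic (S : Subgroup G) := by
          rw [hS]
          exact isCyclic_of_surjective _ (Subgroup.equivMapOfInjective (P₀ : Subgroup A) A.subtype A.subtype_injective).surjective
        refine no_cyclic_two hna S hSc ?_
        rw [← A.card_mul_index]
        exact Dvd.dvd.mul_right h2A _
      · have hr0 : r = 0 := by
          by_contra hr0
          apply h2A
          have h1 := B.card_mul_index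
          have h2 : B.index = 2 ^ r := hr
          rw [← h1, h2]
          exact Dvd.dvd.mul_left (dvd_pow_self 2 hr0) _
        have hBt : B = ⊤ := by
          apply Subgroup.index_eq_one.mp
          show Nat.card (A ⧸ B) = 1
          rw [hr, hr0, pow_zero]
        have hAc : ∀ u v : A, u * v = v * u := by
          intro u v
          have hu : u ∈ B := by rw [hBt]; trivial
          have hv : v ∈ B := by rw [hBt]; trivial
          have h2 : (⟨u, hu⟩ : B) * ⟨v, hv⟩ = ⟨v, hv⟩ * ⟨u, hu⟩ :=
            (IsCyclic.isMulCommutative (α := B)).is_comm.comm _ _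
          exact congrArg (fun z : B => (z : A)) h2
        by_cases hbot : ∃ x : A, x ≠ 1
        · obtain ⟨x, hx⟩ := hbot
          refine no_central hna A p s hp hA (x : G) (fun h1 => hx (Subtype.ext h1)) ?_
          intro a ha
          exact congrArg (fun z : A => (z : G)) (hAc ⟨a, ha⟩ x)
        · push_neg at hbot
          have hcb : Nat.card A = 1 := by
            rw [Nat.card_eq_one_iff_unique]
            exact ⟨⟨fun a b => by rw [hbot a, hbot b]⟩, ⟨1⟩⟩
          have h3 := A.card_mul_index
          rw [hcb, one_mul, hA] at h3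
          exact no_pow_card hna p s hp h3.symm.dvd

end Simple

theorem relIndex_dvd_index_of_normal' {G : Type u} [Group G] [Finite G] (A N : Subgroup G) [N.Normal] :
    (A.subgroupOf N).index ∣ A.index := by
  have h1 := Struct.card_sup_mul_inf_of_normal N A
  have h2 := Struct.card_inf_mul_relIndex A N
  have h3 : Nat.card ↥(N ⊓ A) = Nat.card ↥(A ⊓ N) := by rw [inf_comm]
  have hrel : A.relIndex N = (A.subgroupOf N).index := rfl
  rw [← hrel]
  have hcA : 0 < Nat.card A := Nat.card_pos
  have hcI : 0 < Nat.card ↥(A ⊓ N) := Nat.card_pos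
  have h4 : Nat.card ↥(N ⊔ A) = A.relIndex N * Nat.card A := by
    rw [h3] at h1
    apply Nat.eq_of_mul_eq_mul_right hcI
    rw [h1, ← h2]
    ring
  have h5 := (N ⊔ A).card_mul_index
  have h6 := A.card_mul_index
  rw [h4] at h5
  rw [← h5] at h6
  refine ⟨(N ⊔ A).index, ?_⟩
  apply Nat.eq_of_mul_eq_mul_left hcA
  rw [h6]
  ring

theorem main_aux : ∀ (n : ℕ) (G : Type u) [Group G] [Finite G], Nat.card G = n →
    ∀ (A : Subgroup G) (p s : ℕ), p.Prime → A.index = p ^ s → MetaTwo A → Group.IsSolvable G := by
  intro n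
  induction n using Nat.strong_induction_on with
  | _ n ih =>
  intro G _ _ hn A p s hp hA hM
  by_cases hsimple : IsSimpleGroup G
  · by_cases hna : ∃ a b : G, a * b ≠ b * a
    · exact (simple_false hna A p s hp hA hM).elim
    · push_neg at hna
      exact isSolvable_of_comm hna
  · by_cases htriv : Nontrivial G
    · obtain ⟨N, hN, hN1, hN2⟩ : ∃ N : Subgroup G, N.Normal ∧ N ≠ ⊥ ∧ N ≠ ⊤ := by
        by_contra hcon
        push_neg at hcon
        apply hsimple
        refine ⟨fun H hH => ?_⟩
        by_cases h : H = ⊥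
        · exact Or.inl h
        · exact Or.inr (hcon H hH h)
      haveI := hN
      have hc1 : Nat.card N < n := by
        rw [← hn]
        have h1 := N.card_mul_index
        have h2 : 1 < N.index := by
          have h3 : N.index ≠ 1 := fun h => hN2 (Subgroup.index_eq_one.mp h)
          have h4 : N.index ≠ 0 := Subgroup.index_ne_zero_of_finite
          omega
        rw [← h1]
        exact lt_mul_of_one_lt_right Nat.card_pos h2
      have hc2 : Nat.card (G ⧸ N) < n := by
        rw [← hn]
        have h1 := N.card_mul_index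
        have h2 : 1 < Nat.card N := by
          have h3 : Nat.card N ≠ 1 := fun h => hN1 ((Subgroup.card_eq_one).mp h)
          have h4 : Nat.card N ≠ 0 := Nat.card_pos.ne'
          omega
        rw [← h1]
        show N.index < _
        exact lt_mul_of_one_lt_left (Nat.pos_of_ne_zero Subgroup.index_ne_zero_of_finite) h2
      obtain ⟨k, -, hk⟩ := (Nat.dvd_prime_pow hp).mp (hA ▸ relIndex_dvd_index_of_normal' A N)
      have hf : Function.Surjective (QuotientGroup.mk' N) := QuotientGroup.mk'_surjective N
      have hidx : (A.map (QuotientGroup.mk' N)).index ∣ A.index := A.index_map_dvd hf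
      obtain ⟨j, -, hj⟩ := (Nat.dvd_prime_pow hp).mp (hA ▸ hidx)
      have hM1 : MetaTwo (A.subgroupOf N) := by
        let g : A.subgroupOf N →* A :=
          ((N.subtype).comp (A.subgroupOf N).subtype).codRestrict A (fun x => x.2)
        refine hM.of_injective g ?_
        intro a b hab
        have h1 : ((a : N) : G) = b := congrArg (fun z : A => (z : G)) hab
        exact Subtype.ext (Subtype.ext h1)
      have hM2 : MetaTwo (A.map (QuotientGroup.mk' N)) :=
        hM.of_surjective _ ((QuotientGroup.mk' N).subgroupMap_surjective A)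
      haveI s1 : Group.IsSolvable N := ih _ hc1 N rfl (A.subgroupOf N) p k hp hk hM1
      haveI s2 : Group.IsSolvable (G ⧸ N) := ih _ hc2 (G ⧸ N) rfl _ p j hp hj hM2
      exact solvable_of_ker_le_range N.subtype (QuotientGroup.mk' N) (by simp)
    · rw [not_nontrivial_iff_subsingleton] at htriv
      exact isSolvable_of_comm (fun a b => Subsingleton.elim _ _)

theorem main {G : Type*} [Group G] [Finite G] (A : Subgroup G) (p s : ℕ) (hp : p.Prime) (hA : A.index = p ^ s)
    (B : Subgroup A) [B.Normal] (hB : IsCyclic B) (hAB : IsCyclic (A ⧸ B)) (r : ℕ) (hr : Nat.card (A ⧸ B) = 2 ^ r) :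
    Group.IsSolvable G :=
  main_aux _ G rfl A p s hp hA ⟨B, inferInstance, hB, hAB, IsPGroup.of_card hr⟩

end Cfsg.Agent.Lib.Struct.MetaIndex
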