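import Cfsg.Agent.Lib.Struct.Fitting

/-! `p`-elements with class size prime to `p`: reduction to simple groups. -/

namespace Cfsg.Agent.Lib.Struct

open Cfsg
open scoped Pointwise

variable {G : Type*} [Group G] [Finite G] {p : ℕ} [hp : Fact p.Prime]

theorem exists_sylow_le_centralizer (x : G) (h : ¬ p ∣ (Subgroup.centralizer ({x} : Set G)).index) :
    ∃ Q : Sylow p G, (Q : Subgroup G) ≤ Subgroup.centralizer ({x} : Set G) := by
  obtain ⟨P⟩ : Nonempty (Sylow p G) := inferInstance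
  obtain ⟨g, hg⟩ := Coprime.exists_le_conj_of_not_dvd_index P.isPGroup' _ h
  obtain ⟨Q, hQ⟩ := Coprime.exists_sylow_eq_conj P g⁻¹
  refine ⟨Q, ?_⟩
  rw [hQ]
  rintro u ⟨v, hv, rfl⟩
  have h1 := (Coprime.mem_conj_map _ g v).mp (hg hv)
  simpa using h1

theorem mem_sylow_of_le_centralizer {x : G} (k : ℕ) (hk : orderOf x = p ^ k) (Q : Sylow p G)
    (hQ : (Q : Subgroup G) ≤ Subgroup.centralizer ({x} : Set G)) : x ∈ (Q : Subgroup G) := by
  have hp' : IsPGroup p (Subgroup.zpowers x) := by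
    rw [IsPGroup.iff_card, Nat.card_zpowers, hk]
    exact ⟨k, rfl⟩
  have h1 := hp'.inf_normalizer_sylow Q
  have hcomm : ∀ h ∈ (Q : Subgroup G), x * h * x⁻¹ = h := by
    intro h hh
    have := Subgroup.mem_centralizer_singleton_iff.mp (hQ hh)
    rw [← this]
    simp
  have hx : x ∈ Subgroup.normalizer (((Q : Subgroup G)) : Set G) := by
    rw [Subgroup.mem_normalizer_iff]
    intro h
    constructor
    · intro hh
      rw [hcomm h hh]
      exact hh
    · intro hh
      have := hcomm _ hh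
      have h3 : x * h * x⁻¹ = h := by
        have h4 : x * (x * h * x⁻¹) * x⁻¹ = x * h * x⁻¹ := this
        have h5 : x * (x * h * x⁻¹) = (x * h * x⁻¹) * x := by
          calc x * (x * h * x⁻¹) = x * (x * h * x⁻¹) * x⁻¹ * x := by group
            _ = (x * h * x⁻¹) * x := by rw [h4]
        have h6 : x * h * x⁻¹ = h := by
          apply mul_left_cancel (a := x)
          rw [h5]
          group
        exact h6
      rw [h3] at hh
      exact hh
  have h2 : x ∈ Subgroup.zpowers x ⊓ Subgroup.normalizer (((Q : Subgroup G)) : Set G) :=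
    ⟨Subgroup.mem_zpowers x, hx⟩
  exact (h1.le h2).2

/-- The `p'`-class-size property passes to the normal subgroup. -/
theorem not_dvd_index_centralizer_normal (N : Subgroup G) [N.Normal] (x : N)
    (h : ¬ p ∣ (Subgroup.centralizer ({(x : G)} : Set G)).index) :
    ¬ p ∣ (Subgroup.centralizer ({x} : Set N)).index := by
  obtain ⟨Q, hQ⟩ := exists_sylow_le_centralizer (p := p) (x : G) h
  obtain ⟨S, hS⟩ := Coprime.exists_sylow_map_eq_inf Q N
  refine not_dvd_index_of_sylow_le S ?_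
  intro u hu
  rw [Subgroup.mem_centralizer_singleton_iff]
  have h1 : (u : G) ∈ (S : Subgroup N).map N.subtype := ⟨u, hu, rfl⟩
  rw [hS] at h1
  have h2 := Subgroup.mem_centralizer_singleton_iff.mp (hQ h1.1)
  ext
  simpa using h2

/-- The `p'`-class-size property passes to quotients. -/
theorem not_dvd_index_centralizer_quotient (N : Subgroup G) [N.Normal]
    (hcl : ∀ x : G, (∃ k : ℕ, orderOf x = p ^ k) →
      ¬ p ∣ (Subgroup.centralizer ({x} : Set G)).index)
    (x : G ⧸ N) (hx : ∃ k : ℕ, orderOf x = p ^ k) :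
    ¬ p ∣ (Subgroup.centralizer ({x} : Set (G ⧸ N))).index := by
  induction x using QuotientGroup.induction_on with
  | H g =>
    obtain ⟨u, v, huv, hu, hv, ⟨k, hk⟩, hvc, hcomm⟩ := LocalEven.exists_p_decomp (p := p) g
      (isOfFinOrder_of_finite g)
    -- the image of `v` is trivial
    have hv1 : ((v : G) : G ⧸ N) = 1 := by
      obtain ⟨j, hj⟩ := hx
      apply LocalEven.eq_one_of_coprime_of_pPower (p := p)
      · have h1 : ((v : G) : G ⧸ N) ∈ Subgroup.zpowers ((g : G) : G ⧸ N) := by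
          obtain ⟨m, rfl⟩ := hv
          exact ⟨m, by simp⟩
        have h2 := orderOf_dvd_of_mem_zpowers h1
        rw [hj] at h2
        obtain ⟨i, _, hi⟩ := (Nat.dvd_prime_pow hp.out).mp h2
        exact ⟨i, hi⟩
      · have h2 : orderOf ((v : G) : G ⧸ N) ∣ orderOf v :=
          orderOf_map_dvd (QuotientGroup.mk' N) v
        exact Nat.Coprime.coprime_dvd_left h2 hvc
    have hgu : ((g : G) : G ⧸ N) = ((u : G) : G ⧸ N) := by
      rw [huv, QuotientGroup.mk_mul, hv1, mul_one]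
    rw [hgu]
    obtain ⟨Q, hQ⟩ := exists_sylow_le_centralizer (p := p) u (hcl u ⟨k, hk⟩)
    let S : Sylow p (G ⧸ N) := Q.mapSurjective (QuotientGroup.mk'_surjective N)
    refine not_dvd_index_of_sylow_le S ?_
    intro w hw
    have h1 : w ∈ (Q : Subgroup G).map (QuotientGroup.mk' N) := by
      simpa [S] using hw
    obtain ⟨z, hz, rfl⟩ := h1
    rw [Subgroup.mem_centralizer_singleton_iff]
    have h2 := Subgroup.mem_centralizer_singleton_iff.mp (hQ hz)
    have h3 := congrArg (QuotientGroup.mk' N) h2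
    simpa using h3

theorem exists_conj_inf_normal (P Q : Sylow p G) (N : Subgroup G) [N.Normal] :
    ∃ n ∈ N, (Q : Subgroup G) ⊓ N = ((P : Subgroup G) ⊓ N).map (MulAut.conj n).toMonoidHom := by
  obtain ⟨SA, hSA⟩ := Coprime.exists_sylow_map_eq_inf P N
  obtain ⟨SB, hSB⟩ := Coprime.exists_sylow_map_eq_inf Q N
  obtain ⟨n, hn⟩ := MulAction.exists_smul_eq N SA SB
  refine ⟨n, n.2, ?_⟩
  rw [← hSA, ← hSB, ← hn, Sylow.coe_subgroup_smul]
  ext x
  constructor
  · rintro ⟨u, hu, rfl⟩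
    change u ∈ MulAut.conj n • (SA : Subgroup N) at hu
    rw [Subgroup.mem_pointwise_smul_iff_inv_smul_mem] at hu
    refine ⟨_, ⟨_, hu, rfl⟩, ?_⟩
    simp [MulAut.smul_def, MulAut.conj_apply]
    group
  · rintro ⟨_, ⟨u, hu, rfl⟩, rfl⟩
    refine ⟨MulAut.conj n • u, Subgroup.smul_mem_pointwise_smul _ _ _ hu, ?_⟩
    simp [MulAut.smul_def, MulAut.conj_apply]

theorem conj_pow_mem {A : Subgroup G} {y : G} (hA : ∀ b ∈ A, y⁻¹ * b * y ∈ A) (j : ℕ) :
    ∀ b ∈ A, (y ^ j)⁻¹ * b * y ^ j ∈ A := by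
  induction j with
  | zero => intro b hb; simpa using hb
  | succ j ih =>
    intro b hb
    have := hA _ (ih b hb)
    rwa [show y⁻¹ * ((y ^ j)⁻¹ * b * y ^ j) * y = (y ^ (j + 1))⁻¹ * b * y ^ (j + 1) by
      rw [pow_succ]; group] at this

theorem conj_pow_eq_of_conj_eq {A : Subgroup G} {y c : G} (hA : ∀ b ∈ A, y⁻¹ * b * y ∈ A)
    (h : ∀ b ∈ A, y⁻¹ * b * y = c * b * c⁻¹) (j : ℕ) :
    ∀ b ∈ A, (y ^ j)⁻¹ * b * y ^ j = c ^ j * b * (c ^ j)⁻¹ := by
  induction j with
  | zero => intro b hb; simp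
  | succ j ih =>
    intro b hb
    have h1 := h _ (conj_pow_mem hA j b hb)
    rw [ih b hb] at h1
    calc (y ^ (j + 1))⁻¹ * b * y ^ (j + 1) = y⁻¹ * ((y ^ j)⁻¹ * b * y ^ j) * y := by
          rw [pow_succ]; group
      _ = y⁻¹ * (c ^ j * b * (c ^ j)⁻¹) * y := by rw [ih b hb]
      _ = c * (c ^ j * b * (c ^ j)⁻¹) * c⁻¹ := by
          rw [← ih b hb, h _ (conj_pow_mem hA j b hb)]
      _ = c ^ (j + 1) * b * (c ^ (j + 1))⁻¹ := by
          rw [pow_succ']; group

/-- Main reduction lemma: if all `p`-elements have class size prime to `p`, and the Sylow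
`p`-subgroups of a normal subgroup `N` and of `G / N` are abelian, then so are those of `G`. -/
theorem sylow_comm_of_normal_quotient
    (hcl : ∀ x : G, (∃ k : ℕ, orderOf x = p ^ k) →
      ¬ p ∣ (Subgroup.centralizer ({x} : Set G)).index)
    (N : Subgroup G) [hNn : N.Normal]
    (hN : ∀ S : Sylow p N, IsMulCommutative (S : Subgroup N))
    (hQ : ∀ S : Sylow p (G ⧸ N), IsMulCommutative (S : Subgroup (G ⧸ N)))
    (P : Sylow p G) : ∀ x ∈ (P : Subgroup G), ∀ y ∈ (P : Subgroup G), x * y = y * x := by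
  classical
  -- Sylow intersections with `N` are abelian
  have hcommN : ∀ R : Sylow p G, ∀ a ∈ (R : Subgroup G) ⊓ N, ∀ b ∈ (R : Subgroup G) ⊓ N,
      a * b = b * a := by
    intro R a ha b hb
    obtain ⟨S, hS⟩ := Coprime.exists_sylow_map_eq_inf R N
    rw [← hS] at ha hb
    obtain ⟨a', ha', rfl⟩ := ha
    obtain ⟨b', hb', rfl⟩ := hb
    have := (hN S).is_comm.comm ⟨a', ha'⟩ ⟨b', hb'⟩
    have h2 := congrArg (fun z : (S : Subgroup N) => ((z : N) : G)) this
    simpa using h2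
  -- data attached to an element `y ∈ P`
  have hdata : ∀ y ∈ (P : Subgroup G), ∃ k : ℕ, orderOf y = p ^ k := by
    intro y hy
    have := (IsPGroup.iff_orderOf.mp P.isPGroup' ⟨y, hy⟩)
    simpa using this
  set A : Subgroup G := (P : Subgroup G) ⊓ N with hAdef
  -- `P` normalizes `A`.
  have hPA : ∀ y ∈ (P : Subgroup G), ∀ b ∈ A, y⁻¹ * b * y ∈ A := by
    intro y hy b hb
    refine ⟨?_, ?_⟩
    · exact P.toSubgroup.mul_mem (P.toSubgroup.mul_mem (P.toSubgroup.inv_mem hy) hb.1) hy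
    · have := hNn.conj_mem b hb.2 y⁻¹
      simpa using this
  -- Step 1: every `y ∈ P` centralizes `A = P ∩ N`.
  have step1 : ∀ y ∈ (P : Subgroup G), ∀ a ∈ A, y * a = a * y := by
    intro y hy
    obtain ⟨k, hk⟩ := hdata y hy
    obtain ⟨Q, hQy⟩ := exists_sylow_le_centralizer (p := p) y (hcl y ⟨k, hk⟩)
    obtain ⟨n, hnN, hn⟩ := exists_conj_inf_normal P Q N
    -- the element `c`
    set c : G := y⁻¹ * (n⁻¹ * y * n) with hc
    have hcN : c ∈ N := by
      have h1 : y⁻¹ * n⁻¹ * y ∈ N := by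
        have := hNn.conj_mem n⁻¹ (N.inv_mem hnN) y⁻¹
        simpa using this
      have : c = (y⁻¹ * n⁻¹ * y) * n := by rw [hc]; group
      rw [this]
      exact N.mul_mem h1 hnN
    -- `n⁻¹ y n` centralizes `A`
    have hy' : ∀ b ∈ A, (n⁻¹ * y * n) * b = b * (n⁻¹ * y * n) := by
      intro b hb
      have h1 : n * b * n⁻¹ ∈ (Q : Subgroup G) ⊓ N := by
        rw [hn]
        exact Coprime.conj_mem_conj_map _ _ _ hb
      have h2 := Subgroup.mem_centralizer_singleton_iff.mp (hQy h1.1)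
      -- h2 : n b n⁻¹ * y = y * (n b n⁻¹)
      calc (n⁻¹ * y * n) * b = n⁻¹ * (y * (n * b * n⁻¹)) * n := by group
        _ = n⁻¹ * ((n * b * n⁻¹) * y) * n := by rw [h2]
        _ = b * (n⁻¹ * y * n) := by group
    have hconj : ∀ b ∈ A, y⁻¹ * b * y = c * b * c⁻¹ := by
      intro b hb
      have h1 := hy' b hb
      have : (n⁻¹ * y * n) * b * (n⁻¹ * y * n)⁻¹ = b := by rw [h1]; group
      calc y⁻¹ * b * y = y⁻¹ * ((n⁻¹ * y * n) * b * (n⁻¹ * y * n)⁻¹) * y := by rw [this]
        _ = c * b * c⁻¹ := by rw [hc]; group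
    have hcA : ∀ b ∈ A, c * b * c⁻¹ ∈ A := by
      intro b hb
      rw [← hconj b hb]
      exact hPA y hy b hb
    have hcnorm : c ∈ Subgroup.normalizer (A : Set G) :=
      Coprime.mem_normalizer_of_conj_le A c hcA
    -- index
    let H : Subgroup G := N ⊓ Subgroup.normalizer (A : Set G)
    have hAH : A ≤ H := fun b hb => ⟨hb.2, Subgroup.le_normalizer hb⟩
    haveI hAHn : (A.subgroupOf H).Normal := by
      refine ⟨fun u hu g => ?_⟩
      rw [Subgroup.mem_subgroupOf] at hu ⊢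
      have h3 := (Subgroup.mem_normalizer_iff.mp (Subgroup.mem_inf.mp g.2).2 (u : G)).mp hu
      simpa using h3
    have hcH : c ∈ H := ⟨hcN, hcnorm⟩
    set m := (A.subgroupOf H).index with hm
    have hmp : ¬ p ∣ m := by
      intro hd
      have h1 : A.relIndex H * H.relIndex N = A.relIndex N :=
        Subgroup.relIndex_mul_relIndex _ _ _ hAH inf_le_left
      have h2 : ¬ p ∣ (P : Subgroup G).relIndex N := Coprime.sylow_relIndex_normal_not_dvd P N
      have h3 : A.relIndex N = (P : Subgroup G).relIndex N := Subgroup.inf_relIndex_right _ _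
      apply h2
      rw [← h3, ← h1]
      exact Dvd.dvd.mul_right hd _
    have hcm : c ^ m ∈ A := by
      have := Subgroup.pow_index_mem (A.subgroupOf H) (⟨c, hcH⟩ : H)
      rw [Subgroup.mem_subgroupOf] at this
      simpa using this
    -- `y ^ m` centralizes `A`
    have hym : y ^ m ∈ Subgroup.centralizer (A : Set G) := by
      rw [Subgroup.mem_centralizer_iff]
      intro b hb
      have h1 := conj_pow_eq_of_conj_eq (hPA y hy) hconj m b hb
      have h2 : c ^ m * b = b * c ^ m := hcommN P _ hcm _ hb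
      have h3 : c ^ m * b * (c ^ m)⁻¹ = b := by rw [h2]; group
      rw [h3] at h1
      have h4 : b * y ^ m = y ^ m * b := by
        calc b * y ^ m = y ^ m * ((y ^ m)⁻¹ * b * y ^ m) := by group
          _ = y ^ m * b := by rw [h1]
      exact h4
    have hcop : (orderOf y).Coprime m := by
      rw [hk]
      exact Nat.Coprime.pow_left _ ((Nat.Prime.coprime_iff_not_dvd hp.out).mpr hmp)
    have hyc := mem_of_pow_mem_of_coprime _ hcop hym
    intro a ha
    exact ((Subgroup.mem_centralizer_iff.mp hyc) a ha).symm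
  -- Step 2.
  -- `P` has abelian image mod `N`
  have hPbar : ∀ x ∈ (P : Subgroup G), ∀ y ∈ (P : Subgroup G),
      (x : G ⧸ N) * (y : G ⧸ N) = (y : G ⧸ N) * (x : G ⧸ N) := by
    intro x hx y hy
    let S : Sylow p (G ⧸ N) := P.mapSurjective (QuotientGroup.mk'_surjective N)
    have h1 : (x : G ⧸ N) ∈ (S : Subgroup (G ⧸ N)) := by
      have : QuotientGroup.mk' N x ∈ (P : Subgroup G).map (QuotientGroup.mk' N) := ⟨x, hx, rfl⟩
      simpa [S] using this
    have h2 : (y : G ⧸ N) ∈ (S : Subgroup (G ⧸ N)) := by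
      have : QuotientGroup.mk' N y ∈ (P : Subgroup G).map (QuotientGroup.mk' N) := ⟨y, hy, rfl⟩
      simpa [S] using this
    have := (hQ S).is_comm.comm ⟨_, h1⟩ ⟨_, h2⟩
    exact congrArg Subtype.val this
  intro x hx y hy
  obtain ⟨k, hk⟩ := hdata y hy
  obtain ⟨Q, hQy⟩ := exists_sylow_le_centralizer (p := p) y (hcl y ⟨k, hk⟩)
  let C : Subgroup G := (Subgroup.centralizer ({(y : G ⧸ N)} : Set (G ⧸ N))).comap (QuotientGroup.mk' N)
  have hPC : (P : Subgroup G) ≤ C := by
    intro w hw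
    change (w : G ⧸ N) ∈ Subgroup.centralizer ({(y : G ⧸ N)} : Set (G ⧸ N))
    rw [Subgroup.mem_centralizer_singleton_iff]
    exact hPbar w hw y hy
  have hQC : (Q : Subgroup G) ≤ C := by
    intro w hw
    change (w : G ⧸ N) ∈ Subgroup.centralizer ({(y : G ⧸ N)} : Set (G ⧸ N))
    rw [Subgroup.mem_centralizer_singleton_iff]
    have := Subgroup.mem_centralizer_singleton_iff.mp (hQy hw)
    have h3 := congrArg (QuotientGroup.mk' N) this
    simpa using h3
  obtain ⟨m, hmC, hm⟩ := Coprime.sylow_conj_in P Q hPC hQC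
  have hyQ : y ∈ (Q : Subgroup G) := mem_sylow_of_le_centralizer k hk Q hQy
  -- `z = m⁻¹ y m` is central in `P`
  set z : G := m⁻¹ * y * m with hz
  have hzP : z ∈ (P : Subgroup G) := by
    rw [hm] at hyQ
    exact (Coprime.mem_conj_map _ _ _).mp hyQ
  have hzcent : ∀ w ∈ (P : Subgroup G), z * w = w * z := by
    intro w hw
    have h1 : m * w * m⁻¹ ∈ (Q : Subgroup G) := by
      rw [hm]
      exact Coprime.conj_mem_conj_map _ _ _ hw
    have h2 := Subgroup.mem_centralizer_singleton_iff.mp (hQy h1)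
    calc z * w = m⁻¹ * (y * (m * w * m⁻¹)) * m := by rw [hz]; group
      _ = m⁻¹ * ((m * w * m⁻¹) * y) * m := by rw [h2]
      _ = w * z := by rw [hz]; group
  -- `y⁻¹ z ∈ A`
  have hyz : y⁻¹ * z ∈ A := by
    refine ⟨P.toSubgroup.mul_mem (P.toSubgroup.inv_mem hy) hzP, ?_⟩
    change y⁻¹ * z ∈ N
    rw [← QuotientGroup.eq_one_iff]
    have h1 : (m : G ⧸ N) * (y : G ⧸ N) = (y : G ⧸ N) * (m : G ⧸ N) := by
      have : (m : G ⧸ N) ∈ Subgroup.centralizer ({(y : G ⧸ N)} : Set (G ⧸ N)) := hmC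
      exact (Subgroup.mem_centralizer_singleton_iff.mp this)
    have h2 : ((y⁻¹ * z : G) : G ⧸ N) = (y : G ⧸ N)⁻¹ * ((m : G ⧸ N)⁻¹ * (y : G ⧸ N) * (m : G ⧸ N)) := by
      rw [hz]; simp
    have h3 : (m : G ⧸ N)⁻¹ * (y : G ⧸ N) * (m : G ⧸ N) = (y : G ⧸ N) := by
      rw [mul_assoc, ← h1]; group
    rw [h2, h3]
    group
  -- conclusion
  have h3 := step1 x hx _ hyz
  have h4 := hzcent x hx
  -- x (y⁻¹ z) = (y⁻¹ z) x, x z = z x ⇒ x y = y x
  have h5 : y = z * (y⁻¹ * z)⁻¹ := by group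
  rw [h5]
  calc x * (z * (y⁻¹ * z)⁻¹) = (x * z) * (y⁻¹ * z)⁻¹ := by group
    _ = (z * x) * (y⁻¹ * z)⁻¹ := by rw [h4.symm]
    _ = z * (x * (y⁻¹ * z)⁻¹) := by group
    _ = z * ((y⁻¹ * z)⁻¹ * x) := by
        congr 1
        apply mul_left_cancel (a := y⁻¹ * z)
        rw [← mul_assoc, ← h3]
        group
    _ = z * (y⁻¹ * z)⁻¹ * x := by group

end Cfsg.Agent.Lib.Struct
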