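import Mathlib
import Cfsg.Prelude.Def_HallClasses
import Cfsg.Agent.Lib.Struct.Basic
import Cfsg.Agent.Lib.Struct.MaxNil

/-!
# Pronormality of overgroups of Sylow subgroups and normal subgroups.
-/

set_option autoImplicit false

namespace Cfsg.Agent.Lib.Struct.Pronormal

open Subgroup Cfsg

section basics

variable {G : Type*} [Group G]

/-- Conjugate of a subgroup. -/
abbrev cj (g : G) (H : Subgroup G) : Subgroup G := H.map (MulAut.conj g).toMonoidHom

theorem mem_cj {g x : G} {H : Subgroup G} : x ∈ cj g H ↔ g⁻¹ * x * g ∈ H :=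
  Struct.mem_map_conj g x H

theorem conj_mem_cj {g x : G} {H : Subgroup G} (hx : x ∈ H) : g * x * g⁻¹ ∈ cj g H :=
  ⟨x, hx, rfl⟩

theorem cj_mul (a b : G) (H : Subgroup G) : cj (a * b) H = cj a (cj b H) := by
  ext x
  rw [mem_cj, mem_cj, mem_cj]
  have e : (a * b)⁻¹ * x * (a * b) = b⁻¹ * (a⁻¹ * x * a) * b := by group
  rw [e]

theorem cj_one (H : Subgroup G) : cj 1 H = H := by
  ext x
  rw [mem_cj]
  simp

theorem cj_of_mem {a : G} {H : Subgroup G} (ha : a ∈ H) : cj a H = H := by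
  ext x
  rw [mem_cj]
  constructor
  · intro h
    have := H.mul_mem (H.mul_mem ha h) (H.inv_mem ha)
    simpa [mul_assoc] using this
  · intro h
    exact H.mul_mem (H.mul_mem (H.inv_mem ha) h) ha

theorem cj_inv_cj (a : G) (H : Subgroup G) : cj a⁻¹ (cj a H) = H := by
  rw [← cj_mul, inv_mul_cancel, cj_one]

theorem cj_cj_inv (a : G) (H : Subgroup G) : cj a (cj a⁻¹ H) = H := by
  rw [← cj_mul, mul_inv_cancel, cj_one]

theorem cj_mono {a : G} {H K : Subgroup G} (h : H ≤ K) : cj a H ≤ cj a K :=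
  Subgroup.map_mono h

theorem cj_eq_of_norm {a : G} {H : Subgroup G} (h : a ∈ normalizer (H : Set G)) : cj a H = H :=
  Subgroup.mem_normalizer_iff_map_conj_eq.mp h

theorem norm_of_cj_eq {a : G} {H : Subgroup G} (h : cj a H = H) : a ∈ normalizer (H : Set G) :=
  Subgroup.mem_normalizer_iff_map_conj_eq.mpr h

theorem card_cj (a : G) (H : Subgroup G) : Nat.card (cj a H) = Nat.card H :=
  Subgroup.card_map_of_injective (MulAut.conj a).injective

theorem cj_sup (a : G) (H K : Subgroup G) : cj a (H ⊔ K) = cj a H ⊔ cj a K :=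
  Subgroup.map_sup _ _ _

theorem cj_map {G' : Type*} [Group G'] (f : G →* G') (g : G) (H : Subgroup G) :
    cj (f g) (H.map f) = (cj g H).map f := by
  rw [cj, cj, Subgroup.map_map, Subgroup.map_map]
  congr 1
  ext x
  simp [MulAut.conj_apply]

/-- Transfer of pronormality along reductions: if `cj a H = cj k' H'`, ... -/
theorem reduce {H : Subgroup G} {g k a : G} (hk : k ∈ H ⊔ cj g H) (hg : cj g H = cj k (cj a H))
    (he : ∃ e ∈ H ⊔ cj a H, cj a H = cj e H) : ∃ x ∈ H ⊔ cj g H, cj g H = cj x H := by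
  obtain ⟨e, he1, he2⟩ := he
  refine ⟨k * e, Subgroup.mul_mem _ hk ?_, ?_⟩
  · refine (sup_le le_sup_left ?_ : H ⊔ cj a H ≤ H ⊔ cj g H) he1
    intro z hz
    have h1 : k * z * k⁻¹ ∈ cj g H := by
      rw [hg]
      exact conj_mem_cj hz
    have h2 : z = k⁻¹ * (k * z * k⁻¹) * k := by group
    rw [h2]
    exact Subgroup.mul_mem _ (Subgroup.mul_mem _ (Subgroup.inv_mem _ hk)
      ((le_sup_right : cj g H ≤ H ⊔ cj g H) h1)) hk
  · rw [hg, he2, cj_mul]

theorem pronormal_map {G' : Type*} [Group G'] (f : G →* G') (hf : Function.Surjective f)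
    {K : Subgroup G} (h : IsPronormal K) : IsPronormal (K.map f) := by
  intro g'
  obtain ⟨g, rfl⟩ := hf g'
  obtain ⟨x, hx, e⟩ := h g
  refine ⟨f x, ?_, ?_⟩
  · have : (K.map f) ⊔ cj (f g) (K.map f) = (K ⊔ cj g K).map f := by
      rw [cj_map, Subgroup.map_sup]
    rw [this]
    exact ⟨x, hx, rfl⟩
  · show cj (f g) (K.map f) = cj (f x) (K.map f)
    rw [cj_map, cj_map]
    exact congrArg (Subgroup.map f) e

theorem pronormal_subgroupOf {N K : Subgroup G} (hKN : K ≤ N) (h : IsPronormal K) :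
    IsPronormal (K.subgroupOf N) := by
  intro g
  obtain ⟨x, hx, e⟩ := h (g : G)
  have e0 : ∀ y : N, (cj y (K.subgroupOf N)).map N.subtype = cj (y : G) K := by
    intro y
    have := cj_map N.subtype y (K.subgroupOf N)
    rw [← this]
    congr 1
    rw [Subgroup.subgroupOf_map_subtype, inf_of_le_left hKN]
  have hxN : x ∈ N := by
    refine (sup_le hKN ?_ : K ⊔ cj (g : G) K ≤ N) hx
    rintro _ ⟨z, hz, rfl⟩
    exact N.mul_mem (N.mul_mem g.2 (hKN hz)) (N.inv_mem g.2)
  refine ⟨⟨x, hxN⟩, ?_, ?_⟩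
  · have h1 : ((K.subgroupOf N) ⊔ cj g (K.subgroupOf N)).map N.subtype = K ⊔ cj (g : G) K := by
      rw [Subgroup.map_sup, e0, Subgroup.subgroupOf_map_subtype, inf_of_le_left hKN]
    have h2 : x ∈ ((K.subgroupOf N) ⊔ cj g (K.subgroupOf N)).map N.subtype := by
      rw [h1]
      exact hx
    obtain ⟨y, hy, hy'⟩ := h2
    have : y = ⟨x, hxN⟩ := Subtype.ext hy'
    rwa [← this]
  · apply Subgroup.map_injective N.subtype_injective
    rw [e0, e0]
    exact e

theorem pronormal_of_cj {K : Subgroup G} (x : G) (h : IsPronormal (cj x K)) : IsPronormal K := by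
  intro g
  obtain ⟨y, hy, e⟩ := h (x * g * x⁻¹)
  have e1 : cj (x * g * x⁻¹) (cj x K) = cj x (cj g K) := by
    rw [cj_mul, cj_mul, cj_inv_cj]
  have hy' : y ∈ cj x (K ⊔ cj g K) := by
    rw [cj_sup, ← e1]
    exact hy
  refine ⟨x⁻¹ * y * x, mem_cj.mp hy', ?_⟩
  have e2 : cj (x⁻¹ * y * x) K = cj x⁻¹ (cj y (cj x K)) := by
    rw [cj_mul, cj_mul]
  have e' : cj (x * g * x⁻¹) (cj x K) = cj y (cj x K) := e
  show cj g K = cj (x⁻¹ * y * x) K
  rw [e2, ← e', e1, cj_inv_cj]

end basics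

section sylow

variable {G : Type*} [Group G] [Finite G] {p : ℕ} [hp : Fact p.Prime]

theorem sylow_inf_normal (A : Subgroup G) [A.Normal] (S : Sylow p G) :
    ∃ Q : Sylow p A, (Q : Subgroup A) = (S : Subgroup G).subgroupOf A := by
  have h1 : IsPGroup p ((S : Subgroup G).subgroupOf A) :=
    S.2.comap_of_injective _ A.subtype_injective
  apply Struct.sylow_of_not_dvd_index h1
  intro h
  have h2 : (S : Subgroup G).relIndex A = (S : Subgroup G).relIndex (A ⊔ S) :=
    Struct.relIndex_eq_relIndex_sup A S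
  have h3 := Subgroup.relIndex_mul_index (le_sup_right : (S : Subgroup G) ≤ A ⊔ S)
  have h4 : p ∣ (S : Subgroup G).index := by
    rw [← h3, ← h2]
    exact Dvd.dvd.mul_right h _
  exact S.not_dvd_index h4

/-- Conjugacy in a subgroup of "Sylow" subgroups. -/
theorem conj_in {D T T₁ : Subgroup G} (hT : IsPGroup p T) (hT₁ : IsPGroup p T₁) (hTD : T ≤ D)
    (hT₁D : T₁ ≤ D) (hi : ¬ p ∣ T.relIndex D) (hc : Nat.card T₁ = Nat.card T) :
    ∃ d ∈ D, cj d T = T₁ := by
  have h1 : IsPGroup p (T.subgroupOf D) := hT.comap_of_injective _ D.subtype_injective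
  have h2 : IsPGroup p (T₁.subgroupOf D) := hT₁.comap_of_injective _ D.subtype_injective
  have hc1 : Nat.card (T.subgroupOf D) = Nat.card T :=
    Nat.card_congr (Subgroup.subgroupOfEquivOfLe hTD).toEquiv
  have hc2 : Nat.card (T₁.subgroupOf D) = Nat.card T₁ :=
    Nat.card_congr (Subgroup.subgroupOfEquivOfLe hT₁D).toEquiv
  have h3 : (T₁.subgroupOf D).index = (T.subgroupOf D).index := by
    have e1 := Subgroup.card_mul_index (T.subgroupOf D)
    have e2 := Subgroup.card_mul_index (T₁.subgroupOf D)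
    rw [hc1] at e1
    rw [hc2, hc] at e2
    exact Nat.eq_of_mul_eq_mul_left Nat.card_pos (e2.trans e1.symm)
  obtain ⟨Q, hQ⟩ := Struct.sylow_of_not_dvd_index h1 hi
  obtain ⟨Q₁, hQ₁⟩ := Struct.sylow_of_not_dvd_index h2 (by rw [h3]; exact hi)
  obtain ⟨d, hd⟩ := MulAction.exists_smul_eq D Q Q₁
  refine ⟨d, d.2, ?_⟩
  ext x
  rw [mem_cj]
  constructor
  · intro hx
    have hxD : x ∈ D := by
      have := D.mul_mem (D.mul_mem d.2 (hTD hx)) (D.inv_mem d.2)
      simpa [mul_assoc] using this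
    have h4 : (⟨x, hxD⟩ : D) ∈ (Q₁ : Subgroup D) := by
      rw [← hd]
      show (⟨x, hxD⟩ : D) ∈ ((d • Q : Sylow p D) : Subgroup D)
      rw [Sylow.coe_subgroup_smul, Struct.mem_conj_smul, hQ]
      exact hx
    rw [hQ₁] at h4
    exact h4
  · intro hx
    have hxD := hT₁D hx
    have h4 : (⟨x, hxD⟩ : D) ∈ (Q₁ : Subgroup D) := by
      rw [hQ₁]
      exact hx
    rw [← hd] at h4
    have h5 : (⟨x, hxD⟩ : D) ∈ ((d • Q : Sylow p D) : Subgroup D) := h4
    rw [Sylow.coe_subgroup_smul, Struct.mem_conj_smul, hQ] at h5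
    exact h5

variable (A : Subgroup G) [A.Normal] {T : Subgroup G}

include hp in
theorem exists_sylow_inf (hT : ∃ P : Sylow p A, (P : Subgroup A).map A.subtype = T) (S : Sylow p G) :
    ∃ x : G, cj x (S : Subgroup G) ⊓ A = T := by
  obtain ⟨Q₀, rfl⟩ := hT
  obtain ⟨Q, hQ⟩ := sylow_inf_normal A S
  obtain ⟨a, ha⟩ := MulAction.exists_smul_eq A Q Q₀
  refine ⟨a, ?_⟩
  ext y
  rw [Subgroup.mem_inf, mem_cj]
  constructor
  · rintro ⟨h1, h2⟩
    refine ⟨⟨y, h2⟩, ?_, rfl⟩
    rw [← ha]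
    show (⟨y, h2⟩ : A) ∈ ((a • Q : Sylow p A) : Subgroup A)
    rw [Sylow.coe_subgroup_smul, Struct.mem_conj_smul, hQ]
    exact h1
  · rintro ⟨z, hz, rfl⟩
    have hz' : z ∈ ((a • Q : Sylow p A) : Subgroup A) := by
      rw [ha]
      exact hz
    rw [Sylow.coe_subgroup_smul, Struct.mem_conj_smul, hQ] at hz'
    exact ⟨hz', z.2⟩

/-- A Sylow subgroup meeting `A` in `T` normalizes `T`. -/
theorem sylow_le_normalizer {S : Subgroup G} (hS : S ⊓ A = T) :
    S ≤ normalizer (T : Set G) := by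
  intro y hy
  apply norm_of_cj_eq
  subst hS
  ext z
  rw [mem_cj, Subgroup.mem_inf, Subgroup.mem_inf]
  constructor
  · rintro ⟨h1, h2⟩
    constructor
    · have := S.mul_mem (S.mul_mem hy h1) (S.inv_mem hy)
      simpa [mul_assoc] using this
    · have := (inferInstance : A.Normal).conj_mem _ h2 y
      simpa [mul_assoc] using this
  · rintro ⟨h1, h2⟩
    constructor
    · exact S.mul_mem (S.mul_mem (S.inv_mem hy) h1) hy
    · have := (inferInstance : A.Normal).conj_mem _ h2 y⁻¹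
      simpa [mul_assoc] using this

include hp in
/-- Sylow subgroups with `S ∩ A = T` exist. -/
theorem exists_sylow_inf' (hT : ∃ P : Sylow p A, (P : Subgroup A).map A.subtype = T) :
    ∃ S : Sylow p G, (S : Subgroup G) ⊓ A = T := by
  obtain ⟨x, hx⟩ := exists_sylow_inf A hT (Classical.arbitrary (Sylow p G))
  refine ⟨x • Classical.arbitrary (Sylow p G), ?_⟩
  rw [Sylow.coe_subgroup_smul, Struct.conj_smul_eq_map]
  exact hx

end sylow

section main

variable {G : Type*} [Group G] [Finite G] {p : ℕ} [hp : Fact p.Prime]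
  (A : Subgroup G) [A.Normal] (T : Subgroup G)
  [(T.subgroupOf (normalizer (T : Set G))).Normal]

/-- The index of `N(T)` is prime to `p`. -/
theorem not_dvd_index_normalizer (hT : ∃ P : Sylow p A, (P : Subgroup A).map A.subtype = T) :
    ¬ p ∣ (normalizer (T : Set G)).index := by
  obtain ⟨S, hS⟩ := exists_sylow_inf' A hT
  exact Struct.not_dvd_index_of_sylow_le S (sylow_le_normalizer A hS)

theorem isPGroup_T (hT : ∃ P : Sylow p A, (P : Subgroup A).map A.subtype = T) : IsPGroup p T := by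
  obtain ⟨P, rfl⟩ := hT
  exact P.2.map _

/-- The direction `(P) ⟹ (i)`. -/
theorem forward_i (hT : ∃ P : Sylow p A, (P : Subgroup A).map A.subtype = T)
    (hP : ∀ K : Subgroup G, (∃ P : Sylow p G, (P : Subgroup G) ≤ K) → IsPronormal K)
    (K : Subgroup (↥(normalizer (T : Set G)) ⧸ T.subgroupOf (normalizer (T : Set G))))
    (hK : ∃ P : Sylow p (↥(normalizer (T : Set G)) ⧸ T.subgroupOf (normalizer (T : Set G))),
      (P : Subgroup _) ≤ K) : IsPronormal K := by
  obtain ⟨P, hPK⟩ := hK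
  set N := normalizer (T : Set G) with hN
  let π := QuotientGroup.mk' (T.subgroupOf N)
  have hπ : Function.Surjective π := QuotientGroup.mk'_surjective _
  have hker : π.ker = T.subgroupOf N := QuotientGroup.ker_mk' _
  have hTp := isPGroup_T A T hT
  have h1 : IsPGroup p ((P : Subgroup _).comap π) := by
    apply P.2.comap_of_ker_isPGroup
    rw [hker]
    exact hTp.comap_of_injective _ N.subtype_injective
  have h2 : ¬ p ∣ ((P : Subgroup _).comap π).index := by
    rw [Subgroup.index_comap_of_surjective _ hπ]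
    exact P.not_dvd_index
  have h3 : IsPGroup p (((P : Subgroup _).comap π).map N.subtype) := h1.map _
  have h4 : ¬ p ∣ (((P : Subgroup _).comap π).map N.subtype).index := by
    rw [Subgroup.index_map_subtype]
    intro h
    rcases (hp.out.dvd_mul).1 h with h | h
    · exact h2 h
    · exact not_dvd_index_normalizer A T hT h
  obtain ⟨Q, hQ⟩ := Struct.sylow_of_not_dvd_index h3 h4
  have h5 : IsPronormal ((K.comap π).map N.subtype) := by
    apply hP
    refine ⟨Q, ?_⟩
    rw [hQ]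
    exact Subgroup.map_mono (Subgroup.comap_mono hPK)
  have h6 := pronormal_subgroupOf (N := N) (by
    rintro _ ⟨z, _, rfl⟩
    exact z.2) h5
  have e6 : ((K.comap π).map N.subtype).subgroupOf N = K.comap π :=
    Subgroup.comap_map_eq_self_of_injective N.subtype_injective _
  rw [e6] at h6
  have h7 := pronormal_map π hπ h6
  rwa [Subgroup.map_comap_eq_self_of_surjective hπ] at h7

/-- The direction `(P) ⟹ (ii)`. -/
theorem forward_ii {K : Subgroup G} (hK : IsPronormal K) :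
    (normalizer (K : Set G)).map (QuotientGroup.mk' A) =
      normalizer ((K.map (QuotientGroup.mk' A) : Subgroup (G ⧸ A)) : Set (G ⧸ A)) := by
  apply le_antisymm (Subgroup.le_normalizer_map _)
  intro y hy
  obtain ⟨g, rfl⟩ := QuotientGroup.mk'_surjective A y
  have h1 : cj (QuotientGroup.mk' A g) (K.map (QuotientGroup.mk' A)) = K.map (QuotientGroup.mk' A) :=
    cj_eq_of_norm hy
  rw [cj_map] at h1
  have h2 : K ⊔ cj g K ≤ A ⊔ K := by
    refine sup_le le_sup_right ?_
    intro z hz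
    have h3 : QuotientGroup.mk' A z ∈ K.map (QuotientGroup.mk' A) := by
      rw [← h1]
      exact ⟨z, hz, rfl⟩
    obtain ⟨k, hk, e⟩ := h3
    have h4 : z * k⁻¹ ∈ A := by
      have : QuotientGroup.mk' A (z * k⁻¹) = 1 := by
        rw [map_mul, map_inv, ← e]
        group
      rwa [← MonoidHom.mem_ker, QuotientGroup.ker_mk'] at this
    have h5 : z = (z * k⁻¹) * k := by group
    rw [h5]
    exact Subgroup.mul_mem _ ((le_sup_left : A ≤ A ⊔ K) h4) ((le_sup_right : K ≤ A ⊔ K) hk)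
  obtain ⟨x, hx, e⟩ := hK g
  have hx' := h2 hx
  obtain ⟨a, ha, k, hk, rfl⟩ : ∃ a ∈ A, ∃ k ∈ K, a * k = x := by
    have h3 : x ∈ ((A ⊔ K : Subgroup G) : Set G) := hx'
    rw [Subgroup.normal_mul] at h3
    obtain ⟨a, ha, k, hk, e⟩ := Set.mem_mul.mp h3
    exact ⟨a, ha, k, hk, e⟩
  have e1 : cj g K = cj a K := by
    have : cj g K = cj (a * k) K := e
    rw [this, cj_mul, cj_of_mem hk]
  refine ⟨a⁻¹ * g, norm_of_cj_eq ?_, ?_⟩
  · rw [cj_mul, e1, cj_inv_cj]
  · rw [map_mul, map_inv]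
    have : QuotientGroup.mk' A a = 1 := by
      rwa [← MonoidHom.mem_ker, QuotientGroup.ker_mk']
    rw [this]
    simp

/-- The last step of the direction `⟸`. -/
theorem back_step4 {H : Subgroup G} {S : Sylow p G} (hS : (S : Subgroup G) ⊓ A = T)
    (hSH : (S : Subgroup G) ≤ H) (hT : ∃ P : Sylow p A, (P : Subgroup A).map A.subtype = T)
    (hi : ∀ K : Subgroup (↥(normalizer (T : Set G)) ⧸ T.subgroupOf (normalizer (T : Set G))),
      (∃ P : Sylow p (↥(normalizer (T : Set G)) ⧸ T.subgroupOf (normalizer (T : Set G))),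
        (P : Subgroup _) ≤ K) → IsPronormal K)
    (c : G) (hcN : c ∈ normalizer (T : Set G)) (hcD : cj c (H ⊓ A) = H ⊓ A) :
    ∃ x ∈ H ⊔ cj c H, cj c H = cj x H := by
  classical
  set N := normalizer (T : Set G) with hN
  set D := H ⊓ A with hD
  have hTp := isPGroup_T A T hT
  have hTD : T ≤ D := by
    rw [← hS]
    exact inf_le_inf_right A hSH
  have hTA : ¬ p ∣ T.relIndex A := by
    obtain ⟨P, rfl⟩ := hT
    have : ((P : Subgroup A).map A.subtype).relIndex A = (P : Subgroup A).index := by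
      rw [Subgroup.relIndex, Subgroup.subgroupOf]
      rw [Subgroup.comap_map_eq_self_of_injective A.subtype_injective]
    rw [this]
    exact P.not_dvd_index
  have hTDi : ¬ p ∣ T.relIndex D := by
    intro h
    apply hTA
    have hDA : D ≤ A := inf_le_right
    rw [← Subgroup.relIndex_mul_relIndex T D A hTD hDA]
    exact Dvd.dvd.mul_right h _
  -- `H = D N_H(T)`
  have hHnorm : ∀ h ∈ H, cj h D = D := by
    intro h hh
    ext z
    rw [mem_cj, hD, Subgroup.mem_inf, Subgroup.mem_inf]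
    constructor
    · rintro ⟨h1, h2⟩
      constructor
      · have := H.mul_mem (H.mul_mem hh h1) (H.inv_mem hh)
        simpa [mul_assoc] using this
      · have := (inferInstance : A.Normal).conj_mem _ h2 h
        simpa [mul_assoc] using this
    · rintro ⟨h1, h2⟩
      constructor
      · exact H.mul_mem (H.mul_mem (H.inv_mem hh) h1) hh
      · have := (inferInstance : A.Normal).conj_mem _ h2 h⁻¹
        simpa [mul_assoc] using this
  have hDH : D ≤ H := inf_le_left
  have hfr : ∀ h ∈ H, ∃ d ∈ D, ∃ h₁ ∈ H ⊓ N, h = d * h₁ := by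
    intro h hh
    have h1 : cj h T ≤ D := by
      rw [← hHnorm h hh]
      exact cj_mono hTD
    have h2 : IsPGroup p (cj h T) := hTp.map _
    obtain ⟨d, hd, e⟩ := conj_in (D := D) hTp h2 hTD h1 hTDi (card_cj h T)
    refine ⟨d, hd, d⁻¹ * h, ⟨H.mul_mem (H.inv_mem (hDH hd)) hh, norm_of_cj_eq ?_⟩, by group⟩
    rw [cj_mul, ← e, cj_inv_cj]
  have hSN : (S : Subgroup G) ≤ N := sylow_le_normalizer A hS
  let π := QuotientGroup.mk' (T.subgroupOf N)
  have hπ : Function.Surjective π := QuotientGroup.mk'_surjective _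
  have hker : π.ker = T.subgroupOf N := QuotientGroup.ker_mk' _
  let H₁ : Subgroup N := H.subgroupOf N
  have hpr : IsPronormal (H₁.map π) := by
    apply hi
    refine ⟨(S.subtype hSN).mapSurjective hπ, ?_⟩
    rw [Sylow.coe_mapSurjective]
    apply Subgroup.map_mono
    rw [Sylow.coe_subtype]
    intro z hz
    exact hSH hz
  obtain ⟨xb, hxb, e⟩ := hpr (π ⟨c, hcN⟩)
  have e1 : (H₁.map π) ⊔ cj (π ⟨c, hcN⟩) (H₁.map π) = (H₁ ⊔ cj ⟨c, hcN⟩ H₁).map π := by
    rw [cj_map, Subgroup.map_sup]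
  have hxb' : xb ∈ (H₁ ⊔ cj ⟨c, hcN⟩ H₁).map π := by
    rw [← e1]
    exact hxb
  obtain ⟨x₀, hx₀, rfl⟩ := hxb'
  have e2 : (cj ⟨c, hcN⟩ H₁).map π = (cj x₀ H₁).map π := by
    rw [← cj_map, ← cj_map]
    exact e
  have hk : ∀ y : N, π.ker ≤ cj y H₁ := by
    intro y z hz
    rw [hker] at hz
    rw [mem_cj]
    show ((y⁻¹ * z * y : N) : G) ∈ H
    have hz' : (z : G) ∈ T := hz
    have h1 : ((y⁻¹ * z * y : N) : G) ∈ T := by
      have h2 := (Subgroup.mem_normalizer_iff.mp (N.inv_mem y.2) (z : G)).1 hz'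
      simpa using h2
    exact hDH (hTD h1)
  have e3 : cj ⟨c, hcN⟩ H₁ = cj x₀ H₁ := Subgroup.map_injective_of_ker_le π (hk _) (hk _) e2
  set x : G := (x₀ : G) with hx
  -- `x` lies in the right subgroup
  have hxL : x ∈ H ⊔ cj c H := by
    have h1 : (H₁ ⊔ cj ⟨c, hcN⟩ H₁).map N.subtype ≤ H ⊔ cj c H := by
      rw [Subgroup.map_sup]
      refine sup_le_sup ?_ ?_
      · rintro _ ⟨z, hz, rfl⟩
        exact hz
      · have h2 := cj_map N.subtype (⟨c, hcN⟩ : N) H₁
        have h3 : (⟨c, hcN⟩ : N) = (⟨c, hcN⟩ : N) := rfl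
        rw [← h2]
        apply cj_mono
        rintro _ ⟨z, hz, rfl⟩
        exact hz
    exact h1 ⟨x₀, hx₀, rfl⟩
  have hcD' : cj c⁻¹ D = D := by
    conv_lhs => rw [← hcD]
    exact cj_inv_cj c D
  have hxD : x ∈ normalizer (D : Set G) := by
    refine (sup_le ?_ ?_ : H ⊔ cj c H ≤ normalizer (D : Set G)) hxL
    · intro h hh
      exact norm_of_cj_eq (hHnorm h hh)
    · rintro _ ⟨h, hh, rfl⟩
      apply norm_of_cj_eq
      have e4 : (MulAut.conj c).toMonoidHom h = c * h * c⁻¹ := rfl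
      rw [e4, cj_mul, cj_mul, hcD', hHnorm h hh, hcD]
  refine ⟨x, hxL, ?_⟩
  apply Subgroup.eq_of_le_of_card_ge
  · intro z hz
    rw [mem_cj] at hz ⊢
    obtain ⟨d, hd, h₁, hh₁, e5⟩ := hfr _ hz
    have hcd : c * d * c⁻¹ ∈ D := by
      rw [← hcD]
      exact conj_mem_cj hd
    have hxd : x⁻¹ * (c * d * c⁻¹) * x ∈ D := by
      have := (Subgroup.mem_normalizer_iff.mp (Subgroup.inv_mem _ hxD) _).1 hcd
      simpa using this
    -- the conjugate of `h₁`
    have h6 : (⟨c * h₁ * c⁻¹, N.mul_mem (N.mul_mem hcN hh₁.2) (N.inv_mem hcN)⟩ : N) ∈ cj x₀ H₁ := by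
      rw [← e3]
      refine ⟨⟨h₁, hh₁.2⟩, hh₁.1, ?_⟩
      apply Subtype.ext
      rfl
    rw [mem_cj] at h6
    have h7 : x⁻¹ * (c * h₁ * c⁻¹) * x ∈ H := h6
    have e6 : x⁻¹ * z * x = (x⁻¹ * (c * d * c⁻¹) * x) * (x⁻¹ * (c * h₁ * c⁻¹) * x) := by
      have : z = c * (d * h₁) * c⁻¹ := by
        rw [← e5]
        group
      rw [this]
      group
    rw [e6]
    exact H.mul_mem (hDH hxd) h7
  · rw [card_cj, card_cj]

theorem back_step23 {H : Subgroup G} {S : Sylow p G} (hS : (S : Subgroup G) ⊓ A = T)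
    (hSH : (S : Subgroup G) ≤ H) (hT : ∃ P : Sylow p A, (P : Subgroup A).map A.subtype = T)
    (hA : ∀ K : Subgroup ↥A, (∃ P : Sylow p ↥A, (P : Subgroup ↥A) ≤ K) → IsPronormal K)
    (hi : ∀ K : Subgroup (↥(normalizer (T : Set G)) ⧸ T.subgroupOf (normalizer (T : Set G))),
      (∃ P : Sylow p (↥(normalizer (T : Set G)) ⧸ T.subgroupOf (normalizer (T : Set G))),
        (P : Subgroup _) ≤ K) → IsPronormal K)
    {a : G} (ha : a ∈ A) : ∃ e ∈ H ⊔ cj a H, cj a H = cj e H := by
  set D := H ⊓ A with hD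
  have hDH : D ≤ H := inf_le_left
  have hDA : D ≤ A := inf_le_right
  have hD₀ : IsPronormal (H.subgroupOf A) := by
    apply hA
    obtain ⟨Q, hQ⟩ := sylow_inf_normal A S
    refine ⟨Q, ?_⟩
    rw [hQ]
    intro z hz
    exact hSH hz
  obtain ⟨y₀, hy₀, e⟩ := hD₀ ⟨a, ha⟩
  have e0 : ∀ y : A, (cj y (H.subgroupOf A)).map A.subtype = cj (y : G) D := by
    intro y
    rw [← cj_map]
    congr 1
    rw [Subgroup.subgroupOf_map_subtype]
  set y : G := (y₀ : G) with hy
  have hyA : y ∈ A := y₀.2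
  have hyL : y ∈ H ⊔ cj a H := by
    have h1 : ((H.subgroupOf A) ⊔ cj ⟨a, ha⟩ (H.subgroupOf A)).map A.subtype ≤ H ⊔ cj a H := by
      rw [Subgroup.map_sup, e0]
      refine sup_le_sup ?_ ?_
      · rintro _ ⟨z, hz, rfl⟩
        exact hz
      · exact cj_mono hDH
    exact h1 ⟨y₀, hy₀, rfl⟩
  have e1 : cj a D = cj y D := by
    have h1 := congrArg (Subgroup.map A.subtype) e
    have h2 := e0 ⟨a, ha⟩
    have h3 := e0 y₀
    exact h2.symm.trans (h1.trans h3)
  set c := y⁻¹ * a with hc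
  have hcA : c ∈ A := A.mul_mem (A.inv_mem hyA) ha
  have hcD : cj c D = D := by
    rw [hc, cj_mul, e1, cj_inv_cj]
  have hg : cj a H = cj y (cj c H) := by
    rw [← cj_mul, hc, mul_inv_cancel_left]
  apply reduce hyL hg
  -- conjugate to normalize `T`
  have hTp := isPGroup_T A T hT
  have hTD : T ≤ D := by
    rw [← hS]
    exact inf_le_inf_right A hSH
  have hTA : ¬ p ∣ T.relIndex A := by
    obtain ⟨P, rfl⟩ := hT
    have : ((P : Subgroup A).map A.subtype).relIndex A = (P : Subgroup A).index := by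
      rw [Subgroup.relIndex, Subgroup.subgroupOf]
      rw [Subgroup.comap_map_eq_self_of_injective A.subtype_injective]
    rw [this]
    exact P.not_dvd_index
  have hTDi : ¬ p ∣ T.relIndex D := by
    intro h
    apply hTA
    rw [← Subgroup.relIndex_mul_relIndex T D A hTD hDA]
    exact Dvd.dvd.mul_right h _
  have hcD' : cj c⁻¹ D = D := by
    conv_lhs => rw [← hcD]
    exact cj_inv_cj c D
  obtain ⟨d, hd, e2⟩ := conj_in (D := D) hTp (hTp.map (MulAut.conj c⁻¹).toMonoidHom) hTD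
    (by rw [← hcD']; exact cj_mono hTD) hTDi (card_cj c⁻¹ T)
  have hN : c * d ∈ normalizer (T : Set G) := by
    apply norm_of_cj_eq
    have e2' : cj d T = cj c⁻¹ T := e2
    rw [cj_mul c d T, e2', cj_cj_inv]
  have hcdD : cj (c * d) D = D := by
    rw [cj_mul c d D, cj_of_mem hd, hcD]
  have hHc : cj c H = cj (c * d) H := by
    rw [cj_mul c d H, cj_of_mem (hDH hd)]
  obtain ⟨x, hx, e3⟩ := back_step4 A T hS hSH hT hi (c * d) hN hcdD
  refine ⟨x, ?_, ?_⟩
  · rw [hHc]
    exact hx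
  · rw [hHc]
    exact e3

/-- The direction `⟸` with the normalization `S ∩ A = T`. -/
theorem back_main {H : Subgroup G} {S : Sylow p G} (hS : (S : Subgroup G) ⊓ A = T)
    (hSH : (S : Subgroup G) ≤ H) (hT : ∃ P : Sylow p A, (P : Subgroup A).map A.subtype = T)
    (hA : ∀ K : Subgroup ↥A, (∃ P : Sylow p ↥A, (P : Subgroup ↥A) ≤ K) → IsPronormal K)
    (hQ : ∀ K : Subgroup (G ⧸ A), (∃ P : Sylow p (G ⧸ A), (P : Subgroup (G ⧸ A)) ≤ K) → IsPronormal K)
    (hi : ∀ K : Subgroup (↥(normalizer (T : Set G)) ⧸ T.subgroupOf (normalizer (T : Set G))),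
      (∃ P : Sylow p (↥(normalizer (T : Set G)) ⧸ T.subgroupOf (normalizer (T : Set G))),
        (P : Subgroup _) ≤ K) → IsPronormal K)
    (hii : (normalizer (H : Set G)).map (QuotientGroup.mk' A) =
      normalizer ((H.map (QuotientGroup.mk' A) : Subgroup (G ⧸ A)) : Set (G ⧸ A))) :
    IsPronormal H := by
  intro g
  have hs : Function.Surjective (QuotientGroup.mk' A) := QuotientGroup.mk'_surjective A
  have hb : IsPronormal (H.map (QuotientGroup.mk' A)) := by
    apply hQ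
    refine ⟨S.mapSurjective hs, ?_⟩
    rw [Sylow.coe_mapSurjective]
    exact Subgroup.map_mono hSH
  obtain ⟨xb, hxb, e⟩ := hb (QuotientGroup.mk' A g)
  have e1 : (H.map (QuotientGroup.mk' A)) ⊔ cj (QuotientGroup.mk' A g) (H.map (QuotientGroup.mk' A))
      = (H ⊔ cj g H).map (QuotientGroup.mk' A) := by
    rw [cj_map, Subgroup.map_sup]
  have hxb' : xb ∈ (H ⊔ cj g H).map (QuotientGroup.mk' A) := by
    rw [← e1]
    exact hxb
  obtain ⟨k, hk, rfl⟩ := hxb'
  have e2 : cj (QuotientGroup.mk' A g) (H.map (QuotientGroup.mk' A)) =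
      cj (QuotientGroup.mk' A k) (H.map (QuotientGroup.mk' A)) := e
  have hn : QuotientGroup.mk' A (k⁻¹ * g) ∈
      normalizer ((H.map (QuotientGroup.mk' A) : Subgroup (G ⧸ A)) : Set (G ⧸ A)) := by
    apply norm_of_cj_eq
    rw [map_mul, map_inv, cj_mul, e2, cj_inv_cj]
  rw [← hii] at hn
  obtain ⟨n, hnN, hn2⟩ := hn
  have ha : k⁻¹ * g * n⁻¹ ∈ A := by
    have : QuotientGroup.mk' A (k⁻¹ * g * n⁻¹) = 1 := by
      rw [map_mul _ (k⁻¹ * g), map_inv, ← hn2]
      exact mul_inv_cancel _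
    rwa [← MonoidHom.mem_ker, QuotientGroup.ker_mk'] at this
  have hg : cj g H = cj k (cj (k⁻¹ * g * n⁻¹) H) := by
    rw [← cj_mul]
    have e3 : k * (k⁻¹ * g * n⁻¹) = g * n⁻¹ := by group
    rw [e3, cj_mul, cj_eq_of_norm (Subgroup.inv_mem _ hnN)]
  apply reduce hk hg
  exact back_step23 A T hS hSH hT hA hi ha

/-- The main criterion. -/
theorem criterion (hT : ∃ P : Sylow p A, (P : Subgroup A).map A.subtype = T)
    (hA : ∀ K : Subgroup ↥A, (∃ P : Sylow p ↥A, (P : Subgroup ↥A) ≤ K) → IsPronormal K)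
    (hQ : ∀ K : Subgroup (G ⧸ A), (∃ P : Sylow p (G ⧸ A), (P : Subgroup (G ⧸ A)) ≤ K) → IsPronormal K) :
    (∀ K : Subgroup G, (∃ P : Sylow p G, (P : Subgroup G) ≤ K) → IsPronormal K) ↔
      ((∀ K : Subgroup (↥(normalizer (T : Set G)) ⧸ T.subgroupOf (normalizer (T : Set G))),
        (∃ P : Sylow p (↥(normalizer (T : Set G)) ⧸ T.subgroupOf (normalizer (T : Set G))),
          (P : Subgroup _) ≤ K) → IsPronormal K) ∧
        ∀ K : Subgroup G, (∃ P : Sylow p G, (P : Subgroup G) ≤ K) →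
          (normalizer (K : Set G)).map (QuotientGroup.mk' A) =
            normalizer ((K.map (QuotientGroup.mk' A) : Subgroup (G ⧸ A)) : Set (G ⧸ A))) := by
  constructor
  · intro hP
    exact ⟨fun K hK => forward_i A T hT hP K hK, fun K hK => forward_ii A (hP K hK)⟩
  · rintro ⟨hi, hii⟩ K ⟨P, hPK⟩
    obtain ⟨x, hx⟩ := exists_sylow_inf A hT P
    apply pronormal_of_cj x
    have hc : ((x • P : Sylow p G) : Subgroup G) = cj x (P : Subgroup G) := by
      rw [Sylow.coe_subgroup_smul, Struct.conj_smul_eq_map]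
    refine back_main A T (S := x • P) (by rw [hc]; exact hx) ?_ hT hA hQ hi (hii _ ⟨x • P, ?_⟩)
    · rw [hc]
      exact cj_mono hPK
    · rw [hc]
      exact cj_mono hPK

end main

section selfnorm

variable {G : Type*} [Group G] [Finite G] {p : ℕ} [hp : Fact p.Prime]

/-- Sylow overgroups are pronormal when Sylow subgroups are self-normalizing. -/
theorem pronormal_of_selfNormalizing
    (hQ : ∀ P : Sylow p G, normalizer ((P : Subgroup G) : Set G) = P)
    (K : Subgroup G) (hK : ∃ P : Sylow p G, (P : Subgroup G) ≤ K) : IsPronormal K := by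
  obtain ⟨P, hPK⟩ := hK
  intro g
  have hle : (P : Subgroup G) ≤ K ⊔ cj g K := hPK.trans le_sup_left
  have hle' : cj g (P : Subgroup G) ≤ K ⊔ cj g K := (cj_mono hPK).trans le_sup_right
  have hi : ¬ p ∣ (P : Subgroup G).relIndex (K ⊔ cj g K) := by
    intro h
    apply P.not_dvd_index
    rw [← Subgroup.relIndex_mul_index hle]
    exact Dvd.dvd.mul_right h _
  obtain ⟨d, hd, e⟩ := conj_in (D := K ⊔ cj g K) P.2 (P.2.map (MulAut.conj g).toMonoidHom) hle hle' hi
    (card_cj g _)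
  refine ⟨d, hd, ?_⟩
  have h1 : d⁻¹ * g ∈ normalizer ((P : Subgroup G) : Set G) := by
    apply norm_of_cj_eq
    have e' : cj d (P : Subgroup G) = cj g (P : Subgroup G) := e
    rw [cj_mul, ← e', cj_inv_cj]
  rw [hQ P] at h1
  have h2 : cj g K = cj d (cj (d⁻¹ * g) K) := by
    rw [← cj_mul, mul_inv_cancel_left]
  show cj g K = cj d K
  rw [h2, cj_of_mem (hPK h1)]

/-- Normalizers of Sylow overgroups are themselves, when Sylow subgroups are self-normalizing. -/
theorem normalizer_eq_of_selfNormalizing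
    (hQ : ∀ P : Sylow p G, normalizer ((P : Subgroup G) : Set G) = P)
    (K : Subgroup G) (hK : ∃ P : Sylow p G, (P : Subgroup G) ≤ K) :
    normalizer (K : Set G) = K := by
  obtain ⟨P, hPK⟩ := hK
  apply le_antisymm _ Subgroup.le_normalizer
  intro g hg
  have hg' : cj g K = K := cj_eq_of_norm hg
  have hle' : cj g (P : Subgroup G) ≤ K := by
    rw [← hg']
    exact cj_mono hPK
  have hi : ¬ p ∣ (P : Subgroup G).relIndex K := by
    intro h
    apply P.not_dvd_index
    rw [← Subgroup.relIndex_mul_index hPK]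
    exact Dvd.dvd.mul_right h _
  obtain ⟨d, hd, e⟩ := conj_in (D := K) P.2 (P.2.map (MulAut.conj g).toMonoidHom) hPK hle' hi
    (card_cj g _)
  have h1 : d⁻¹ * g ∈ normalizer ((P : Subgroup G) : Set G) := by
    apply norm_of_cj_eq
    have e' : cj d (P : Subgroup G) = cj g (P : Subgroup G) := e
    rw [cj_mul, ← e', cj_inv_cj]
  rw [hQ P] at h1
  have h2 := K.mul_mem hd (hPK h1)
  simpa using h2

variable (A : Subgroup G) [A.Normal]

theorem map_normalizer_of_selfNormalizing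
    (hQ : ∀ P : Sylow p (G ⧸ A), normalizer ((P : Subgroup (G ⧸ A)) : Set (G ⧸ A)) = P)
    (K : Subgroup G) (hK : ∃ P : Sylow p G, (P : Subgroup G) ≤ K) :
    (normalizer (K : Set G)).map (QuotientGroup.mk' A) =
      normalizer ((K.map (QuotientGroup.mk' A) : Subgroup (G ⧸ A)) : Set (G ⧸ A)) := by
  apply le_antisymm (Subgroup.le_normalizer_map _)
  obtain ⟨P, hPK⟩ := hK
  have hs : Function.Surjective (QuotientGroup.mk' A) := QuotientGroup.mk'_surjective A
  rw [normalizer_eq_of_selfNormalizing hQ (K.map (QuotientGroup.mk' A)) ⟨P.mapSurjective hs, by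
    rw [Sylow.coe_mapSurjective]
    exact Subgroup.map_mono hPK⟩]
  exact Subgroup.map_mono Subgroup.le_normalizer

end selfnorm

end Cfsg.Agent.Lib.Struct.Pronormal
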