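import Mathlib
import Cfsg.Agent.Lib.Struct.Basic

/-!
# A redundant Sylow subgroup of `GL(p, F)` when `p ‖ q - 1`.
-/

set_option autoImplicit false

namespace Cfsg.Agent.Lib.Struct.RedGL

open Matrix

section Mon

variable {F : Type*} [Field F] {p : ℕ} [NeZero p]

/-- Monomial matrix: `A i (i + k) = d i`. -/
def mon (d : Fin p → F) (k : Fin p) : Matrix (Fin p) (Fin p) F :=
  Matrix.of fun i j => if j = i + k then d i else 0

theorem mon_apply (d : Fin p → F) (k i j : Fin p) : mon d k i j = if j = i + k then d i else 0 := rfl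

theorem mon_mul (d d' : Fin p → F) (k k' : Fin p) :
    mon d k * mon d' k' = mon (fun i => d i * d' (i + k)) (k + k') := by
  ext i j
  rw [Matrix.mul_apply, Finset.sum_eq_single (i + k)]
  · simp only [mon_apply, if_true]
    by_cases h : j = i + k + k'
    · have h' : j = i + (k + k') := by rw [h, add_assoc]
      simp [h, h', add_assoc]
    · have h' : ¬ j = i + (k + k') := by rwa [← add_assoc]
      simp [h, h']
  · intro l _ hl
    simp [mon_apply, hl]
  · simp

theorem mon_one : mon (fun _ => (1:F)) (0 : Fin p) = 1 := by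
  ext i j
  simp [mon_apply, Matrix.one_apply, eq_comm]

theorem mon_mul_apply (d : Fin p → F) (M : Matrix (Fin p) (Fin p) F) (k i j : Fin p) :
    (mon d k * M) i j = d i * M (i + k) j := by
  rw [Matrix.mul_apply, Finset.sum_eq_single (i + k)]
  · simp [mon_apply]
  · intro l _ hl
    simp [mon_apply, hl]
  · simp

theorem mul_mon_apply (d : Fin p → F) (M : Matrix (Fin p) (Fin p) F) (k i j : Fin p) :
    (M * mon d k) i j = M i (j - k) * d (j - k) := by
  rw [Matrix.mul_apply, Finset.sum_eq_single (j - k)]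
  · simp [mon_apply]
  · intro l _ hl
    have : ¬ j = l + k := by
      intro h
      apply hl
      rw [h]
      simp
    simp [mon_apply, this]
  · simp

/-- The invertible monomial matrix. -/
def monG (d : Fin p → Fˣ) (k : Fin p) : GL (Fin p) F where
  val := mon (fun i => (d i : F)) k
  inv := mon (fun i => (((d (i - k))⁻¹ : Fˣ) : F)) (-k)
  val_inv := by
    rw [mon_mul, ← mon_one]
    congr 1
    · funext i
      simp
    · simp
  inv_val := by
    rw [mon_mul, ← mon_one]
    congr 1
    · funext i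
      have : i + -k = i - k := (sub_eq_add_neg i k).symm
      simp [this]
    · simp

theorem monG_val (d : Fin p → Fˣ) (k : Fin p) :
    ((monG d k : GL (Fin p) F) : Matrix (Fin p) (Fin p) F) = mon (fun i => (d i : F)) k := rfl

theorem monG_mul (d d' : Fin p → Fˣ) (k k' : Fin p) :
    (monG d k * monG d' k' : GL (Fin p) F) = monG (fun i => d i * d' (i + k)) (k + k') := by
  apply Units.ext
  show mon _ _ * mon _ _ = mon _ _
  rw [mon_mul]
  congr 1

theorem monG_inv (d : Fin p → Fˣ) (k : Fin p) :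
    ((monG d k)⁻¹ : GL (Fin p) F) = monG (fun i => (d (i - k))⁻¹) (-k) := by
  apply Units.ext
  rfl

theorem monG_one : (monG (fun _ => 1) 0 : GL (Fin p) F) = 1 := by
  apply Units.ext
  show mon _ _ = 1
  rw [← mon_one]
  congr 1

theorem monG_injective {d d' : Fin p → Fˣ} {k k' : Fin p}
    (h : (monG d k : GL (Fin p) F) = monG d' k') : d = d' ∧ k = k' := by
  have h1 : mon (fun i => (d i : F)) k = mon (fun i => (d' i : F)) k' :=
    congrArg (fun A : GL (Fin p) F => (A : Matrix (Fin p) (Fin p) F)) h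
  have hk : k = k' := by
    have h2 := congrFun (congrFun h1 0) (0 + k)
    simp only [mon_apply, if_true] at h2
    by_contra hne
    have : ¬ (0 + k = 0 + k') := by
      intro h3
      exact hne (add_left_cancel h3)
    rw [if_neg this] at h2
    exact (d 0).ne_zero h2
  subst hk
  refine ⟨?_, rfl⟩
  funext i
  have h2 := congrFun (congrFun h1 i) (i + k)
  simp only [mon_apply, if_true] at h2
  exact Units.ext h2

end Mon

section Group

variable (F : Type*) [Field F] (p : ℕ) [NeZero p]

/-- The monomial subgroup: entries `p`-th roots of unity, translation permutations. -/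
def Q0 : Subgroup (GL (Fin p) F) where
  carrier := {A | ∃ (d : Fin p → Fˣ) (k : Fin p), (∀ i, d i ^ p = 1) ∧ A = monG d k}
  one_mem' := ⟨fun _ => 1, 0, fun _ => one_pow _, monG_one.symm⟩
  mul_mem' := by
    rintro _ _ ⟨d, k, hd, rfl⟩ ⟨d', k', hd', rfl⟩
    refine ⟨_, _, fun i => ?_, monG_mul d d' k k'⟩
    rw [mul_pow, hd, hd', one_mul]
  inv_mem' := by
    rintro _ ⟨d, k, hd, rfl⟩
    refine ⟨_, _, fun i => ?_, monG_inv d k⟩
    rw [inv_pow, hd, inv_one]

variable {F p}

theorem mem_Q0 {A : GL (Fin p) F} :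
    A ∈ Q0 F p ↔ ∃ (d : Fin p → Fˣ) (k : Fin p), (∀ i, d i ^ p = 1) ∧ A = monG d k := Iff.rfl

/-- Order of `Q0` from the number of `p`-th roots of unity. -/
theorem card_Q0 [Finite F] (hμ : Nat.card (rootsOfUnity p F) = p) : Nat.card (Q0 F p) = p ^ (p + 1) := by
  classical
  let Φ : (Fin p → rootsOfUnity p F) × Fin p → Q0 F p := fun x =>
    ⟨monG (fun i => ((x.1 i : rootsOfUnity p F) : Fˣ)) x.2, _, x.2, fun i => (x.1 i).2, rfl⟩
  have hΦ : Function.Bijective Φ := by
    constructor
    · rintro ⟨d, k⟩ ⟨d', k'⟩ h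
      have h1 := monG_injective (congrArg Subtype.val h)
      have h2 : d = d' := by
        funext i
        exact Subtype.ext (congrFun h1.1 i)
      have h3 : k = k' := h1.2
      rw [h2, h3]
    · rintro ⟨A, d, k, hd, rfl⟩
      exact ⟨(fun i => ⟨d i, hd i⟩, k), rfl⟩
  rw [← Nat.card_eq_of_bijective Φ hΦ, Nat.card_prod, Nat.card_fun, hμ]
  simp [pow_succ]

end Group

section Elements

variable {F : Type*} [Field F] {p : ℕ} [NeZero p]

/-- The product appearing in powers of a monomial matrix. -/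
def dpow (d : Fin p → Fˣ) (k : Fin p) (n : ℕ) : Fin p → Fˣ :=
  fun i => ∏ l ∈ Finset.range n, d (i + l • k)

theorem monG_pow (d : Fin p → Fˣ) (k : Fin p) (n : ℕ) :
    (monG d k : GL (Fin p) F) ^ n = monG (dpow d k n) (n • k) := by
  induction n with
  | zero =>
    have e1 : dpow d k 0 = fun _ => 1 := by
      funext i
      simp [dpow]
    rw [pow_zero, ← monG_one, e1, zero_nsmul]
  | succ n ih =>
    have e1 : dpow d k (n + 1) = fun i => dpow d k n i * d (i + n • k) := by
      funext i
      simp [dpow, Finset.prod_range_succ]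
    rw [pow_succ, ih, monG_mul, e1, succ_nsmul]

theorem nsmul_eq_zero_of_card (k : Fin p) : p • k = 0 := by
  have := card_nsmul_eq_zero' (G := Fin p) (x := k)
  simpa using this

theorem nsmul_injOn {k : Fin p} (hp : p.Prime) (hk : k ≠ 0) {a b : ℕ} (ha : a < p) (hb : b < p)
    (h : a • k = b • k) : a = b := by
  haveI : Fact p.Prime := ⟨hp⟩
  have hord : addOrderOf k = p := addOrderOf_eq_prime (nsmul_eq_zero_of_card k) hk
  have := nsmul_injOn_Iio_addOrderOf (x := k)
  exact this (by simpa [hord] using ha) (by simpa [hord] using hb) h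

theorem dpow_card (hp : p.Prime) (d : Fin p → Fˣ) {k : Fin p} (hk : k ≠ 0) (i : Fin p) :
    dpow d k p i = ∏ j, d j := by
  classical
  unfold dpow
  rw [← Fin.prod_univ_eq_prod_range (fun l => d (i + l • k)) p]
  have hbij : Function.Bijective (fun l : Fin p => i + (l : ℕ) • k) := by
    apply Finite.injective_iff_bijective.1
    intro a b hab
    have h1 : (a : ℕ) • k = (b : ℕ) • k := add_left_cancel hab
    exact Fin.ext (nsmul_injOn hp hk a.2 b.2 h1)
  exact hbij.prod_comp (fun j => d j)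

end Elements

section Special

variable {F : Type*} [Field F] {p : ℕ} [NeZero p]

/-- Row-uniqueness for elements normalizing `Q0`. -/
theorem row_unique (hp : p.Prime) (hodd : p ≠ 2) (ζ : Fˣ) (hζ : orderOf ζ = p)
    (g : GL (Fin p) F) (hg : ∀ A ∈ Q0 F p, g * A * g⁻¹ ∈ Q0 F p)
    (i j j' : Fin p) (h : (g : Matrix (Fin p) (Fin p) F) i j ≠ 0)
    (h' : (g : Matrix (Fin p) (Fin p) F) i j' ≠ 0) : j = j' := by
  classical
  have hζp : ζ ^ p = 1 := by rw [← hζ]; exact pow_orderOf_eq_one ζ
  have hp1 : (1 : Fin p).val = 1 := by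
    have : 1 < p := hp.one_lt
    rw [Fin.val_one']
    exact Nat.mod_eq_of_lt this
  -- the elements
  let τ : Fin p → Fˣ := fun i => ζ ^ (i.val.choose 2)
  let d₀ : Fin p → Fˣ := fun i => τ i * (τ (i + 1))⁻¹
  let t : GL (Fin p) F := monG τ 0
  let σ : GL (Fin p) F := monG (fun _ => 1) 1
  have htQ : t ∈ Q0 F p := by
    refine ⟨τ, 0, fun i => ?_, rfl⟩
    show (ζ ^ (i.val.choose 2)) ^ p = 1
    rw [← pow_mul, mul_comm, pow_mul, hζp, one_pow]
  have hσQ : σ ∈ Q0 F p := ⟨_, 1, fun i => one_pow _, rfl⟩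
  have hcomm : t * σ * t⁻¹ * σ⁻¹ = monG d₀ 0 := by
    show monG τ 0 * monG (fun _ => 1) 1 * (monG τ 0)⁻¹ * (monG (fun _ => 1) 1)⁻¹ = _
    rw [monG_inv, monG_inv, monG_mul, monG_mul, monG_mul]
    congr 1
    · funext i
      simp [d₀]
    · simp
  have hd₀ : ∀ i, d₀ i = (ζ ^ i.val)⁻¹ := by
    intro i
    have hsucc : τ (i + 1) = ζ ^ (i.val.choose 2 + i.val) := by
      show ζ ^ ((i + 1).val.choose 2) = _
      have hv : (i + 1).val = (i.val + 1) % p := by
        rw [Fin.val_add, hp1]
      by_cases hlt : i.val + 1 < p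
      · rw [hv, Nat.mod_eq_of_lt hlt, Nat.choose_succ_succ' i.val 1]
        simp [add_comm]
      · have heq : i.val + 1 = p := by
          have := i.2
          omega
        rw [hv, heq, Nat.mod_self]
        have hch : i.val.choose 2 + i.val = (i.val + 1).choose 2 := by
          rw [Nat.choose_succ_succ' i.val 1]
          simp [add_comm]
        rw [hch, heq]
        have hdvd : p ∣ p.choose 2 := hp.dvd_choose_self (by norm_num) (by
          have := hp.two_le
          omega)
        obtain ⟨c, hc⟩ := hdvd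
        rw [hc, pow_mul, hζp, one_pow]
        simp
    show τ i * (τ (i + 1))⁻¹ = _
    rw [hsucc, pow_add]
    show ζ ^ (i.val.choose 2) * (ζ ^ (i.val.choose 2) * ζ ^ i.val)⁻¹ = _
    group
  have hd₀inj : Function.Injective d₀ := by
    intro a b hab
    rw [hd₀, hd₀, _root_.inv_inj] at hab
    have hord : ∀ c : Fin p, c.val ∈ Set.Iio (orderOf ζ) := by
      intro c
      rw [hζ]
      exact c.2
    exact Fin.ext (pow_injOn_Iio_orderOf (hord a) (hord b) hab)
  -- conjugating the commutator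
  have ht' := hg t htQ
  have hσ' := hg σ hσQ
  obtain ⟨a, ka, _, ha⟩ := ht'
  obtain ⟨b, kb, _, hb⟩ := hσ'
  have hconj : g * monG d₀ 0 * g⁻¹ = (g * t * g⁻¹) * (g * σ * g⁻¹) * (g * t * g⁻¹)⁻¹ * (g * σ * g⁻¹)⁻¹ := by
    rw [← hcomm]
    group
  have hdiag : ∃ d₁ : Fin p → Fˣ, g * monG d₀ 0 * g⁻¹ = monG d₁ 0 := by
    rw [hconj, ha, hb, monG_inv, monG_inv, monG_mul, monG_mul, monG_mul]
    have key : ∀ (D : Fin p → Fˣ) (K : Fin p), K = 0 → ∃ d₁ : Fin p → Fˣ,
        (monG D K : GL (Fin p) F) = monG d₁ 0 := fun D K hK => ⟨D, by rw [hK]⟩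
    exact key _ _ (by abel)
  obtain ⟨d₁, hd₁⟩ := hdiag
  have hrel : (monG d₁ 0 : GL (Fin p) F) * g = g * monG d₀ 0 := by
    rw [← hd₁]
    group
  have hrelm : mon (fun i => (d₁ i : F)) 0 * (g : Matrix (Fin p) (Fin p) F)
      = (g : Matrix (Fin p) (Fin p) F) * mon (fun i => (d₀ i : F)) 0 :=
    congrArg (fun A : GL (Fin p) F => (A : Matrix (Fin p) (Fin p) F)) hrel
  have hent : ∀ l, (g : Matrix (Fin p) (Fin p) F) i l ≠ 0 → (d₁ i : F) = d₀ l := by
    intro l hl
    have := congrFun (congrFun hrelm i) l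
    rw [mon_mul_apply, mul_mon_apply] at this
    simp only [add_zero, sub_zero] at this
    exact mul_left_cancel₀ hl ((mul_comm _ _).trans this)
  have h1 := hent j h
  have h2 := hent j' h'
  apply hd₀inj
  apply Units.ext
  rw [← h1, ← h2]

end Special

section Cases

variable {F : Type*} [Field F] {p : ℕ} [NeZero p]

/-- Build an invertible matrix from a right inverse. -/
def mkU (M N : Matrix (Fin p) (Fin p) F) (h : M * N = 1) : GL (Fin p) F :=
  ⟨M, N, h, mul_eq_one_comm.1 h⟩

theorem mkU_val (M N : Matrix (Fin p) (Fin p) F) (h : M * N = 1) :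
    ((mkU M N h : GL (Fin p) F) : Matrix (Fin p) (Fin p) F) = M := rfl

/-- Commuting with an invertible matrix. -/
theorem conj_eq_of_comm (g x : GL (Fin p) F)
    (h : (g : Matrix (Fin p) (Fin p) F) * x = x * g) : g⁻¹ * x * g = x := by
  have h1 : g * x = x * g := Units.ext h
  rw [mul_assoc, ← h1, inv_mul_cancel_left]

theorem mon_scalar (c : F) : mon (fun _ => c) (0 : Fin p) = c • (1 : Matrix (Fin p) (Fin p) F) := by
  ext i j
  simp [mon_apply, Matrix.one_apply, eq_comm]

/-- Diagonal element, injective case. -/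
theorem case_inj (hp : p.Prime) (d : Fin p → Fˣ) (hd : ∀ i, d i ^ p = 1)
    (hinj : Function.Injective d) :
    ∃ g : GL (Fin p) F, g⁻¹ * monG d 0 * g ∈ Q0 F p ∧
      ∃ i j j', j ≠ j' ∧ (g : Matrix (Fin p) (Fin p) F) i j ≠ 0 ∧
        (g : Matrix (Fin p) (Fin p) F) i j' ≠ 0 := by
  classical
  let v : Fin p → F := fun i => ((d i)⁻¹ : Fˣ)
  have hvinj : Function.Injective v := by
    intro a b hab
    apply hinj
    have h1 : (d a)⁻¹ = (d b)⁻¹ := Units.ext hab
    exact _root_.inv_inj.1 h1
  have hdet : (Matrix.vandermonde v).det ≠ 0 := Matrix.det_vandermonde_ne_zero_iff.2 hvinj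
  let g : GL (Fin p) F := Matrix.GeneralLinearGroup.mkOfDetNeZero (Matrix.vandermonde v) hdet
  have hgval : (g : Matrix (Fin p) (Fin p) F) = Matrix.vandermonde v := rfl
  have hv0 : ∀ i, v i ≠ 0 := fun i => Units.ne_zero _
  have hvd : ∀ i, (d i : F) * v i = 1 := by
    intro i
    show (d i : F) * (((d i)⁻¹ : Fˣ) : F) = 1
    simp
  have hvp : ∀ i, v i ^ p = 1 := by
    intro i
    show (((d i)⁻¹ : Fˣ) : F) ^ p = 1
    rw [← Units.val_pow_eq_pow_val, inv_pow, hd]
    simp
  have hp1 : (1 : Fin p).val = 1 := by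
    have : 1 < p := hp.one_lt
    rw [Fin.val_one']
    exact Nat.mod_eq_of_lt this
  let σ : GL (Fin p) F := monG (fun _ => 1) 1
  have hrel : monG d 0 * g = g * σ := by
    apply Units.ext
    show mon (fun i => (d i : F)) 0 * Matrix.vandermonde v
      = Matrix.vandermonde v * mon (fun _ => ((1 : Fˣ) : F)) 1
    ext i j
    rw [mon_mul_apply, mul_mon_apply]
    simp only [add_zero, Units.val_one, mul_one, Matrix.vandermonde_apply]
    obtain ⟨j', rfl⟩ : ∃ j', j = j' + 1 := ⟨j - 1, by simp⟩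
    simp only [add_sub_cancel_right]
    have hv : (j' + 1).val = (j'.val + 1) % p := by
      rw [Fin.val_add, hp1]
    have hpow : v i ^ (j' + 1).val = v i ^ (j'.val + 1) := by
      by_cases hlt : j'.val + 1 < p
      · rw [hv, Nat.mod_eq_of_lt hlt]
      · have heq : j'.val + 1 = p := by
          have := j'.2
          omega
        rw [hv, heq, Nat.mod_self, pow_zero, hvp]
    rw [hpow, pow_succ]
    calc (d i : F) * (v i ^ j'.val * v i) = v i ^ j'.val * ((d i : F) * v i) := by ring
      _ = _ := by rw [hvd, mul_one]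
  refine ⟨g, ?_, 0, 0, 1, ?_, ?_, ?_⟩
  · have h1 : g⁻¹ * monG d 0 * g = σ := by
      rw [mul_assoc, hrel, inv_mul_cancel_left]
    rw [h1]
    exact ⟨_, 1, fun i => one_pow _, rfl⟩
  · intro h
    have h2 : (0 : Fin p).val = (1 : Fin p).val := congrArg Fin.val h
    rw [hp1] at h2
    simp at h2
  · rw [hgval, Matrix.vandermonde_apply]
    exact pow_ne_zero _ (hv0 _)
  · rw [hgval, Matrix.vandermonde_apply]
    exact pow_ne_zero _ (hv0 _)

/-- Diagonal element, non-injective case. -/
theorem case_noninj (d : Fin p → Fˣ) {a b : Fin p} (hab : a ≠ b) (hd : d a = d b) :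
    ∃ g : GL (Fin p) F, g⁻¹ * monG d 0 * g = monG d 0 ∧
      ∃ i j j', j ≠ j' ∧ (g : Matrix (Fin p) (Fin p) F) i j ≠ 0 ∧
        (g : Matrix (Fin p) (Fin p) F) i j' ≠ 0 := by
  classical
  let T := Matrix.transvection a b (1 : F)
  have hT : T * Matrix.transvection a b (-1 : F) = 1 := by
    show Matrix.transvection a b (1 : F) * Matrix.transvection a b (-1 : F) = 1
    rw [Matrix.transvection_mul_transvection_same _ _ hab]
    simp
  let g := mkU T _ hT
  have hent : ∀ i j, T i j = (if i = j then 1 else 0) + (if a = i ∧ b = j then 1 else 0) := by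
    intro i j
    simp [T, Matrix.transvection, Matrix.one_apply, Matrix.single_apply]
  refine ⟨g, conj_eq_of_comm g _ ?_, a, a, b, hab, ?_, ?_⟩
  · show T * mon (fun i => (d i : F)) 0 = mon (fun i => (d i : F)) 0 * T
    ext i j
    rw [mon_mul_apply, mul_mon_apply]
    simp only [add_zero, sub_zero]
    rw [hent]
    by_cases hij : i = j
    · subst hij
      ring
    · by_cases h2 : a = i ∧ b = j
      · obtain ⟨rfl, rfl⟩ := h2
        rw [← hd]
        ring
      · simp [hij, h2]
  · show T a a ≠ 0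
    rw [hent]
    simp [hab.symm]
  · show T a b ≠ 0
    rw [hent]
    simp [hab]

theorem idem_mul {R : Type*} [Ring R] [Algebra F R] (e : R) (he : e * e = e) (α β : F) :
    (1 + α • e) * (1 + β • e) = 1 + (α + β + α * β) • e := by
  rw [add_mul, mul_add, mul_add, one_mul, mul_one, one_mul, smul_mul_smul_comm, he, add_smul,
    add_smul]
  abel

/-- Non-diagonal element. -/
theorem case_nondiag (hp : p.Prime) (hodd : p ≠ 2) (ζ : Fˣ) (hζ : orderOf ζ = p) (d : Fin p → Fˣ)
    {k : Fin p} (hk : k ≠ 0) :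
    ∃ g : GL (Fin p) F, g⁻¹ * monG d k * g = monG d k ∧
      ∃ i j j', j ≠ j' ∧ (g : Matrix (Fin p) (Fin p) F) i j ≠ 0 ∧
        (g : Matrix (Fin p) (Fin p) F) i j' ≠ 0 := by
  classical
  let x : GL (Fin p) F := monG d k
  let xm : Matrix (Fin p) (Fin p) F := x
  have hxm : xm = mon (fun i => (d i : F)) k := rfl
  let c : Fˣ := ∏ j, d j
  have hxpow : ∀ n : ℕ, xm ^ n = mon (fun i => (dpow d k n i : F)) (n • k) := by
    intro n
    have h1 : (x ^ n : GL (Fin p) F) = monG (dpow d k n) (n • k) := monG_pow d k n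
    have h2 : ((x ^ n : GL (Fin p) F) : Matrix (Fin p) (Fin p) F) = mon (fun i => (dpow d k n i : F)) (n • k) := by
      rw [h1]; rfl
    rw [Units.val_pow_eq_pow_val] at h2
    exact h2
  have hxp : xm ^ p = (c : F) • (1 : Matrix (Fin p) (Fin p) F) := by
    rw [hxpow, nsmul_eq_zero_of_card, ← mon_scalar]
    congr 1
    funext i
    rw [dpow_card hp d hk i]
  let S : Matrix (Fin p) (Fin p) F := ∑ j ∈ Finset.range p, xm ^ j
  have hgeom : (xm - 1) * S = xm ^ p - 1 := mul_geom_sum xm p
  have hgeom' : S * (xm - 1) = xm ^ p - 1 := geom_sum_mul xm p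
  have h0 : (0 : Fin p) ≠ 0 + k := by simpa using hk.symm
  by_cases hc : c = 1
  · -- the case `x ^ p = 1`
    have hxp1 : xm ^ p = 1 := by
      rw [hxp, hc]
      simp
    have hxS : xm * S = S := by
      have : (xm - 1) * S = 0 := by rw [hgeom, hxp1, sub_self]
      rw [sub_mul, one_mul, sub_eq_zero] at this
      exact this
    have hSx : S * xm = S := by
      have : S * (xm - 1) = 0 := by rw [hgeom', hxp1, sub_self]
      rw [mul_sub, mul_one, sub_eq_zero] at this
      exact this
    have hxjS : ∀ j : ℕ, xm ^ j * S = S := by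
      intro j
      induction j with
      | zero => simp
      | succ j ih => rw [pow_succ, mul_assoc, hxS, ih]
    have hSS : S * S = (p : F) • S := by
      show (∑ j ∈ Finset.range p, xm ^ j) * S = _
      rw [Finset.sum_mul, Finset.sum_congr rfl (fun j _ => hxjS j)]
      simp [Nat.cast_smul_eq_nsmul]
    have hprim : IsPrimitiveRoot ζ p := by
      rw [← hζ]
      exact IsPrimitiveRoot.orderOf ζ
    have hpF : (p : F) ≠ 0 := by
      have hprim' : IsPrimitiveRoot (ζ : F) p :=
        hprim.map_of_injective (f := Units.coeHom F) Units.val_injective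
      exact (hprim'.neZero' ).out
    let u : F := (p : F)⁻¹
    let e : Matrix (Fin p) (Fin p) F := u • S
    have hee : e * e = e := by
      show (u • S) * (u • S) = u • S
      rw [smul_mul_smul_comm, hSS, smul_smul]
      congr 1
      show u * u * (p : F) = u
      have hup : u * (p : F) = 1 := inv_mul_cancel₀ hpF
      rw [mul_assoc, hup, mul_one]
    let a : F := (ζ : F)
    have ha0 : a ≠ 0 := Units.ne_zero _
    have ha1 : a ≠ 1 := by
      intro h
      have h1 : ζ = 1 := Units.ext h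
      rw [h1, orderOf_one] at hζ
      exact hp.one_lt.ne hζ
    let M : Matrix (Fin p) (Fin p) F := 1 + (a - 1) • e
    let N : Matrix (Fin p) (Fin p) F := 1 + (a⁻¹ - 1) • e
    have hMN : M * N = 1 := by
      show (1 + (a - 1) • e) * (1 + (a⁻¹ - 1) • e) = 1
      rw [idem_mul e hee]
      have : a - 1 + (a⁻¹ - 1) + (a - 1) * (a⁻¹ - 1) = 0 := by
        field_simp
        ring
      rw [this, zero_smul, add_zero]
    let g := mkU M N hMN
    refine ⟨g, conj_eq_of_comm g _ ?_, ?_⟩
    · show M * xm = xm * M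
      show (1 + (a - 1) • e) * xm = xm * (1 + (a - 1) • e)
      have h1 : e * xm = e := by
        show (u • S) * xm = u • S
        rw [smul_mul_assoc, hSx]
      have h2 : xm * e = e := by
        show xm * (u • S) = u • S
        rw [mul_smul_comm, hxS]
      rw [add_mul, mul_add, one_mul, mul_one, smul_mul_assoc, mul_smul_comm, h1, h2]
    · -- entries
      have h2lt : 2 < p := lt_of_le_of_ne hp.two_le (Ne.symm hodd)
      have hSent : ∀ j₀, j₀ < p → ∀ i, S i (i + j₀ • k) = (dpow d k j₀ i : F) := by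
        intro j₀ hj₀ i
        show (∑ j ∈ Finset.range p, xm ^ j) i (i + j₀ • k) = _
        rw [Matrix.sum_apply, Finset.sum_eq_single j₀]
        · rw [hxpow, mon_apply, if_pos rfl]
        · intro j hj hne
          rw [hxpow, mon_apply, if_neg]
          intro h
          have h1 : j₀ • k = j • k := add_left_cancel h
          exact hne (nsmul_injOn hp hk (Finset.mem_range.1 hj) hj₀ h1.symm)
        · intro h
          exact absurd (Finset.mem_range.2 hj₀) h
      have hMent : ∀ j₀, 0 < j₀ → j₀ < p → M 0 (0 + j₀ • k) ≠ 0 := by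
        intro j₀ hpos hj₀
        have hne : (0 : Fin p) ≠ 0 + j₀ • k := by
          intro h
          have h1 : (0 : ℕ) • k = j₀ • k := by
            rw [zero_nsmul]
            simpa using h
          have := nsmul_injOn hp hk hp.pos hj₀ h1
          omega
        show (1 + (a - 1) • e) 0 (0 + j₀ • k) ≠ 0
        rw [Matrix.add_apply, Matrix.one_apply_ne hne, zero_add, Matrix.smul_apply]
        show (a - 1) • (u • S) 0 (0 + j₀ • k) ≠ 0
        rw [Matrix.smul_apply, hSent j₀ hj₀]
        simp only [smul_eq_mul]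
        have h3 : u ≠ 0 := inv_ne_zero hpF
        have h4 : a - 1 ≠ 0 := sub_ne_zero.2 ha1
        exact mul_ne_zero h4 (mul_ne_zero h3 (Units.ne_zero _))
      refine ⟨0, 0 + 1 • k, 0 + 2 • k, ?_, hMent 1 one_pos hp.one_lt, hMent 2 two_pos h2lt⟩
      intro h
      have h1 : 1 • k = 2 • k := add_left_cancel h
      have := nsmul_injOn hp hk hp.one_lt h2lt h1
      omega
  · -- the case `x ^ p ≠ 1`
    have hc' : (c : F) - 1 ≠ 0 := by
      intro h
      apply hc
      apply Units.ext
      exact sub_eq_zero.1 h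
    let M : Matrix (Fin p) (Fin p) F := xm - 1
    let N : Matrix (Fin p) (Fin p) F := ((c : F) - 1)⁻¹ • S
    have hMN : M * N = 1 := by
      show (xm - 1) * (((c : F) - 1)⁻¹ • S) = 1
      have h5 : (c : F) • (1 : Matrix (Fin p) (Fin p) F) - 1 = ((c : F) - 1) • 1 := by
        rw [sub_smul, one_smul]
      rw [mul_smul_comm, hgeom, hxp, h5, smul_smul, inv_mul_cancel₀ hc', one_smul]
    let g := mkU M N hMN
    refine ⟨g, conj_eq_of_comm g _ ?_, 0, 0, 0 + k, h0, ?_, ?_⟩
    · show (xm - 1) * xm = xm * (xm - 1)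
      rw [sub_mul, mul_sub, one_mul, mul_one]
    · show (xm - 1) 0 0 ≠ 0
      rw [Matrix.sub_apply, Matrix.one_apply_eq, hxm, mon_apply, if_neg h0, zero_sub]
      exact neg_ne_zero.2 one_ne_zero
    · show (xm - 1) 0 (0 + k) ≠ 0
      rw [Matrix.sub_apply, Matrix.one_apply_ne h0, hxm, mon_apply, if_pos rfl, sub_zero]
      exact Units.ne_zero _

end Cases

section Main

variable {F : Type*} [Field F] [Fintype F] {p : ℕ} [hpf : Fact p.Prime]

theorem factorization_card (hp2 : p ≠ 2) (h1 : p ∣ Fintype.card F - 1)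
    (h2 : ¬ p ^ 2 ∣ Fintype.card F - 1) :
    (Nat.card (GL (Fin p) F)).factorization p = p + 1 := by
  classical
  have hp : p.Prime := hpf.out
  set q := Fintype.card F with hq
  have hq1 : 1 < q := Fintype.one_lt_card
  have hq0 : q - 1 ≠ 0 := by omega
  have hpq : ¬ p ∣ q := by
    intro h
    have h3 : p ∣ q - (q - 1) := Nat.dvd_sub h h1
    have h4 : q - (q - 1) = 1 := by omega
    rw [h4] at h3
    exact hp.one_lt.ne' (Nat.dvd_one.1 h3)
  have hodd : Odd p := hp.odd_of_ne_two hp2
  have hv1 : padicValNat p (q - 1) = 1 := by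
    have h3 : 1 ≤ padicValNat p (q - 1) := (padicValNat_dvd_iff_le hq0).1 (by simpa using h1)
    have h4 : ¬ 2 ≤ padicValNat p (q - 1) := fun h => h2 ((padicValNat_dvd_iff_le hq0).2 h)
    omega
  have hne : ∀ i : Fin p, q ^ p - q ^ (i : ℕ) ≠ 0 := by
    intro i
    have := Nat.pow_lt_pow_right hq1 i.2
    omega
  have hval : ∀ i : Fin p, (q ^ p - q ^ (i : ℕ)).factorization p
      = 1 + (if (i : ℕ) = 0 then 1 else 0) := by
    intro i
    rw [Nat.factorization_def _ hp]
    have hilt : (i : ℕ) ≤ p := i.2.le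
    have hfac : q ^ p - q ^ (i : ℕ) = q ^ (i : ℕ) * (q ^ (p - i) - 1 ^ (p - i)) := by
      rw [one_pow, Nat.mul_sub, mul_one, ← pow_add, Nat.add_sub_cancel' hilt]
    have hn : p - (i : ℕ) ≠ 0 := by
      have := i.2
      omega
    have hsub : q ^ (p - (i : ℕ)) - 1 ^ (p - (i : ℕ)) ≠ 0 := by
      rw [one_pow]
      have := Nat.one_lt_pow hn hq1
      omega
    rw [hfac, padicValNat.mul (pow_ne_zero _ (by omega)) hsub,
      padicValNat.eq_zero_of_not_dvd (fun h => hpq (hp.dvd_of_dvd_pow h)), zero_add,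
      padicValNat.pow_sub_pow hodd hq1 h1 hpq hn, hv1]
    congr 1
    by_cases hi : (i : ℕ) = 0
    · rw [hi, if_pos rfl, Nat.sub_zero, padicValNat.self hp.one_lt]
    · rw [if_neg hi]
      apply padicValNat.eq_zero_of_not_dvd
      intro h
      have h3 := Nat.le_of_dvd (by omega) h
      omega
  rw [Matrix.card_GL_field, Nat.factorization_prod (fun i _ => hne i), Finsupp.finset_sum_apply,
    Finset.sum_congr rfl (fun i _ => hval i), Finset.sum_add_distrib]
  simp only [Finset.sum_const, Finset.card_univ, Fintype.card_fin, smul_eq_mul, mul_one]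
  congr 1
  haveI : NeZero p := ⟨hp.ne_zero⟩
  rw [Finset.sum_eq_single (0 : Fin p)]
  · simp
  · intro b _ hb
    have : (b : ℕ) ≠ 0 := fun h => hb (Fin.ext (by simpa using h))
    simp [this]
  · simp

theorem main_redundant (hp2 : p ≠ 2) (h1 : p ∣ Fintype.card F - 1)
    (h2 : ¬ p ^ 2 ∣ Fintype.card F - 1) :
    ∃ Q : Sylow p (GL (Fin p) F), ∀ x : GL (Fin p) F,
      (∃ k : ℕ, orderOf x = p ^ k) → ∃ P : Sylow p (GL (Fin p) F), P ≠ Q ∧ x ∈ P := by
  classical
  have hp : p.Prime := hpf.out
  haveI : NeZero p := ⟨hp.ne_zero⟩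
  have hcu : p ∣ Nat.card Fˣ := by
    rw [Nat.card_eq_fintype_card, Fintype.card_units]
    exact h1
  obtain ⟨ζ, hζ⟩ := exists_prime_orderOf_dvd_card' p hcu
  have hprim : IsPrimitiveRoot ζ p := by
    rw [← hζ]
    exact IsPrimitiveRoot.orderOf ζ
  have hμ : Nat.card (rootsOfUnity p F) = p := hprim.card_rootsOfUnity'
  have hcard : Nat.card (Q0 F p) = p ^ (Nat.card (GL (Fin p) F)).factorization p := by
    rw [card_Q0 hμ, factorization_card hp2 h1 h2]
  let Q : Sylow p (GL (Fin p) F) := Sylow.ofCard (Q0 F p) hcard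
  have hQ : (Q : Subgroup (GL (Fin p) F)) = Q0 F p := Sylow.coe_ofCard _ hcard
  refine ⟨Q, fun x hx => ?_⟩
  by_cases hxQ : x ∈ Q0 F p
  · have hg : ∃ g : GL (Fin p) F, g⁻¹ * x * g ∈ Q0 F p ∧
        ∃ i j j', j ≠ j' ∧ (g : Matrix (Fin p) (Fin p) F) i j ≠ 0 ∧
          (g : Matrix (Fin p) (Fin p) F) i j' ≠ 0 := by
      obtain ⟨d, k, hd, rfl⟩ := hxQ
      by_cases hk : k = 0
      · subst hk
        by_cases hinj : Function.Injective d
        · exact case_inj hp d hd hinj
        · obtain ⟨a, b, hab, hne⟩ : ∃ a b, d a = d b ∧ a ≠ b := by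
            simpa [Function.Injective] using hinj
          obtain ⟨g, hg1, hg2⟩ := case_noninj (F := F) d hne hab
          refine ⟨g, ?_, hg2⟩
          rw [hg1]
          exact ⟨d, 0, hd, rfl⟩
      · obtain ⟨g, hg1, hg2⟩ := case_nondiag hp hp2 ζ hζ d hk
        refine ⟨g, ?_, hg2⟩
        rw [hg1]
        exact ⟨d, k, hd, rfl⟩
    obtain ⟨g, hg1, i, j, j', hjj, hi1, hi2⟩ := hg
    refine ⟨g • Q, ?_, ?_⟩
    · intro h
      have hnorm : g ∈ Subgroup.normalizer ((Q : Subgroup (GL (Fin p) F)) : Set (GL (Fin p) F)) :=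
        Sylow.smul_eq_iff_mem_normalizer.1 h
      rw [hQ] at hnorm
      apply hjj
      refine row_unique hp hp2 ζ hζ g (fun A hA => ?_) i j j' hi1 hi2
      exact (Subgroup.mem_normalizer_iff.1 hnorm A).1 hA
    · show x ∈ ((g • Q : Sylow p (GL (Fin p) F)) : Subgroup (GL (Fin p) F))
      rw [Sylow.coe_subgroup_smul, Cfsg.Agent.Lib.Struct.mem_conj_smul, hQ]
      exact hg1
  · obtain ⟨k, hk⟩ := hx
    have hpg : IsPGroup p (Subgroup.zpowers x) := by
      apply IsPGroup.of_card (n := k)
      rw [Nat.card_zpowers, hk]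
    obtain ⟨P, hP⟩ := hpg.exists_le_sylow
    have hxP : x ∈ (P : Subgroup (GL (Fin p) F)) := hP (Subgroup.mem_zpowers x)
    refine ⟨P, ?_, hxP⟩
    intro h
    rw [h, hQ] at hxP
    exact hxQ hxP

end Main

end Cfsg.Agent.Lib.Struct.RedGL
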