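import Mathlib
import Cfsg.Agent.Lib.Known.Tori
import Cfsg.Agent.Lib.Known.Discrete4
import Cfsg.Agent.Lib.Known.SL2ClassesOdd
import Cfsg.Agent.Lib.Struct.SylowTwoP
import Cfsg.Agent.Lib.Struct.Eigen
import Cfsg.Agent.Lib.Struct.Basic

/-!
# Redundant Sylow subgroups of `SL(2, F)`.
-/

set_option autoImplicit false

namespace Cfsg.Agent.Lib.Struct.RedSL2

open Cfsg.Agent.Lib.Known Matrix

variable {F : Type*} [Field F] [Fintype F]

/-- Tori of `SL₂(F)`. -/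
structure Tor (T : Subgroup (SL2 F)) : Prop where
  comm : ∀ a ∈ T, ∀ b ∈ T, a * b = b * a
  cen : ∀ x ∈ T, ¬ m2Scalar (x : Matrix (Fin 2) (Fin 2) F) →
    Subgroup.centralizer ({x} : Set (SL2 F)) = T
  inv : ∀ y ∈ Subgroup.normalizer (T : Set (SL2 F)), y ∉ T → ∀ a ∈ T, y * a * y⁻¹ = a⁻¹
  card : Nat.card T = Fintype.card F - 1 ∨ Nat.card T = Fintype.card F + 1

theorem tor_noEig (h2 : (2 : F) ≠ 0) {g : SL2 F} (hg : sl2NoEig g) :
    Tor (Subgroup.centralizer ({g} : Set (SL2 F))) := by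
  obtain ⟨w, hw⟩ := exists_inverting hg
  refine ⟨fun a ha b hb => centralizer_comm hg ha hb, fun x hx hs => centralizer_eq_of_mem hg hx hs,
    fun y hy hy' a ha => (torusData_noEig h2 hg hw).outside_inv hy hy' ha,
    Or.inr (card_centralizer_noEig hg)⟩

theorem tor_diag (h2 : (2 : F) ≠ 0) {d : SL2 F} (hd : d ∈ sl2Diag F)
    (ha : (d : Matrix (Fin 2) (Fin 2) F) 0 0 ^ 2 ≠ 1) : Tor (sl2Diag F) := by
  refine ⟨fun a ha b hb => sl2Diag_comm ha hb, fun x hx hs => ?_,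
    fun y hy hy' a ha' => (torusData_sl2Diag h2 hd ha).outside_inv hy hy' ha',
    Or.inl card_sl2Diag⟩
  apply centralizer_eq_sl2Diag hx
  intro h
  apply hs
  refine ⟨hx.1, hx.2, ?_⟩
  have hu := sl2Diag_unit hx
  have h3 : (x : Matrix (Fin 2) (Fin 2) F) 0 0 ≠ 0 := by
    intro h0
    rw [h0] at hu
    simp at hu
  apply mul_left_cancel₀ h3
  rw [hu, ← pow_two, h]

theorem scalar_comm {x : SL2 F} (h : m2Scalar (x : Matrix (Fin 2) (Fin 2) F)) (y : SL2 F) :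
    x * y = y * x := by
  obtain ⟨h1, h2, h3⟩ := h
  apply sl2_ext <;> simp [sl2_mul_apply, h1, h2, h3] <;> ring

theorem not_scalar_of_conj {a g : SL2 F} (h : ¬ m2Scalar ((g * a * g⁻¹ : SL2 F) : Matrix (Fin 2) (Fin 2) F)) :
    ¬ m2Scalar (a : Matrix (Fin 2) (Fin 2) F) := by
  intro hs
  apply h
  have : g * a * g⁻¹ = a := by
    rw [← scalar_comm hs g]
    group
  rw [this]
  exact hs

theorem not_scalar_conj {a g : SL2 F} (h : ¬ m2Scalar (a : Matrix (Fin 2) (Fin 2) F)) :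
    ¬ m2Scalar ((g * a * g⁻¹ : SL2 F) : Matrix (Fin 2) (Fin 2) F) := by
  intro hs
  apply h
  have h1 := scalar_comm hs g
  have : a = g * a * g⁻¹ := by
    have h3 : g⁻¹ * (g * a * g⁻¹) * g = g * a * g⁻¹ := by
      rw [mul_assoc g⁻¹, h1, inv_mul_cancel_left]
    calc a = g⁻¹ * (g * a * g⁻¹) * g := by group
      _ = _ := h3
  rw [this]
  exact hs

theorem centralizer_conj (a g : SL2 F) :
    Subgroup.centralizer ({g * a * g⁻¹} : Set (SL2 F))
      = (Subgroup.centralizer ({a} : Set (SL2 F))).map (MulAut.conj g).toMonoidHom := by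
  ext x
  constructor
  · intro hx
    rw [Subgroup.mem_centralizer_singleton_iff] at hx
    refine ⟨g⁻¹ * x * g, ?_, by simp [MulAut.conj_apply]; group⟩
    rw [SetLike.mem_coe, Subgroup.mem_centralizer_singleton_iff]
    calc g⁻¹ * x * g * a = g⁻¹ * (x * (g * a * g⁻¹)) * g := by group
      _ = g⁻¹ * ((g * a * g⁻¹) * x) * g := by rw [hx]
      _ = _ := by group
  · rintro ⟨b, hb, rfl⟩
    rw [SetLike.mem_coe, Subgroup.mem_centralizer_singleton_iff] at hb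
    rw [Subgroup.mem_centralizer_singleton_iff]
    show g * b * g⁻¹ * (g * a * g⁻¹) = g * a * g⁻¹ * (g * b * g⁻¹)
    calc g * b * g⁻¹ * (g * a * g⁻¹) = g * (b * a) * g⁻¹ := by group
      _ = g * (a * b) * g⁻¹ := by rw [hb]
      _ = _ := by group

theorem Tor.map {T : Subgroup (SL2 F)} (hT : Tor T) (g : SL2 F) :
    Tor (T.map (MulAut.conj g).toMonoidHom) := by
  refine ⟨?_, ?_, ?_, ?_⟩
  · rintro _ ⟨a, ha, rfl⟩ _ ⟨b, hb, rfl⟩
    show g * a * g⁻¹ * (g * b * g⁻¹) = g * b * g⁻¹ * (g * a * g⁻¹)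
    calc g * a * g⁻¹ * (g * b * g⁻¹) = g * (a * b) * g⁻¹ := by group
      _ = g * (b * a) * g⁻¹ := by rw [hT.comm a ha b hb]
      _ = _ := by group
  · rintro _ ⟨a, ha, rfl⟩ hs
    have hs' : ¬ m2Scalar ((g * a * g⁻¹ : SL2 F) : Matrix (Fin 2) (Fin 2) F) := hs
    have : (MulAut.conj g).toMonoidHom a = g * a * g⁻¹ := rfl
    rw [this, centralizer_conj, hT.cen a ha (not_scalar_of_conj hs')]
  · intro y hy hy' _ ha'
    obtain ⟨a, ha, rfl⟩ := ha'
    have hy1 : g⁻¹ * y * g ∈ Subgroup.normalizer (T : Set (SL2 F)) := by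
      rw [Subgroup.mem_normalizer_iff] at hy ⊢
      intro z
      constructor
      · intro hz
        have h1 : (MulAut.conj g).toMonoidHom z ∈ T.map (MulAut.conj g).toMonoidHom := ⟨z, hz, rfl⟩
        have h2 := (hy _).1 h1
        obtain ⟨c, hc, hce⟩ := h2
        have : g⁻¹ * y * g * z * (g⁻¹ * y * g)⁻¹ = c := by
          have hce' : g * c * g⁻¹ = y * (g * z * g⁻¹) * y⁻¹ := hce
          calc g⁻¹ * y * g * z * (g⁻¹ * y * g)⁻¹ = g⁻¹ * (y * (g * z * g⁻¹) * y⁻¹) * g := by group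
            _ = g⁻¹ * (g * c * g⁻¹) * g := by rw [hce']
            _ = c := by group
        rw [this]
        exact hc
      · intro hz
        have h1 : (MulAut.conj g).toMonoidHom (g⁻¹ * y * g * z * (g⁻¹ * y * g)⁻¹) ∈ T.map (MulAut.conj g).toMonoidHom :=
          ⟨_, hz, rfl⟩
        have e : (MulAut.conj g).toMonoidHom (g⁻¹ * y * g * z * (g⁻¹ * y * g)⁻¹) = y * (g * z * g⁻¹) * y⁻¹ := by
          show g * (g⁻¹ * y * g * z * (g⁻¹ * y * g)⁻¹) * g⁻¹ = _
          group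
        rw [e] at h1
        have h2 := (hy _).2 h1
        obtain ⟨c, hc, hce⟩ := h2
        have hce' : g * c * g⁻¹ = g * z * g⁻¹ := hce
        have : c = z := by
          calc c = g⁻¹ * (g * c * g⁻¹) * g := by group
            _ = g⁻¹ * (g * z * g⁻¹) * g := by rw [hce']
            _ = z := by group
        rwa [← this]
    have hy2 : g⁻¹ * y * g ∉ T := by
      intro h
      apply hy'
      refine ⟨_, h, ?_⟩
      show g * (g⁻¹ * y * g) * g⁻¹ = y
      group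
    have h3 := hT.inv _ hy1 hy2 a ha
    show y * (g * a * g⁻¹) * y⁻¹ = (g * a * g⁻¹)⁻¹
    calc y * (g * a * g⁻¹) * y⁻¹ = g * ((g⁻¹ * y * g) * a * (g⁻¹ * y * g)⁻¹) * g⁻¹ := by group
      _ = g * a⁻¹ * g⁻¹ := by rw [h3]
      _ = _ := by group
  · have : Nat.card (T.map (MulAut.conj g).toMonoidHom) = Nat.card T :=
      Subgroup.card_map_of_injective (MulAut.conj g).injective
    rw [this]
    exact hT.card

theorem tor_centralizer (h2 : (2 : F) ≠ 0) (x : SL2 F)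
    (hs : ¬ m2Scalar (x : Matrix (Fin 2) (Fin 2) F)) (ht : sl2Tr x ^ 2 ≠ 4) :
    Tor (Subgroup.centralizer ({x} : Set (SL2 F))) := by
  classical
  by_cases hne : sl2NoEig x
  · exact tor_noEig h2 hne
  obtain ⟨g, a, v, e⟩ := sl2_exists_conj_borelMk hne
  have hinva : ((a⁻¹ : Fˣ) : F) * a = 1 := by simp
  have htr : sl2Tr x = (a : F) + ((a⁻¹ : Fˣ) : F) := by
    have h1 : sl2Tr x = sl2Tr (sl2BorelMk a v) := by
      simp only [sl2Tr]
      apply sl2_trace_of_isConj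
      rw [isConj_iff]
      refine ⟨g⁻¹, ?_⟩
      rw [← e]
      group
    rw [h1, sl2Tr_eq]
    simp [sl2BorelMk]
  have ha : (a : F) ^ 2 ≠ 1 := by
    intro h
    apply ht
    have h3 : ((a⁻¹ : Fˣ) : F) = a := by
      have h4 : ((a⁻¹ : Fˣ) : F) * (a : F) ^ 2 = a := by
        rw [pow_two, ← mul_assoc, hinva, one_mul]
      rw [h, mul_one] at h4
      exact h4
    rw [htr, h3]
    linear_combination 4 * h
  obtain ⟨c, hc⟩ := isConj_iff.mp (sl2BorelMk_isConj a ha v)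
  let d := sl2BorelMk a 0
  have hd : d ∈ sl2Diag F := by
    rw [mem_sl2Diag]
    simp [d, sl2BorelMk]
  have hd00 : (d : Matrix (Fin 2) (Fin 2) F) 0 0 ^ 2 ≠ 1 := by
    simpa [d, sl2BorelMk] using ha
  have hxd : x = (g * c⁻¹) * d * (g * c⁻¹)⁻¹ := by
    have h3 : sl2BorelMk a v = c⁻¹ * d * c := by
      show _ = c⁻¹ * sl2BorelMk a 0 * c
      rw [← hc]
      group
    calc x = g * (g⁻¹ * x * g) * g⁻¹ := by group
      _ = g * (c⁻¹ * d * c) * g⁻¹ := by rw [e, h3]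
      _ = _ := by group
  rw [hxd, centralizer_conj, centralizer_eq_sl2Diag hd hd00]
  exact (tor_diag h2 hd hd00).map _

theorem tr_sq_ne (h2 : (2 : F) ≠ 0) (x : SL2 F) (hs : ¬ m2Scalar (x : Matrix (Fin 2) (Fin 2) F))
    (k : ℕ) (hk : orderOf x = 2 ^ k) : sl2Tr x ^ 2 ≠ 4 := by
  intro ht
  obtain ⟨e, b, hb, hc⟩ := sl2_exists_conj_of_trace_sq x h2 hs ht
  have hkpos : k ≠ 0 := by
    rintro rfl
    rw [pow_zero, orderOf_eq_one_iff] at hk
    apply hs
    rw [hk]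
    simp [m2Scalar]
  have h1 : x ^ 2 ^ k = 1 := by
    rw [← hk]
    exact pow_orderOf_eq_one x
  obtain ⟨c, hc'⟩ := isConj_iff.mp hc
  have h3 : (sl2Z e * sl2U b) ^ 2 ^ k = 1 := by
    rw [← hc', conj_pow, h1]
    group
  have hcomm : Commute (sl2Z e) (sl2U b) := sl2Z_comm e _
  rw [hcomm.mul_pow, sl2U_pow] at h3
  have h4 : sl2Z e ^ 2 ^ k = 1 := by
    obtain ⟨m, rfl⟩ : ∃ m, k = m + 1 := ⟨k - 1, by omega⟩
    rw [pow_succ 2 m, mul_comm, pow_mul, pow_two, sl2Z_sq, one_pow]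
  rw [h4, one_mul] at h3
  have h5 : sl2U (((2 ^ k : ℕ) : F) * b) = sl2U (0 : F) := by
    rw [h3]
    apply sl2_ext <;> simp [sl2U]
  have h6 := sl2U_injective h5
  rcases mul_eq_zero.1 h6 with h7 | h7
  · rw [Nat.cast_pow, Nat.cast_two] at h7
    exact pow_ne_zero _ h2 h7
  · exact hb h7

end Cfsg.Agent.Lib.Struct.RedSL2
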