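import Mathlib
import Cfsg.Agent.Lib.Struct.RedSL2
import Cfsg.Agent.Lib.Struct.MaxNil
import Cfsg.Agent.Lib.Known.McKayN

/-!
# Redundant Sylow subgroups of `SL(2, F)` and of its central quotient.
-/

set_option autoImplicit false

namespace Cfsg.Agent.Lib.Struct.RedSL2

open Cfsg.Agent.Lib.Known Matrix
open scoped Pointwise

section general

variable {G : Type*} [Group G] [Finite G] {p : ℕ} [hp : Fact p.Prime]

/-- A central element of `p`-power order lies in all Sylow `p`-subgroups. -/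
theorem mem_sylow_of_central {z : G} (hz : ∀ y : G, z * y = y * z) (k : ℕ) (hk : orderOf z = p ^ k)
    (P : Sylow p G) : z ∈ P := by
  have h1 : IsPGroup p (Subgroup.zpowers z) := by
    apply IsPGroup.of_card (n := k)
    rw [Nat.card_zpowers, hk]
  have h2 := h1.inf_normalizer_sylow P
  have h3 : z ∈ Subgroup.zpowers z ⊓ Subgroup.normalizer (P : Set G) := by
    refine ⟨Subgroup.mem_zpowers z, ?_⟩
    have h4 : z ∈ Subgroup.normalizer ((P : Subgroup G) : Set G) := by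
      rw [Subgroup.mem_normalizer_iff]
      intro y
      have : z * y * z⁻¹ = y := by rw [hz y]; group
      rw [this]
    exact h4
  rw [h2] at h3
  exact h3.2

/-- If an element lies in a unique Sylow subgroup, then so do suitable elements of all Sylow
subgroups. -/
theorem no_redundant {Q₀ : Sylow p G} {x₀ : G} (hx₀ : ∃ k, orderOf x₀ = p ^ k)
    (h : ∀ P : Sylow p G, x₀ ∈ P → P = Q₀) (Q : Sylow p G) :
    ¬ ∀ x : G, (∃ k : ℕ, orderOf x = p ^ k) → ∃ P : Sylow p G, P ≠ Q ∧ x ∈ P := by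
  intro hred
  obtain ⟨g, rfl⟩ := MulAction.exists_smul_eq G Q₀ Q
  have h1 : ∃ k : ℕ, orderOf (g * x₀ * g⁻¹) = p ^ k := by
    obtain ⟨k, hk⟩ := hx₀
    refine ⟨k, ?_⟩
    rw [← hk]
    exact Struct.orderOf_conj g x₀
  obtain ⟨P, hne, hP⟩ := hred _ h1
  apply hne
  have h2 : x₀ ∈ g⁻¹ • P := by
    have : ((g⁻¹ • P : Sylow p G) : Subgroup G) = MulAut.conj g⁻¹ • (P : Subgroup G) :=
      Sylow.coe_subgroup_smul
    show x₀ ∈ ((g⁻¹ • P : Sylow p G) : Subgroup G)
    rw [this, Struct.mem_conj_smul]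
    have e : g⁻¹⁻¹ * x₀ * g⁻¹ = g * x₀ * g⁻¹ := by group
    rw [e]
    exact hP
  have h3 := h _ h2
  rw [← h3, smul_smul]
  simp

/-- A Sylow subgroup with a cyclic Sylow subgroup. -/
theorem unique_of_cyclic (Q : Sylow p G) (hc : IsCyclic Q) :
    ∃ (Q₀ : Sylow p G) (x₀ : G), (∃ k, orderOf x₀ = p ^ k) ∧ ∀ P : Sylow p G, x₀ ∈ P → P = Q₀ := by
  obtain ⟨x, hx⟩ := hc
  refine ⟨Q, x, ?_, ?_⟩
  · obtain ⟨k, hk⟩ := (IsPGroup.iff_orderOf.mp Q.2) x
    exact ⟨k, by rw [← hk, Subgroup.orderOf_coe]⟩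
  · intro P hP
    have hle : (P : Subgroup G) ≥ Q := by
      intro y hy
      obtain ⟨n, hn⟩ := hx ⟨y, hy⟩
      have : (x : G) ^ n = y := congrArg Subtype.val hn
      rw [← this]
      exact Subgroup.zpow_mem _ hP n
    apply Sylow.ext
    exact Q.3 P.2 hle

theorem exists_cyclic_sylow (T : Subgroup G) (hc : IsCyclic T) (hi : ¬ p ∣ T.index) :
    ∃ Q : Sylow p G, IsCyclic Q := by
  let S' : Sylow p T := Classical.arbitrary _
  have h1 : IsPGroup p ((S' : Subgroup T).map T.subtype) := S'.2.map _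
  have h2 : ¬ p ∣ ((S' : Subgroup T).map T.subtype).index := by
    rw [Subgroup.index_map_subtype]
    intro h
    rcases (hp.out.dvd_mul).1 h with h | h
    · exact S'.not_dvd_index h
    · exact hi h
  obtain ⟨Q, hQ⟩ := Struct.sylow_of_not_dvd_index h1 h2
  refine ⟨Q, ?_⟩
  haveI : IsCyclic (S' : Subgroup T) := inferInstance
  have e : ((S' : Subgroup T).map T.subtype) ≃* (S' : Subgroup T) :=
    (Subgroup.equivMapOfInjective _ _ T.subtype_injective).symm
  rw [show (Q : Subgroup G) = _ from hQ] 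
  exact isCyclic_of_surjective e.symm e.symm.surjective

theorem unique_of_torus {T : Subgroup G} {w z : G} (D : TorusData T w z) (hcyc : IsCyclic T)
    (k : ℕ) (hT : Nat.card T = p ^ k) (hp2 : p = 2) (r : ℕ) (hr : ¬ p ∣ r)
    (hG : Nat.card G = 2 * Nat.card T * r) :
    ∃ (Q₀ : Sylow p G) (x₀ : G), (∃ k, orderOf x₀ = p ^ k) ∧ ∀ P : Sylow p G, x₀ ∈ P → P = Q₀ := by
  subst hp2
  have hN : Nat.card (Subgroup.normalizer (T : Set G)) = 2 ^ (k + 1) := by
    rw [D.card_normalizer, hT, pow_succ]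
    ring
  have h1 : IsPGroup 2 (Subgroup.normalizer (T : Set G)) := IsPGroup.of_card hN
  have h2 : (Subgroup.normalizer (T : Set G)).index = r := by
    have h3 := Subgroup.card_mul_index (Subgroup.normalizer (T : Set G))
    rw [D.card_normalizer, hG] at h3
    exact Nat.eq_of_mul_eq_mul_left (by have : 0 < Nat.card T := Nat.card_pos; omega) h3
  obtain ⟨Q, hQ⟩ := Struct.sylow_of_not_dvd_index h1 (by rw [h2]; exact hr)
  obtain ⟨x, hx⟩ := hcyc
  have hxo : orderOf (x : G) = 2 ^ k := by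
    rw [Subgroup.orderOf_coe, orderOf_eq_card_of_forall_mem_zpowers hx, hT]
  refine ⟨Q, x, ⟨k, hxo⟩, fun P hP => ?_⟩
  have hle : T ≤ P := by
    intro y hy
    obtain ⟨n, hn⟩ := hx ⟨y, hy⟩
    have : (x : G) ^ n = y := congrArg Subtype.val hn
    rw [← this]
    exact Subgroup.zpow_mem _ hP n
  have hPc : Nat.card (P : Subgroup G) = 2 ^ (k + 1) := by
    have e1 := Sylow.card_eq_multiplicity P
    have e2 := Sylow.card_eq_multiplicity Q
    rw [e1, ← e2, hQ, hN]
  have h4 : (T.subgroupOf (P : Subgroup G)).index = 2 := by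
    have h5 := Subgroup.card_mul_index (T.subgroupOf (P : Subgroup G))
    have h6 : Nat.card (T.subgroupOf (P : Subgroup G)) = Nat.card T :=
      Nat.card_congr (Subgroup.subgroupOfEquivOfLe hle).toEquiv
    rw [h6, hT, hPc, pow_succ] at h5
    exact Nat.eq_of_mul_eq_mul_left (by positivity) h5
  haveI := Subgroup.normal_of_index_eq_two h4
  have hPN : (P : Subgroup G) ≤ Subgroup.normalizer (T : Set G) := by
    intro y hy
    rw [Subgroup.mem_normalizer_iff]
    intro a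
    constructor
    · intro ha
      have h7 : (⟨a, hle ha⟩ : P) ∈ T.subgroupOf (P : Subgroup G) := ha
      have h8 := (inferInstance : (T.subgroupOf (P : Subgroup G)).Normal).conj_mem _ h7 ⟨y, hy⟩
      exact h8
    · intro ha
      have hyi : (y⁻¹ : G) ∈ (P : Subgroup G) := Subgroup.inv_mem _ hy
      have h7 : (⟨y * a * y⁻¹, hle ha⟩ : P) ∈ T.subgroupOf (P : Subgroup G) := ha
      have h8 := (inferInstance : (T.subgroupOf (P : Subgroup G)).Normal).conj_mem _ h7 ⟨y⁻¹, hyi⟩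
      have h9 : y⁻¹ * (y * a * y⁻¹) * y⁻¹⁻¹ ∈ T := h8
      have e : y⁻¹ * (y * a * y⁻¹) * y⁻¹⁻¹ = a := by group
      rwa [e] at h9
  apply Sylow.ext
  have h10 : (P : Subgroup G) ≤ Q := by rw [hQ]; exact hPN
  exact (P.3 Q.2 h10).symm

end general

section quotient

variable {G : Type*} [Group G] [Finite G] {p : ℕ} [hp : Fact p.Prime] (N : Subgroup G) [N.Normal]
  (hN : N ≤ Subgroup.center G)

include hN

/-- `p`-elements of `P N` lie in `P`. -/
theorem mem_of_mk_mem (P : Sylow p G) {x : G} (k : ℕ) (hk : orderOf x = p ^ k)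
    (h : (QuotientGroup.mk x : G ⧸ N) ∈ (P : Subgroup G).map (QuotientGroup.mk' N)) : x ∈ P := by
  obtain ⟨a, ha, e⟩ := h
  have hz : a⁻¹ * x ∈ N := QuotientGroup.eq.mp e
  have hc := Subgroup.mem_center_iff.mp (hN hz)
  obtain ⟨m, hm⟩ := (IsPGroup.iff_orderOf.mp P.2) ⟨a, ha⟩
  have hm' : orderOf a = p ^ m := by rw [← hm]; exact (Subgroup.orderOf_mk _ _).symm
  have hcomm : Commute a⁻¹ x := by
    have h1 := hc x
    have : x * (a⁻¹ * x) = (a⁻¹ * x) * x := h1
    have h2 : x * a⁻¹ = a⁻¹ * x := mul_right_cancel (b := x) (by rw [mul_assoc, this, mul_assoc])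
    exact h2.symm
  have hpow : (a⁻¹ * x) ^ p ^ (m + k) = 1 := by
    rw [hcomm.mul_pow, inv_pow]
    have h1 : a ^ p ^ (m + k) = 1 := by
      rw [pow_add, pow_mul, ← hm', pow_orderOf_eq_one, one_pow]
    have h2 : x ^ p ^ (m + k) = 1 := by
      rw [pow_add, mul_comm, pow_mul, ← hk, pow_orderOf_eq_one, one_pow]
    rw [h1, h2, inv_one, one_mul]
  obtain ⟨i, _, hi⟩ := (Nat.dvd_prime_pow hp.out).1 (orderOf_dvd_of_pow_eq_one hpow)
  have h3 : a⁻¹ * x ∈ P := mem_sylow_of_central (fun y => (hc y).symm) i hi P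
  have h4 : x = a * (a⁻¹ * x) := by group
  rw [h4]
  exact Subgroup.mul_mem _ ha h3

theorem map_sylow_injective (P Q : Sylow p G)
    (h : (P : Subgroup G).map (QuotientGroup.mk' N) = (Q : Subgroup G).map (QuotientGroup.mk' N)) :
    P = Q := by
  apply Sylow.ext
  have hle : (P : Subgroup G) ≤ Q := by
    intro a ha
    obtain ⟨m, hm⟩ := (IsPGroup.iff_orderOf.mp P.2) ⟨a, ha⟩
    have hm' : orderOf a = p ^ m := by rw [← hm]; exact (Subgroup.orderOf_mk _ _).symm
    apply mem_of_mk_mem N hN Q m hm'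
    rw [← h]
    exact ⟨a, ha, rfl⟩
  exact (P.3 Q.2 hle).symm

/-- Redundant Sylow subgroups in central quotients. -/
theorem redundant_quotient_iff :
    (∃ Q : Sylow p G, ∀ x : G, (∃ k : ℕ, orderOf x = p ^ k) → ∃ P : Sylow p G, P ≠ Q ∧ x ∈ P) ↔
    (∃ Q : Sylow p (G ⧸ N), ∀ x : G ⧸ N, (∃ k : ℕ, orderOf x = p ^ k) →
      ∃ P : Sylow p (G ⧸ N), P ≠ Q ∧ x ∈ P) := by
  have hs : Function.Surjective (QuotientGroup.mk' N) := QuotientGroup.mk'_surjective N
  have hsur := Sylow.mapSurjective_surjective hs p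
  constructor
  · rintro ⟨Q, hQ⟩
    refine ⟨Q.mapSurjective hs, ?_⟩
    intro x hx
    obtain ⟨k, hk⟩ := hx
    -- lift `x` to a `p`-element
    have h1 : IsPGroup p (Subgroup.zpowers x) := by
      apply IsPGroup.of_card (n := k)
      rw [Nat.card_zpowers, hk]
    obtain ⟨S, hS⟩ := h1.exists_le_sylow
    obtain ⟨S₀, rfl⟩ := hsur S
    have h2 : x ∈ ((S₀.mapSurjective hs : Sylow p (G ⧸ N)) : Subgroup (G ⧸ N)) :=
      hS (Subgroup.mem_zpowers x)
    rw [Sylow.coe_mapSurjective] at h2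
    obtain ⟨y, hy, rfl⟩ := h2
    obtain ⟨m, hm⟩ := (IsPGroup.iff_orderOf.mp S₀.2) ⟨y, hy⟩
    have hm' : orderOf y = p ^ m := by rw [← hm]; exact (Subgroup.orderOf_mk _ _).symm
    obtain ⟨P, hne, hP⟩ := hQ y ⟨m, hm'⟩
    refine ⟨P.mapSurjective hs, ?_, ?_⟩
    · intro e
      apply hne
      apply map_sylow_injective N hN
      have := congrArg (fun R : Sylow p (G ⧸ N) => (R : Subgroup (G ⧸ N))) e
      simpa only [Sylow.coe_mapSurjective] using this
    · show QuotientGroup.mk' N y ∈ ((P.mapSurjective hs : Sylow p (G ⧸ N)) : Subgroup (G ⧸ N))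
      rw [Sylow.coe_mapSurjective]
      exact ⟨y, hP, rfl⟩
  · rintro ⟨Q, hQ⟩
    obtain ⟨Q₀, rfl⟩ := hsur Q
    refine ⟨Q₀, ?_⟩
    rintro x ⟨k, hk⟩
    have h1 : ∃ i : ℕ, orderOf (QuotientGroup.mk' N x) = p ^ i := by
      have h2 : orderOf (QuotientGroup.mk' N x) ∣ p ^ k := by
        rw [← hk]
        exact orderOf_map_dvd _ _
      obtain ⟨i, _, hi⟩ := (Nat.dvd_prime_pow hp.out).1 h2
      exact ⟨i, hi⟩
    obtain ⟨P, hne, hP⟩ := hQ _ h1
    obtain ⟨P₀, rfl⟩ := hsur P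
    refine ⟨P₀, ?_, ?_⟩
    · rintro rfl
      exact hne rfl
    · apply mem_of_mk_mem N hN P₀ k hk
      have : (QuotientGroup.mk' N x) ∈ ((P₀.mapSurjective hs : Sylow p (G ⧸ N)) : Subgroup (G ⧸ N)) := hP
      rw [Sylow.coe_mapSurjective] at this
      exact this

end quotient

section sl2

variable {F : Type*} [Field F] [Fintype F]

theorem card_odd_of (h2 : (2 : F) ≠ 0) : Odd (Fintype.card F) := by
  rw [Nat.odd_iff]
  apply FiniteField.odd_card_of_char_ne_two
  intro h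
  apply h2
  have := ringChar.Nat.cast_ringChar (R := F)
  rwa [h] at this

/-- The core: non-scalar `2`-elements are in several Sylow subgroups. -/
theorem exists_other_sylow (h2 : (2 : F) ≠ 0)
    (hq1 : ∃ r : ℕ, r.Prime ∧ Odd r ∧ r ∣ Fintype.card F - 1)
    (hq2 : ∃ r : ℕ, r.Prime ∧ Odd r ∧ r ∣ Fintype.card F + 1)
    (Q : Sylow 2 (SL2 F)) {x : SL2 F} (hx : x ∈ Q)
    (hs : ¬ m2Scalar (x : Matrix (Fin 2) (Fin 2) F)) :
    ∃ P : Sylow 2 (SL2 F), P ≠ Q ∧ x ∈ P := by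
  classical
  obtain ⟨k, hk⟩ := (IsPGroup.iff_orderOf.mp Q.2) ⟨x, hx⟩
  have hk' : orderOf x = 2 ^ k := by rw [← hk]; exact (Subgroup.orderOf_mk _ _).symm
  set T := Subgroup.centralizer ({x} : Set (SL2 F)) with hTdef
  have hT : Tor T := tor_centralizer h2 x hs (tr_sq_ne h2 x hs k hk')
  have hxT : x ∈ T := by
    rw [hTdef, Subgroup.mem_centralizer_singleton_iff]
  have hodd := card_odd_of h2
  obtain ⟨m, hm⟩ := hodd
  have hcardG : Nat.card (SL2 F) = (2 * m + 1) * ((2 * m) * (2 * m + 2)) := by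
    rw [card_sl2, hm]
    congr 1
    apply Nat.sub_eq_of_eq_add
    ring
  -- an odd prime element
  have hr : ∃ r : ℕ, r.Prime ∧ Odd r ∧ r ∣ Nat.card T := by
    rcases hT.card with h | h
    · rw [h]; exact hq1
    · rw [h]; exact hq2
  obtain ⟨r, hrp, hrodd, hrT⟩ := hr
  haveI : Fact r.Prime := ⟨hrp⟩
  obtain ⟨u', hu'⟩ := exists_prime_orderOf_dvd_card' r hrT
  have huo : orderOf (u' : SL2 F) = r := by rw [Subgroup.orderOf_coe, hu']
  set u : SL2 F := (u' : SL2 F) with hu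
  have huT : u ∈ T := u'.2
  -- `Q` is not in `T`
  have hQT : ¬ (Q : Subgroup (SL2 F)) ≤ T := by
    intro hle
    have h1 : Nat.card (Q : Subgroup (SL2 F)) ∣ Nat.card T := Subgroup.card_dvd_of_le hle
    have h3 : 2 * Nat.card T ∣ Nat.card (SL2 F) := by
      rw [hcardG]
      rcases hT.card with h | h
      · rw [h, hm]
        refine ⟨(2 * m + 1) * (m + 1), ?_⟩
        simp only [Nat.add_sub_cancel]
        ring
      · rw [h, hm]
        refine ⟨(2 * m + 1) * m, ?_⟩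
        ring
    have h4 : 2 * Nat.card (Q : Subgroup (SL2 F)) ∣ Nat.card (SL2 F) :=
      (Nat.mul_dvd_mul_left 2 h1).trans h3
    rw [Sylow.card_eq_multiplicity, ← pow_succ'] at h4
    exact Nat.pow_succ_factorization_not_dvd Nat.card_pos.ne' Nat.prime_two h4
  -- an element of `Q` normalizing `T`
  have hne : T.subgroupOf (Q : Subgroup (SL2 F)) ≠ ⊤ := by
    intro h
    exact hQT (Subgroup.subgroupOf_eq_top.mp h)
  haveI : Fact (Nat.Prime 2) := ⟨Nat.prime_two⟩
  haveI : Group.IsNilpotent (Q : Subgroup (SL2 F)) := Q.2.isNilpotent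
  have hlt := normalizerCondition_of_isNilpotent (G := (Q : Subgroup (SL2 F))) _ (lt_top_iff_ne_top.mpr hne)
  obtain ⟨y', hy', hy''⟩ := SetLike.exists_of_lt hlt
  set y : SL2 F := (y' : SL2 F) with hy
  have hyQ : y ∈ (Q : Subgroup (SL2 F)) := y'.2
  have hyT : y ∉ T := hy''
  have hconj : y * x * y⁻¹ ∈ T := by
    have h1 : (⟨x, hx⟩ : (Q : Subgroup (SL2 F))) ∈ T.subgroupOf (Q : Subgroup (SL2 F)) := hxT
    have h3 := (Subgroup.mem_normalizer_iff.mp hy' _).1 h1
    exact h3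
  have hTc : Subgroup.centralizer ({y * x * y⁻¹} : Set (SL2 F)) = T :=
    hT.cen _ hconj (not_scalar_conj hs)
  have hyN : y ∈ Subgroup.normalizer (T : Set (SL2 F)) := by
    apply Struct.Eigen.mem_normalizer_of_conj_mem
    intro a ha
    rw [← hTc, Subgroup.mem_centralizer_singleton_iff]
    have ha' : a * x = x * a := by
      rw [hTdef, Subgroup.mem_centralizer_singleton_iff] at ha
      exact ha
    calc y * a * y⁻¹ * (y * x * y⁻¹) = y * (a * x) * y⁻¹ := by group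
      _ = y * (x * a) * y⁻¹ := by rw [ha']
      _ = _ := by group
  have hinv : y * u * y⁻¹ = u⁻¹ := hT.inv y hyN hyT u huT
  -- conjugate `Q` by `u`
  refine ⟨u • Q, ?_, ?_⟩
  · intro e
    rw [Sylow.smul_eq_iff_mem_normalizer] at e
    have hu1 : u * y⁻¹ * u⁻¹ ∈ (Q : Subgroup (SL2 F)) :=
      (Subgroup.mem_normalizer_iff.mp e _).1 (Subgroup.inv_mem _ hyQ)
    have hw : u⁻¹ * u⁻¹ ∈ (Q : Subgroup (SL2 F)) := by
      have h1 := Subgroup.mul_mem _ hyQ hu1
      have e1 : y * (u * y⁻¹ * u⁻¹) = (y * u * y⁻¹) * u⁻¹ := by group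
      rwa [e1, hinv] at h1
    obtain ⟨i, hi⟩ := (IsPGroup.iff_orderOf.mp Q.2) ⟨_, hw⟩
    have hi' : orderOf (u⁻¹ * u⁻¹) = 2 ^ i := by rw [← hi]; exact (Subgroup.orderOf_mk _ _).symm
    have hpow : (u⁻¹ * u⁻¹) ^ r = 1 := by
      have h1 : u⁻¹ * u⁻¹ = (u ^ 2)⁻¹ := by group
      rw [h1, inv_pow, ← pow_mul, mul_comm, pow_mul, ← huo, pow_orderOf_eq_one, one_pow, inv_one]
    have h5 : 2 ^ i ∣ r := by
      rw [← hi']
      exact orderOf_dvd_of_pow_eq_one hpow
    have hi0 : i = 0 := by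
      by_contra hne0
      have h6 : 2 ∣ r := (dvd_pow_self 2 hne0).trans h5
      rcases hrodd with ⟨c, hc⟩
      omega
    rw [hi0, pow_zero, orderOf_eq_one_iff] at hi'
    have h7 : u ^ 2 = 1 := by
      have h8 : (u ^ 2)⁻¹ = 1 := by
        rw [← hi']
        group
      exact inv_eq_one.mp h8
    have h9 : r ∣ 2 := by
      rw [← huo]
      exact orderOf_dvd_of_pow_eq_one h7
    have := (Nat.prime_dvd_prime_iff_eq hrp Nat.prime_two).mp h9
    rcases hrodd with ⟨c, hc⟩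
    omega
  · show x ∈ ((u • Q : Sylow 2 (SL2 F)) : Subgroup (SL2 F))
    rw [Sylow.coe_subgroup_smul, Struct.mem_conj_smul]
    have hc : u * x = x * u := by
      have := huT
      rw [hTdef, Subgroup.mem_centralizer_singleton_iff] at this
      exact this
    have e : u⁻¹ * x * u = x := by
      rw [mul_assoc, ← hc]
      group
    rw [e]
    exact hx

/-- The direction `⟸`. -/
theorem exists_redundant (h2 : (2 : F) ≠ 0)
    (hq1 : ∃ r : ℕ, r.Prime ∧ Odd r ∧ r ∣ Fintype.card F - 1)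
    (hq2 : ∃ r : ℕ, r.Prime ∧ Odd r ∧ r ∣ Fintype.card F + 1) :
    ∃ Q : Sylow 2 (SL2 F), ∀ x : SL2 F, (∃ k : ℕ, orderOf x = 2 ^ k) →
      ∃ P : Sylow 2 (SL2 F), P ≠ Q ∧ x ∈ P := by
  classical
  haveI : Fact (Nat.Prime 2) := ⟨Nat.prime_two⟩
  let Q : Sylow 2 (SL2 F) := Classical.arbitrary _
  refine ⟨Q, ?_⟩
  rintro x ⟨k, hk⟩
  by_cases hxQ : x ∈ Q
  · by_cases hs : m2Scalar (x : Matrix (Fin 2) (Fin 2) F)
    · -- take a non-scalar element of `Q`
      obtain ⟨m, hm⟩ := card_odd_of h2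
      have hcardG : Nat.card (SL2 F) = (2 * m + 1) * ((2 * m) * (2 * m + 2)) := by
        rw [card_sl2, hm]
        congr 1
        apply Nat.sub_eq_of_eq_add
        ring
      have h4 : 2 ^ 3 ∣ Nat.card (SL2 F) := by
        rw [hcardG]
        have : 2 ^ 2 ∣ 2 * m * (2 * m + 2) := by
          refine ⟨m * (m + 1), ?_⟩
          ring
        obtain ⟨c, hc⟩ : 2 ∣ m * (m + 1) := (Nat.even_mul_succ_self m).two_dvd
        refine ⟨(2 * m + 1) * c, ?_⟩
        have e : 2 * m * (2 * m + 2) = 4 * (m * (m + 1)) := by ring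
        rw [e, hc]
        ring
      have h5 : 2 ^ 3 ∣ Nat.card (Q : Subgroup (SL2 F)) := Sylow.pow_dvd_card_of_pow_dvd_card Q h4
      have h6 : ∃ y ∈ (Q : Subgroup (SL2 F)), ¬ m2Scalar (y : Matrix (Fin 2) (Fin 2) F) := by
        by_contra hcon
        push Not at hcon
        have h7 : ∀ y ∈ (Q : Subgroup (SL2 F)), y = 1 ∨ y = sl2M1 F := fun y hy =>
          sl2_sq_one_odd h2 (sl2_scalar_sq (hcon y hy))
        have h8 : Nat.card (Q : Subgroup (SL2 F)) ≤ 2 := by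
          have hinj : Function.Injective (fun y : (Q : Subgroup (SL2 F)) =>
              (if (y : SL2 F) = 1 then 0 else 1 : Fin 2)) := by
            intro a b hab
            apply Subtype.ext
            simp only at hab
            rcases h7 a a.2 with ha | ha <;> rcases h7 b b.2 with hb | hb
            · rw [ha, hb]
            · by_cases h : (b : SL2 F) = 1
              · rw [ha, h]
              · rw [if_pos ha, if_neg h] at hab
                simp at hab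
            · by_cases h : (a : SL2 F) = 1
              · rw [h, hb]
              · rw [if_neg h, if_pos hb] at hab
                simp at hab
            · rw [ha, hb]
          have := Nat.card_le_card_of_injective _ hinj
          simpa using this
        have h9 := Nat.le_of_dvd Nat.card_pos h5
        omega
      obtain ⟨y, hyQ, hy⟩ := h6
      obtain ⟨P, hne, hP⟩ := exists_other_sylow h2 hq1 hq2 Q hyQ hy
      exact ⟨P, hne, mem_sylow_of_central (fun g => scalar_comm hs g) k hk P⟩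
    · exact exists_other_sylow h2 hq1 hq2 Q hxQ hs
  · have h1 : IsPGroup 2 (Subgroup.zpowers x) := by
      apply IsPGroup.of_card (n := k)
      rw [Nat.card_zpowers, hk]
    obtain ⟨S, hS⟩ := h1.exists_le_sylow
    have hxS : x ∈ S := hS (Subgroup.mem_zpowers x)
    refine ⟨S, ?_, hxS⟩
    rintro rfl
    exact hxQ hxS

/-- The Sylow subgroups in the defining characteristic. -/
theorem unique_char (p : ℕ) [hp : Fact p.Prime] (hc : (p : F) = 0) :
    ∃ (Q₀ : Sylow p (SL2 F)) (x₀ : SL2 F), (∃ k, orderOf x₀ = p ^ k) ∧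
      ∀ P : Sylow p (SL2 F), x₀ ∈ P → P = Q₀ := by
  classical
  obtain ⟨r, _, n, hpp, hn⟩ := FiniteField.card' F
  have hrp : r = p := by
    haveI : CharP F r := inferInstance
    have h1 : r ∣ p := (CharP.cast_eq_zero_iff F r p).mp hc
    exact (Nat.prime_dvd_prime_iff_eq hpp hp.out).mp h1
  subst hrp
  have hq2 : 1 < Fintype.card F := Fintype.one_lt_card
  obtain ⟨m, hm⟩ : ∃ m, Fintype.card F = m + 1 := ⟨Fintype.card F - 1, by omega⟩
  have hSp : IsPGroup r (sl2UG F) := IsPGroup.of_card (n := n) (by rw [card_sl2UG, hn])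
  have hdvd : r ∣ Fintype.card F := by
    rw [hn]
    exact dvd_pow_self _ n.ne_zero
  have hidx : ¬ r ∣ (sl2UG F).index := by
    have h1 := Subgroup.card_mul_index (sl2UG F)
    rw [card_sl2UG, card_sl2] at h1
    have h3 := Nat.eq_of_mul_eq_mul_left (by omega) h1
    rw [h3]
    intro h
    have h4 : r ∣ Fintype.card F ^ 2 := hdvd.trans (dvd_pow_self _ two_ne_zero)
    have h5 : r ∣ 1 := by
      have h6 : Fintype.card F ^ 2 - 1 + 1 = Fintype.card F ^ 2 :=
        Nat.sub_add_cancel (Nat.one_le_pow _ _ (by omega))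
      rw [← h6] at h4
      exact (Nat.dvd_add_right h).mp h4
    exact hpp.one_lt.ne' (Nat.dvd_one.mp h5)
  let P₀ : Sylow r (SL2 F) := hSp.toSylow hidx
  have hP₀ : (P₀ : Subgroup (SL2 F)) = sl2UG F := rfl
  have hx : sl2U (1 : F) ∈ (P₀ : Subgroup (SL2 F)) := ⟨1, rfl⟩
  refine ⟨P₀, sl2U 1, ?_, ?_⟩
  · obtain ⟨k, hk⟩ := (IsPGroup.iff_orderOf.mp P₀.2) ⟨_, hx⟩
    exact ⟨k, by rw [← hk]; exact (Subgroup.orderOf_mk _ _).symm⟩
  · intro P hP
    obtain ⟨g, rfl⟩ := MulAction.exists_smul_eq (SL2 F) P₀ P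
    have h1 : g⁻¹ * sl2U 1 * g ∈ sl2UG F := by
      have h3 : sl2U (1 : F) ∈ ((g • P₀ : Sylow r (SL2 F)) : Subgroup (SL2 F)) := hP
      rw [Sylow.coe_subgroup_smul, Struct.mem_conj_smul, hP₀] at h3
      exact h3
    obtain ⟨b, hb⟩ := h1
    have h2 := congrArg (fun z : SL2 F => (z : Matrix (Fin 2) (Fin 2) F) 1 0) hb
    simp only [sl2_mul_apply, sl2U_00, sl2U_01, sl2U_10, sl2U_11, sl2_inv_00, sl2_inv_10,
      sl2_inv_11, sl2_inv_01] at h2
    have h3 : (g : Matrix (Fin 2) (Fin 2) F) 1 0 ^ 2 = 0 := by linear_combination h2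
    have h4 : (g : Matrix (Fin 2) (Fin 2) F) 1 0 = 0 := pow_eq_zero_iff (two_ne_zero) |>.mp h3
    have h5 : g ∈ Subgroup.normalizer ((P₀ : Subgroup (SL2 F)) : Set (SL2 F)) := by
      rw [hP₀, normalizer_sl2UG, mem_sl2Borel_iff]
      exact h4
    exact (Sylow.smul_eq_iff_mem_normalizer).mpr h5

/-- Odd primes other than the characteristic: cyclic Sylow subgroups. -/
theorem unique_odd (p : ℕ) [hp : Fact p.Prime] (hc : (p : F) ≠ 0) (hodd : p ≠ 2) :
    ∃ (Q₀ : Sylow p (SL2 F)) (x₀ : SL2 F), (∃ k, orderOf x₀ = p ^ k) ∧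
      ∀ P : Sylow p (SL2 F), x₀ ∈ P → P = Q₀ := by
  classical
  have hq : ¬ p ∣ Fintype.card F := by
    intro h
    obtain ⟨r, _, n, hpp, hn⟩ := FiniteField.card' F
    rw [hn] at h
    have h1 : p = r := (Nat.prime_dvd_prime_iff_eq hp.out hpp).mp (hp.out.dvd_of_dvd_pow h)
    subst h1
    exact hc (CharP.cast_eq_zero F p)
  have hq2 : 1 < Fintype.card F := Fintype.one_lt_card
  obtain ⟨m, hm⟩ : ∃ m, Fintype.card F = m + 1 := ⟨Fintype.card F - 1, by omega⟩
  have hm0 : m ≠ 0 := by omega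
  have hcop : ¬ (p ∣ m ∧ p ∣ m + 2) := by
    rintro ⟨h1, h3⟩
    have h4 : p ∣ 2 := (Nat.dvd_add_right h1).mp h3
    exact hodd ((Nat.prime_dvd_prime_iff_eq hp.out Nat.prime_two).mp h4)
  have hG : Nat.card (SL2 F) = (m + 1) * (m * (m + 2)) := by
    rw [card_sl2, hm]
    congr 1
    apply Nat.sub_eq_of_eq_add
    ring
  by_cases h1 : p ∣ m + 2
  · obtain ⟨g₀, hg₀⟩ := exists_sl2NoEig (F := F)
    have hi : (Subgroup.centralizer ({g₀} : Set (SL2 F))).index = (m + 1) * m := by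
      have h3 := Subgroup.card_mul_index (Subgroup.centralizer ({g₀} : Set (SL2 F)))
      rw [card_centralizer_noEig hg₀, hG, hm] at h3
      apply Nat.eq_of_mul_eq_mul_left (show 0 < m + 1 + 1 by omega)
      rw [h3]
      ring
    obtain ⟨Q, hQ⟩ := exists_cyclic_sylow (p := p) _ (isCyclic_centralizer_noEig hg₀) (by
      rw [hi]
      intro h3
      rcases (hp.out.dvd_mul).1 h3 with h4 | h4
      · rw [hm] at hq
        exact hq h4
      · exact hcop ⟨h4, h1⟩)
    exact unique_of_cyclic Q hQ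
  · have hi : (sl2Diag F).index = (m + 1) * (m + 2) := by
      have h3 := Subgroup.card_mul_index (sl2Diag F)
      rw [card_sl2Diag, hG, hm, Nat.add_sub_cancel] at h3
      apply Nat.eq_of_mul_eq_mul_left (Nat.pos_of_ne_zero hm0)
      rw [h3]
      ring
    obtain ⟨Q, hQ⟩ := exists_cyclic_sylow (p := p) _ (isCyclic_sl2Diag (F := F)) (by
      rw [hi]
      intro h3
      rcases (hp.out.dvd_mul).1 h3 with h4 | h4
      · rw [hm] at hq
        exact hq h4
      · exact h1 h4)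
    exact unique_of_cyclic Q hQ

/-- `q = 2ᵏ + 1`. -/
theorem unique_two_split (h2 : (2 : F) ≠ 0) (k : ℕ) (hk : Fintype.card F = 2 ^ (k + 2) + 1) :
    ∃ (Q₀ : Sylow 2 (SL2 F)) (x₀ : SL2 F), (∃ k, orderOf x₀ = 2 ^ k) ∧
      ∀ P : Sylow 2 (SL2 F), x₀ ∈ P → P = Q₀ := by
  haveI : Fact (Nat.Prime 2) := ⟨Nat.prime_two⟩
  have hcard : Nat.card (sl2Diag F) = 2 ^ (k + 2) := by
    rw [card_sl2Diag, hk]
    simp
  haveI hcyc : IsCyclic (sl2Diag F) := isCyclic_sl2Diag
  obtain ⟨d, hd⟩ := IsCyclic.exists_ofOrder_eq_natCard (α := sl2Diag F)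
  have hd2 : ((d : SL2 F) : Matrix (Fin 2) (Fin 2) F) 0 0 ^ 2 ≠ 1 := by
    intro ha
    have h5 := sl2Diag_sq_eq_one d.2 ha
    have h6 : orderOf d ∣ 2 := by
      apply orderOf_dvd_of_pow_eq_one
      apply Subtype.ext
      rw [pow_two]
      exact h5
    rw [hd, hcard] at h6
    have h7 := Nat.le_of_dvd (by norm_num) h6
    have : 2 ^ 2 ≤ 2 ^ (k + 2) := Nat.pow_le_pow_right (by norm_num) (by omega)
    omega
  have D := torusData_sl2Diag h2 d.2 hd2
  refine unique_of_torus D hcyc (k + 2) hcard rfl ((2 ^ (k + 2) + 1) * (2 ^ (k + 1) + 1)) ?_ ?_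
  · intro h
    rcases (Nat.prime_two.dvd_mul).1 h with h | h
    · have e : 2 ^ (k + 2) = 2 * 2 ^ (k + 1) := by ring
      omega
    · have e : 2 ^ (k + 1) = 2 * 2 ^ k := by ring
      omega
  · rw [card_sl2, hcard, hk]
    have : (2 ^ (k + 2) + 1) ^ 2 - 1 = 2 ^ (k + 2) * (2 * (2 ^ (k + 1) + 1)) := by
      apply Nat.sub_eq_of_eq_add
      ring
    rw [this]
    ring

/-- `q = 2ᵏ - 1`. -/
theorem unique_two_nonsplit (h2 : (2 : F) ≠ 0) (k : ℕ) (hk : Fintype.card F + 1 = 2 ^ (k + 2)) :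
    ∃ (Q₀ : Sylow 2 (SL2 F)) (x₀ : SL2 F), (∃ k, orderOf x₀ = 2 ^ k) ∧
      ∀ P : Sylow 2 (SL2 F), x₀ ∈ P → P = Q₀ := by
  haveI : Fact (Nat.Prime 2) := ⟨Nat.prime_two⟩
  obtain ⟨g₀, hg₀⟩ := exists_sl2NoEig (F := F)
  obtain ⟨w, hw⟩ := exists_inverting hg₀
  have D := torusData_noEig h2 hg₀ hw
  have hcard : Nat.card (Subgroup.centralizer ({g₀} : Set (SL2 F))) = 2 ^ (k + 2) := by
    rw [card_centralizer_noEig hg₀, hk]
  obtain ⟨m, hm⟩ : ∃ m, Fintype.card F = m := ⟨_, rfl⟩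
  have e2 : 2 ^ (k + 2) = 2 * 2 ^ (k + 1) := by ring
  have e3 : 2 ^ (k + 1) = 2 * 2 ^ k := by ring
  have hk1 : 1 ≤ 2 ^ k := Nat.one_le_two_pow
  refine unique_of_torus D (isCyclic_centralizer_noEig hg₀) (k + 2) hcard rfl
    (Fintype.card F * (2 ^ (k + 1) - 1)) ?_ ?_
  · intro h
    rcases (Nat.prime_two.dvd_mul).1 h with h | h <;> omega
  · rw [card_sl2, hcard]
    obtain ⟨t, ht⟩ : ∃ t, 2 ^ (k + 1) = t + 1 := ⟨2 ^ (k + 1) - 1, by omega⟩
    have hq : Fintype.card F = 2 * t + 1 := by omega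
    have e4 : 2 ^ (k + 2) = 2 * (t + 1) := by omega
    rw [hq, e4, ht, Nat.add_sub_cancel]
    have : (2 * t + 1) ^ 2 - 1 = 2 * t * (2 * (t + 1)) := by
      apply Nat.sub_eq_of_eq_add
      ring
    rw [this]
    ring

/-- The main theorem for `SL₂`. -/
theorem redundant_sl2_iff (p : ℕ) [hp : Fact p.Prime] :
    (∃ Q : Sylow p (SL2 F), ∀ x : SL2 F,
        (∃ k : ℕ, orderOf x = p ^ k) → ∃ P : Sylow p (SL2 F), P ≠ Q ∧ x ∈ P) ↔
      (p = 2 ∧ (¬ ∃ k : ℕ, Fintype.card F + 1 = 2 ^ k) ∧ (¬ ∃ k : ℕ, Fintype.card F = 2 ^ k) ∧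
        ¬ ∃ k : ℕ, Fintype.card F = 2 ^ k + 1) := by
  classical
  have hq1 : 1 < Fintype.card F := Fintype.one_lt_card
  constructor
  · rintro ⟨Q, hQ⟩
    have hc : (p : F) ≠ 0 := by
      intro hc
      obtain ⟨Q₀, x₀, hx₀, h⟩ := unique_char (F := F) p hc
      exact no_redundant hx₀ h Q hQ
    have hp2 : p = 2 := by
      by_contra hodd
      obtain ⟨Q₀, x₀, hx₀, h⟩ := unique_odd (F := F) p hc hodd
      exact no_redundant hx₀ h Q hQ
    subst hp2
    have h2 : (2 : F) ≠ 0 := by exact_mod_cast hc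
    obtain ⟨m, hm⟩ := card_odd_of h2
    refine ⟨rfl, ?_, ?_, ?_⟩
    · rintro ⟨k, hk⟩
      have hk2 : 2 ≤ k := by
        by_contra hlt
        have hk3 : k = 0 ∨ k = 1 := by omega
        rcases hk3 with rfl | rfl <;> simp at hk <;> omega
      obtain ⟨j, rfl⟩ : ∃ j, k = j + 2 := ⟨k - 2, by omega⟩
      obtain ⟨Q₀, x₀, hx₀, h⟩ := unique_two_nonsplit h2 j hk
      exact no_redundant hx₀ h Q hQ
    · rintro ⟨k, hk⟩
      rcases k with _ | k
      · simp at hk
        omega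
      · rw [pow_succ] at hk
        omega
    · rintro ⟨k, hk⟩
      rcases k with _ | _ | k
      · simp at hk
        omega
      · -- `q = 3`
        have hk' : Fintype.card F + 1 = 2 ^ (0 + 2) := by
          rw [hk]
          norm_num
        obtain ⟨Q₀, x₀, hx₀, h⟩ := unique_two_nonsplit h2 0 hk'
        exact no_redundant hx₀ h Q hQ
      · obtain ⟨Q₀, x₀, hx₀, h⟩ := unique_two_split h2 k hk
        exact no_redundant hx₀ h Q hQ
  · rintro ⟨rfl, h1, h2', h3⟩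
    have h2 : (2 : F) ≠ 0 := by
      intro h
      have h4 : (((2 : ℕ) : F)) = 0 := by exact_mod_cast h
      obtain ⟨r, _, n, hpp, hn⟩ := FiniteField.card' F
      have h5 : r ∣ 2 := (CharP.cast_eq_zero_iff F r 2).mp h4
      have h6 := (Nat.prime_dvd_prime_iff_eq hpp Nat.prime_two).mp h5
      subst h6
      exact h2' ⟨n, hn⟩
    apply exists_redundant h2
    · rcases Nat.eq_two_pow_or_exists_odd_prime_and_dvd (Fintype.card F - 1) with ⟨k, hk⟩ | ⟨r, hr, hd, ho⟩
      · exact (h3 ⟨k, by omega⟩).elim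
      · exact ⟨r, hr, ho, hd⟩
    · rcases Nat.eq_two_pow_or_exists_odd_prime_and_dvd (Fintype.card F + 1) with ⟨k, hk⟩ | ⟨r, hr, hd, ho⟩
      · exact (h1 ⟨k, hk⟩).elim
      · exact ⟨r, hr, ho, hd⟩

end sl2

end Cfsg.Agent.Lib.Struct.RedSL2
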