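import Mathlib
import Cfsg.Agent.Lib.OddLocal.HallHigman
import Cfsg.Agent.Lib.Components.Basic
import Cfsg.Agent.Lib.Basic.Core
import Cfsg.Prelude.Def_Solvable

/-!
# Transvections over the field with two elements and the group `O_{2'}`
-/

set_option autoImplicit false

namespace Cfsg.Agent.Lib.Struct

open Cfsg

section

variable {V : Type*} [AddCommGroup V] [Module (ZMod 2) V]

theorem zmod2_add_self (u : V) : u + u = 0 := by
  have : (2 : ZMod 2) • u = 0 := by rw [show (2 : ZMod 2) = 0 from rfl, zero_smul]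
  rwa [two_smul] at this

theorem zmod2_sub (u v : V) : u - v = u + v := by
  rw [sub_eq_add_neg, neg_eq_of_add_eq_zero_left (zmod2_add_self v)]

theorem zmod2_eq_one {x : ZMod 2} (h : x ≠ 0) : x = 1 := by
  revert x
  decide

/-- `τ` is the transvection `v ↦ v + φ(v) a`. -/
structure IsTv (τ : V ≃ₗ[ZMod 2] V) (a : V) (φ : V →ₗ[ZMod 2] ZMod 2) : Prop where
  app : ∀ v, τ v = v + φ v • a
  zero : φ a = 0

theorem IsTv.conj {τ : V ≃ₗ[ZMod 2] V} {a : V} {φ : V →ₗ[ZMod 2] ZMod 2} (h : IsTv τ a φ) (k : V ≃ₗ[ZMod 2] V) :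
    IsTv (k * τ * k⁻¹) (k a) (φ.comp ((k⁻¹ : V ≃ₗ[ZMod 2] V) : V →ₗ[ZMod 2] V)) := by
  constructor
  · intro v
    show k (τ (k⁻¹ v)) = v + φ (k⁻¹ v) • k a
    rw [h.app, map_add, map_smul]
    congr 1
    exact k.apply_symm_apply v
  · show φ (k⁻¹ (k a)) = 0
    have : k⁻¹ (k a) = a := k.symm_apply_apply a
    rw [this, h.zero]

theorem IsTv.mul_pow_four {τ₁ τ₂ : V ≃ₗ[ZMod 2] V} {a₁ a₂ : V} {φ₁ φ₂ : V →ₗ[ZMod 2] ZMod 2}
    (h₁ : IsTv τ₁ a₁ φ₁) (h₂ : IsTv τ₂ a₂ φ₂) (h : φ₁ a₂ = 0) : (τ₁ * τ₂) ^ 4 = 1 := by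
  set s := τ₁ * τ₂ with hs
  have hsv : ∀ v, s v = v + φ₂ v • a₂ + φ₁ v • a₁ := by
    intro v
    show τ₁ (τ₂ v) = _
    rw [h₂.app, h₁.app, map_add, map_smul, h, smul_zero, add_zero]
  have hsa₂ : s a₂ = a₂ := by
    rw [hsv, h₂.zero, h, zero_smul, zero_smul, add_zero, add_zero]
  have hsa₁ : s a₁ = a₁ + φ₂ a₁ • a₂ := by
    rw [hsv, h₁.zero, zero_smul, add_zero]
  have hss : ∀ v, s (s v) = v + (φ₁ v * φ₂ a₁) • a₂ := by
    intro v
    rw [hsv v, map_add, map_add, map_smul, map_smul, hsa₂, hsa₁, hsv v, smul_add, smul_smul]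
    have e : ∀ x y z w : V, (x + y + z) + y + (z + w) = x + w + (y + y) + (z + z) := by
      intro x y z w
      abel
    rw [e, zmod2_add_self, zmod2_add_self, add_zero, add_zero]
  have h4 : ∀ v, s (s (s (s v))) = v := by
    intro v
    rw [hss (s (s v)), hss v, map_add, map_smul, h, smul_zero, add_zero, add_assoc, zmod2_add_self, add_zero]
  have e : s ^ 4 = s * s * s * s := by
    simp only [pow_succ, pow_zero, one_mul]
  rw [e]
  apply LinearEquiv.ext
  intro v
  exact h4 v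

end

variable {G : Type*} [Group G] [Finite G]

theorem fitting_le_pPrimeCore_two (hO : pCore 2 G = ⊥) : fittingSubgroup G ≤ pPrimeCore 2 G := by
  haveI : Fact (Nat.Prime 2) := ⟨Nat.prime_two⟩
  rw [Cfsg.Agent.Lib.Basic.fittingSubgroup_eq_iSup_pCore]
  refine iSup_le fun p => ?_
  haveI : Fact (p : ℕ).Prime := ⟨p.2⟩
  by_cases hp : (p : ℕ) = 2
  · rw [hp, hO]
    exact bot_le
  · exact Cfsg.Agent.Lib.OddLocal.pCore_le_pPrimeCore_of_ne hp

theorem centralizer_pPrimeCore_two_le [Group.IsSolvable G] (hO : pCore 2 G = ⊥) :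
    Subgroup.centralizer (pPrimeCore 2 G : Set G) ≤ pPrimeCore 2 G := by
  have h1 := fitting_le_pPrimeCore_two hO
  have h2 := Cfsg.Agent.Lib.OddLocal.centralizer_fitting_le_of_solvable (G := G)
  exact (Subgroup.centralizer_le h1).trans (h2.trans h1)

/-- The square of an element of order four in a solvable linear group over `𝔽₂` with `O₂ = 1` is not a transvection. -/
theorem range_sq_card_ge_four {V : Type*} [AddCommGroup V] [Module (ZMod 2) V] [Finite V]
    (S : Subgroup (V ≃ₗ[ZMod 2] V)) (hS : Group.IsSolvable ↥S) (hO2 : pCore 2 ↥S = ⊥)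
    (P : V ≃ₗ[ZMod 2] V) (hPS : P ∈ S) (hP4 : orderOf P = 4) :
    4 ≤ Nat.card ↥(LinearMap.range (((P : V →ₗ[ZMod 2] V) - LinearMap.id) ^ 2)) := by
  classical
  by_contra hlt
  push_neg at hlt
  haveI : Finite (V ≃ₗ[ZMod 2] V) :=
    Finite.of_injective (fun f => (f : V → V)) (fun f g h => LinearEquiv.ext (congrFun h))
  set D : V →ₗ[ZMod 2] V := ((P : V →ₗ[ZMod 2] V) - LinearMap.id) ^ 2 with hD
  set t : V ≃ₗ[ZMod 2] V := P * P with ht
  have hPP : ∀ v, t v = P (P v) := fun v => rfl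
  have hDv : ∀ v, D v = t v + v := by
    intro v
    have h1 : ∀ u, ((P : V →ₗ[ZMod 2] V) - LinearMap.id : V →ₗ[ZMod 2] V) u = P u + u := by
      intro u
      rw [LinearMap.sub_apply]
      exact zmod2_sub _ _
    rw [hD, pow_two, Module.End.mul_apply, h1, h1, map_add, hPP]
    have e : ∀ x y z : V, x + y + (y + z) = x + z + (y + y) := by
      intro x y z
      abel
    rw [e, zmod2_add_self, add_zero]
  have htv : ∀ v, t v = D v + v := by
    intro v
    rw [hDv, add_assoc, zmod2_add_self, add_zero]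
  have ht1 : t ≠ 1 := by
    have : P ^ 2 ≠ 1 := pow_ne_one_of_lt_orderOf (by norm_num) (by omega)
    rwa [pow_two] at this
  have htt : t * t = 1 := by
    have : P ^ 4 = 1 := by rw [← hP4]; exact pow_orderOf_eq_one P
    rw [ht]
    rw [show P * P * (P * P) = P ^ 4 by simp only [pow_succ, pow_zero, one_mul, mul_assoc]]
    exact this
  obtain ⟨v₀, hv₀⟩ : ∃ v₀, D v₀ ≠ 0 := by
    by_contra hcon
    push_neg at hcon
    apply ht1
    apply LinearEquiv.ext
    intro v
    rw [htv, hcon, zero_add]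
    rfl
  set w := D v₀ with hw
  -- the range has exactly two elements
  have hdich : ∀ v, D v = 0 ∨ D v = w := by
    have h1 := Module.natCard_eq_pow_finrank (K := ZMod 2) (V := ↥(LinearMap.range D))
    rw [Nat.card_zmod] at h1
    set k := Module.finrank (ZMod 2) ↥(LinearMap.range D)
    have h2 : Nat.card ↥(LinearMap.range D) = 2 := by
      have hk : k < 2 := by
        by_contra hk
        push_neg at hk
        have : 2 ^ 2 ≤ 2 ^ k := Nat.pow_le_pow_right (by norm_num) hk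
        omega
      interval_cases k
      · exfalso
        rw [pow_zero] at h1
        have := (Nat.card_eq_one_iff_unique.mp h1).1
        have h3 : (⟨D v₀, ⟨v₀, rfl⟩⟩ : ↥(LinearMap.range D)) = 0 := Subsingleton.elim _ _
        exact hv₀ (congrArg Subtype.val h3)
      · simpa using h1
    obtain ⟨y, -, hy⟩ := (Nat.card_eq_two_iff' (0 : ↥(LinearMap.range D))).mp h2
    intro v
    by_cases hv : D v = 0
    · exact Or.inl hv
    · right
      have h3 := hy ⟨D v, ⟨v, rfl⟩⟩ (fun h => hv (congrArg Subtype.val h))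
      have h4 := hy ⟨D v₀, ⟨v₀, rfl⟩⟩ (fun h => hv₀ (congrArg Subtype.val h))
      have h5 := h3.trans h4.symm
      exact congrArg Subtype.val h5
  let φ : V →ₗ[ZMod 2] ZMod 2 :=
    { toFun := fun v => if D v = 0 then 0 else 1
      map_add' := by
        intro u v
        rcases hdich u with hu | hu <;> rcases hdich v with hv | hv
        · simp [map_add, hu, hv]
        · simp [map_add, hu, hv, hv₀]
        · simp [map_add, hu, hv, hv₀]
        · simp only [map_add, hu, hv, zmod2_add_self, hv₀, if_true, if_false]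
          all_goals rfl
      map_smul' := by
        intro c v
        have hc : c = 0 ∨ c = 1 := by
          revert c
          decide
        rcases hc with rfl | rfl
        · simp
        · simp }
  have hφ : ∀ v, φ v = if D v = 0 then 0 else 1 := fun v => rfl
  have hDφ : ∀ v, D v = φ v • w := by
    intro v
    rw [hφ]
    rcases hdich v with hv | hv
    · simp [hv]
    · simp [hv, hv₀]
  have hφv₀ : φ v₀ = 1 := by
    rw [hφ, if_neg hv₀]
  have hta : ∀ v, t v = v + φ v • w := by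
    intro v
    rw [htv, hDφ, add_comm]
  have hφw : φ w = 0 := by
    by_contra hne
    have h1 := zmod2_eq_one hne
    have h2 : t (t v₀) = v₀ := by
      have := congrArg (fun f : V ≃ₗ[ZMod 2] V => f v₀) htt
      exact this
    have h3 : t v₀ = v₀ + w := by
      rw [hta v₀, hφv₀, one_smul]
    have h4 : φ (t v₀) = 0 := by
      rw [h3, map_add, hφv₀, h1]
      rfl
    rw [hta (t v₀), h4, zero_smul, add_zero, h3] at h2
    apply hv₀
    have h5 : v₀ + w = v₀ + 0 := by rw [h2, add_zero]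
    exact add_left_cancel h5
  have hT : IsTv t w φ := ⟨hta, hφw⟩
  have hw0 : w ≠ 0 := hv₀
  have hPw : P w = w := by
    have h1 : t (P v₀) = P (t v₀) := rfl
    rw [hta, hta, map_add, map_smul, hφv₀, one_smul] at h1
    have h2 : φ (P v₀) • w = P w := add_left_cancel h1
    by_cases h3 : φ (P v₀) = 0
    · rw [h3, zero_smul] at h2
      exfalso
      apply hw0
      apply P.injective
      rw [← h2, map_zero]
    · rw [zmod2_eq_one h3, one_smul] at h2
      exact h2.symm
  -- group theory in `S`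
  haveI : Group.IsSolvable ↥S := hS
  set K := pPrimeCore 2 ↥S with hKdef
  have hKn : K.Normal := Cfsg.Agent.Lib.Basic.pPrimeCore_normal 2
  have hKc : (Nat.card K).Coprime 2 := Cfsg.Agent.Lib.Components.coprime_card_pPrimeCore 2
  have hKp : ∀ x ∈ K, x ^ 2 ^ 2 = 1 → x = 1 := by
    intro x hx h4
    have h1 : x ^ Nat.card K = 1 := by
      have h3 := congrArg Subtype.val (pow_card_eq_one' (x := (⟨x, hx⟩ : K)))
      rwa [Subgroup.coe_pow, Subgroup.coe_one] at h3
    have h5 := (pow_gcd_eq_one).mpr ⟨h1, h4⟩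
    rwa [(Nat.Coprime.pow_right 2 hKc).gcd_eq_one, pow_one] at h5
  have hKt : ∀ x ∈ K, ((x : ↥S) : V ≃ₗ[ZMod 2] V) ^ 4 = 1 → x = 1 := by
    intro x hx h4
    apply hKp x hx
    apply Subtype.ext
    simpa using h4
  let PS : ↥S := ⟨P, hPS⟩
  let tS : ↥S := PS * PS
  have htS : (tS : V ≃ₗ[ZMod 2] V) = t := rfl
  have httS : tS * tS = 1 := Subtype.ext htt
  have htSinv : tS⁻¹ = tS := inv_eq_of_mul_eq_one_left httS
  have htSK : tS ∉ K := by
    intro h
    have h1 : tS = 1 := by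
      apply hKp tS h
      show tS ^ 4 = 1
      have e : tS ^ 4 = (tS * tS) * (tS * tS) := by simp only [pow_succ, pow_zero, one_mul, mul_assoc]
      rw [e, httS, one_mul]
    apply ht1
    exact congrArg Subtype.val h1
  have hC := centralizer_pPrimeCore_two_le (G := ↥S) hO2
  have htSC : tS ∉ Subgroup.centralizer (K : Set ↥S) := fun h => htSK (hC h)
  rw [Subgroup.mem_centralizer_iff] at htSC
  push_neg at htSC
  obtain ⟨k, hkK, hkne⟩ := htSC
  have hK1 : ∀ k ∈ K, tS * (k * tS * k⁻¹) ∈ K := by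
    intro k hk
    have h1 := hKn.conj_mem k hk tS
    have e : tS * (k * tS * k⁻¹) = (tS * k * tS⁻¹) * k⁻¹ := by rw [htSinv]; group
    rw [e]
    exact K.mul_mem h1 (K.inv_mem hk)
  have hK2 : ∀ k ∈ K, (k * tS * k⁻¹) * tS ∈ K := by
    intro k hk
    have h1 := hKn.conj_mem k⁻¹ (K.inv_mem hk) tS
    have e : (k * tS * k⁻¹) * tS = k * (tS * k⁻¹ * tS⁻¹) := by rw [htSinv]; group
    rw [e]
    exact K.mul_mem hk h1
  set κ : V ≃ₗ[ZMod 2] V := (k : V ≃ₗ[ZMod 2] V) with hκ
  have hTa : IsTv (((k * tS * k⁻¹ : ↥S)) : V ≃ₗ[ZMod 2] V) (κ w) (φ.comp ((κ⁻¹ : V ≃ₗ[ZMod 2] V) : V →ₗ[ZMod 2] V)) :=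
    hT.conj κ
  set τa : ↥S := k * tS * k⁻¹ with hτa
  set a := κ w with ha
  set φa := φ.comp ((κ⁻¹ : V ≃ₗ[ZMod 2] V) : V →ₗ[ZMod 2] V) with hφa
  have ha0 : a ≠ 0 := by
    intro h
    apply hw0
    apply κ.injective
    rw [map_zero]
    exact h
  have hτne : τa ≠ tS := by
    intro h
    apply hkne
    have h1 : k * tS = τa * k := by rw [hτa]; group
    rw [h1, h]
  have hφa1 : φ a = 1 := by
    apply zmod2_eq_one
    intro h
    have h1 := hT.mul_pow_four hTa h
    have h2 : tS * τa = 1 := hKt _ (hK1 k hkK) h1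
    apply hτne
    calc τa = tS⁻¹ := eq_inv_of_mul_eq_one_right h2
      _ = tS := htSinv
  have hφaw : φa w = 1 := by
    apply zmod2_eq_one
    intro h
    have h1 := hTa.mul_pow_four hT h
    have h2 : τa * tS = 1 := hKt _ (hK2 k hkK) h1
    apply hτne
    calc τa = tS⁻¹ := eq_inv_of_mul_eq_one_left h2
      _ = tS := htSinv
  -- the conjugate by `P`
  have hTb : IsTv (((PS * τa * PS⁻¹ : ↥S)) : V ≃ₗ[ZMod 2] V) (P a) (φa.comp ((P⁻¹ : V ≃ₗ[ZMod 2] V) : V →ₗ[ZMod 2] V)) :=
    hTa.conj P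
  set τb : ↥S := PS * τa * PS⁻¹ with hτb
  set b := P a with hb
  set φb := φa.comp ((P⁻¹ : V ≃ₗ[ZMod 2] V) : V →ₗ[ZMod 2] V) with hφb
  have hτb' : τb = (PS * k * PS⁻¹) * tS * (PS * k * PS⁻¹)⁻¹ := by
    have e : PS * tS = tS * PS := rfl
    rw [hτb, hτa]
    have e2 : PS * (k * tS * k⁻¹) * PS⁻¹ = PS * k * (PS⁻¹ * (PS * tS)) * k⁻¹ * PS⁻¹ := by group
    have e3 : (PS * k * PS⁻¹) * tS * (PS * k * PS⁻¹)⁻¹ = PS * k * (PS⁻¹ * (tS * PS)) * k⁻¹ * PS⁻¹ := by group
    rw [e2, e3, e]
  have hk'K : PS * k * PS⁻¹ ∈ K := hKn.conj_mem k hkK PS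
  have hgen : ∀ x y : ↥S, x * y = (x * tS) * (tS * y) := by
    intro x y
    rw [mul_assoc, ← mul_assoc tS, httS, one_mul]
  have hab : τa * τb ∈ K := by
    rw [hgen]
    refine K.mul_mem (hK2 k hkK) ?_
    rw [hτb']
    exact hK1 _ hk'K
  have hba : τb * τa ∈ K := by
    rw [hgen]
    refine K.mul_mem ?_ (hK1 k hkK)
    rw [hτb']
    exact hK2 _ hk'K
  have hPinv : (P⁻¹ : V ≃ₗ[ZMod 2] V) a = b + w := by
    apply P.injective
    have h1 : P ((P⁻¹ : V ≃ₗ[ZMod 2] V) a) = a := P.apply_symm_apply a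
    rw [h1, map_add, hPw, hb]
    have h2 : P (P a) = t a := rfl
    rw [h2, hta, hφa1, one_smul, add_assoc, zmod2_add_self, add_zero]
  have hxx : φb a = φa b + 1 := by
    show φa ((P⁻¹ : V ≃ₗ[ZMod 2] V) a) = _
    rw [hPinv, map_add, hφaw]
  have hττ : τa = τb := by
    have hτa2 : τa * τa = 1 := by
      have : τa * τa = k * (tS * tS) * k⁻¹ := by rw [hτa]; group
      rw [this, httS]
      group
    by_cases hx : φa b = 0
    · have h1 := hTa.mul_pow_four hTb hx
      have h2 : τa * τb = 1 := hKt _ hab h1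
      calc τa = τa * (τa * τb) := by rw [h2, mul_one]
        _ = (τa * τa) * τb := by group
        _ = τb := by rw [hτa2, one_mul]
    · have hx1 := zmod2_eq_one hx
      have hx' : φb a = 0 := by
        rw [hxx, hx1]
        rfl
      have h1 := hTb.mul_pow_four hTa hx'
      have h2 : τb * τa = 1 := hKt _ hba h1
      calc τa = (τb * τa) * τa := by rw [h2, one_mul]
        _ = τb * (τa * τa) := by group
        _ = τb := by rw [hτa2, mul_one]
  have hall : ∀ v, φa v • a = φb v • b := by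
    intro v
    have h1 : ((τa : ↥S) : V ≃ₗ[ZMod 2] V) v = ((τb : ↥S) : V ≃ₗ[ZMod 2] V) v := by rw [← hττ]
    rw [hTa.app, hTb.app] at h1
    exact add_left_cancel h1
  have hab' : a = b := by
    have h1 := hall w
    rw [hφaw, one_smul] at h1
    by_cases h2 : φb w = 0
    · rw [h2, zero_smul] at h1
      exact absurd h1 ha0
    · rw [zmod2_eq_one h2, one_smul] at h1
      exact h1
  have hfin : φb a = φa a := by
    have h1 := hall a
    rw [← hab', hTa.zero, zero_smul] at h1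
    by_cases h2 : φb a = 0
    · rw [h2, hTa.zero]
    · rw [zmod2_eq_one h2, one_smul] at h1
      exact absurd h1.symm ha0
  rw [hfin, hTa.zero, ← hab', hTa.zero] at hxx
  exact absurd hxx (by decide)

end Cfsg.Agent.Lib.Struct
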